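import Groth.Agent.L27.SmoothLA.Lift
import Groth.Agent.L27.XV.Transfer
import Groth.Agent.L28.AcyComp.Iso

/-! # Étale morphisms are locally acyclic -/

set_option autoImplicit false
set_option linter.style.haveILetI false
set_option linter.unusedSectionVars false
set_option backward.isDefEq.respectTransparency.types false

universe u

open CategoryTheory CategoryTheory.Limits AlgebraicGeometry Opposite IsLocalRing

noncomputable section

namespace Groth.L27.SmoothLA

/-- Local maps of weakly étale strictly henselian algebras are bijective. -/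
theorem bijective_of_weaklyEtale {B S S' : Type u} [CommRing B] [CommRing S] [HenselianLocalRing S]
    [IsSepClosed (ResidueField S)] [Algebra B S] [Algebra.WeaklyEtale B S] [CommRing S'] [HenselianLocalRing S']
    [IsSepClosed (ResidueField S')] [Algebra B S'] [Algebra.WeaklyEtale B S'] (h : S →+* S') [IsLocalHom h]
    (hh : ∀ b, h (algebraMap B S b) = algebraMap B S' b) : Function.Bijective h := by
  let τ := ResidueField.map h
  have hsurj : Function.Surjective τ := by
    have hm : ∀ x, x ∈ τ.fieldRange := range_residue_le (B := B) (RingHom.id (ResidueField S')) τ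
      (fun b => ⟨residue S (algebraMap B S b), (ResidueField.map_residue h _).trans (by rw [hh]; rfl)⟩)
    exact fun x => hm x
  let e : ResidueField S ≃+* ResidueField S' := RingEquiv.ofBijective τ ⟨τ.injective, hsurj⟩
  obtain ⟨g, ⟨hg, hgr⟩, -⟩ := existsUnique_lift (B := B) (S := S') (T := S) (algebraMap B S) e.symm.toRingHom
    (fun b => e.injective ((e.apply_symm_apply _).trans
      (((ResidueField.map_residue h _).trans (by rw [hh])).symm)))
  obtain ⟨g₁, -, u₁⟩ := existsUnique_lift (B := B) (S := S) (T := S) (algebraMap B S) (RingHom.id _) (fun _ => rfl)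
  obtain ⟨g₂, -, u₂⟩ := existsUnique_lift (B := B) (S := S') (T := S') (algebraMap B S') (RingHom.id _) (fun _ => rfl)
  have h1 : g.comp h = RingHom.id S := (u₁ _ ⟨fun b => by rw [RingHom.comp_apply, hh, hg], fun x => by
    rw [RingHom.comp_apply, hgr, ← ResidueField.map_residue h]
    exact e.symm_apply_apply (residue S x)⟩).trans (u₁ _ ⟨fun _ => rfl, fun _ => rfl⟩).symm
  have h2 : h.comp g = RingHom.id S' := (u₂ _ ⟨fun b => by rw [RingHom.comp_apply, hg, hh], fun x => by
    rw [RingHom.comp_apply, ← ResidueField.map_residue h, hgr]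
    exact e.apply_symm_apply _⟩).trans (u₂ _ ⟨fun _ => rfl, fun _ => rfl⟩).symm
  exact Function.bijective_iff_has_inverse.2 ⟨g, fun x => RingHom.congr_fun h1 x, fun x => RingHom.congr_fun h2 x⟩

/-- Isomorphisms are acyclic. -/
theorem isAcyclicN_of_isIso {X Y : Scheme.{u}} (f : X ⟶ Y) [IsIso f] (L : Set ℕ) (n : ℕ) :
    EtAcyc.IsAcyclicN f L n := fun V => by
  haveI : IsIso (EtAcyc.prj f V) := inferInstanceAs (IsIso (pullback.fst V.hom f))
  intro F hF _
  exact ⟨fun q _ => L28.AcyComp.bijective_Hpull _ _ q, (L28.AcyComp.bijective_Hpull _ _ _).1⟩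

/-- The identity is locally acyclic. -/
theorem isLocAcyclicN_id (Y : Scheme.{u}) (L : Set ℕ) (n : ℕ) : EtAcyc.IsLocAcyclicN (𝟙 Y) L n := by
  intro x RY RX _ _ _ _ _ _ _ _ _ _ _ _ hc
  obtain ⟨_, _⟩ := StalkBC.henselian_strict x RX
  obtain ⟨_, _⟩ := StalkBC.henselian_strict (X := Y) ((𝟙 Y : Y ⟶ Y).base x) RY
  let B := Y.presheaf.stalk x
  have hstalk : ((𝟙 Y : Y ⟶ Y).stalkMap x).hom = RingHom.id B := by
    rw [Scheme.Hom.stalkMap_id]; rfl
  letI algY : Algebra B RY := (algebraMap (Y.presheaf.stalk ((𝟙 Y : Y ⟶ Y).base x)) RY).comp (RingHom.id B) |>.toAlgebra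
  haveI : Algebra.WeaklyEtale B RY := Groth.L27.IndEtale.weaklyEtale _ _
    (Groth.L05.Henselization.isIndEtale_of_isStrictHenselization (Y.presheaf.stalk ((𝟙 Y : Y ⟶ Y).base x)) RY)
  haveI : Algebra.WeaklyEtale B RX := Groth.L27.IndEtale.weaklyEtale _ _
    (Groth.L05.Henselization.isIndEtale_of_isStrictHenselization B RX)
  have hb := bijective_of_weaklyEtale (B := B) (algebraMap RY RX) (fun b => by
    have h := RingHom.congr_fun hc b
    rw [hstalk] at h
    exact h)
  haveI : IsIso (CommRingCat.ofHom (algebraMap RY RX)) :=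
    (RingEquiv.ofBijective (algebraMap RY RX) hb).toCommRingCatIso.isIso_hom
  exact isAcyclicN_of_isIso _ L n

/-- Weakly étale morphisms are locally acyclic. -/
theorem isLocAcyclicN_weaklyEtale {X Y : Scheme.{u}} (g : X ⟶ Y) [WeaklyEtale g] (L : Set ℕ) (n : ℕ) :
    EtAcyc.IsLocAcyclicN g L n :=
  XV.onStrict_transfer g (𝟙 Y) rfl (isLocAcyclicN_id Y L n)

end Groth.L27.SmoothLA
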