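import Groth.Agent.L27.SmoothLA.Fibres
import Groth.Agent.L27.SmoothLA.Etale
import Groth.Agent.L27.XV.Global
import Groth.Agent.L27.XV.GenericInj
import Groth.Agent.L27.XV.Proper
import Groth.Agent.L27.ULA.Base
import Mathlib.RingTheory.RingHom.StandardSmooth
import Mathlib.RingTheory.RingHom.LocallyStandardSmooth
import Mathlib.AlgebraicGeometry.Morphisms.Smooth
import Groth.Agent.S3514

/-! # Smooth morphisms are locally acyclic -/

set_option autoImplicit false
set_option linter.style.haveILetI false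
set_option linter.unusedSectionVars false
set_option backward.isDefEq.respectTransparency.types false

universe u

open CategoryTheory CategoryTheory.Limits AlgebraicGeometry Opposite IsLocalRing
open scoped TensorProduct

noncomputable section

namespace Groth.L27.SmoothLA

theorem isLocAcyclicN_of_no_prime {X Y : Scheme.{u}} (g : X ⟶ Y) (L : Set ℕ) (hL : ∀ ℓ ∈ L, ¬ ℓ.Prime) (n : ℕ) :
    EtAcyc.IsLocAcyclicN g L n := by
  intro x RY RX _ _ _ _ _ _ _ _ _ _ _ _ _ V F hF _
  have hz : IsZero F := XV.isZero_of_no_prime hL hF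
  have h1 : ∀ q, Subsingleton ((EtCoh.HF V.left q).obj F) := fun q =>
    AddCommGrpCat.subsingleton_of_isZero ((EtCoh.HF V.left q).map_isZero hz)
  have h2 : ∀ q, Subsingleton ((EtCoh.HF _ q).obj ((EtCoh.pull (EtAcyc.prj
      (Spec.map (CommRingCat.ofHom (algebraMap RY RX))) V)).obj F)) := fun q =>
    AddCommGrpCat.subsingleton_of_isZero ((EtCoh.HF _ q).map_isZero ((EtCoh.pull _).map_isZero hz))
  refine ⟨fun q _ => ⟨fun a b _ => @Subsingleton.elim _ (h1 q) a b, fun b => ⟨0, @Subsingleton.elim _ (h2 q) _ b⟩⟩, ?_⟩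
  exact fun a b _ => @Subsingleton.elim _ (h1 (n + 1)) a b

/-- The line is locally acyclic. -/
theorem isLocAcyclicN_line (R : Type u) [CommRing R] (L : Set ℕ) (hL : ∀ ℓ ∈ L, ℓ.Prime → IsUnit (ℓ : R)) (n : ℕ) :
    EtAcyc.IsLocAcyclicN (lineProj R) L n := by
  by_cases h : ∃ ℓ ∈ L, ℓ.Prime
  · exact XV.isLocAcyclicN_of_fibres _ L h n (geomFibres_line R L hL n)
  · push Not at h
    exact isLocAcyclicN_of_no_prime _ L h n

/-- Affine spaces are locally acyclic. -/
theorem isLocAcyclicN_affineSpace (R : Type u) [CommRing R] (L : Set ℕ) (hL : ∀ ℓ ∈ L, ℓ.Prime → IsUnit (ℓ : R))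
    (d n : ℕ) :
    EtAcyc.IsLocAcyclicN (Spec.map (CommRingCat.ofHom (MvPolynomial.C (σ := Fin d) (R := R)))) L n := by
  induction d with
  | zero =>
    haveI : IsIso (CommRingCat.ofHom (MvPolynomial.C (σ := Fin 0) (R := R))) :=
      ((MvPolynomial.isEmptyRingEquiv R (Fin 0)).symm.toCommRingCatIso).isIso_hom
    haveI : IsIso (Spec.map (CommRingCat.ofHom (MvPolynomial.C (σ := Fin 0) (R := R)))) := inferInstance
    exact isLocAcyclicN_weaklyEtale _ L n
  | succ d ih =>
    let Q := MvPolynomial (Fin d) R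
    let e := (MvPolynomial.finSuccEquiv R d).toRingEquiv
    let ε := Spec.map (CommRingCat.ofHom e.toRingHom)
    haveI : IsIso (CommRingCat.ofHom e.toRingHom) := e.toCommRingCatIso.isIso_hom
    haveI : IsIso ε := inferInstance
    let g := lineProj Q
    let h := Spec.map (CommRingCat.ofHom (MvPolynomial.C (σ := Fin d) (R := R)))
    have hg : Function.Surjective g.base := fun z =>
      ⟨(Spec.map (CommRingCat.ofHom (Polynomial.evalRingHom (0 : Q)))).base z, by
        rw [← Scheme.Hom.comp_apply, ← Spec.map_comp, ← CommRingCat.ofHom_comp,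
          show (Polynomial.evalRingHom (0 : Q)).comp Polynomial.C = RingHom.id Q from RingHom.ext fun r => by simp,
          CommRingCat.ofHom_id, Spec.map_id]
        rfl⟩
    have hgh : EtAcyc.IsLocAcyclicN (g ≫ h) L n := by
      refine ((Groth.Agent.S3514.result g h hg L n).1 (isLocAcyclicN_line Q L ?_ n)).1 ih
      intro ℓ hℓ hp
      simpa using (hL ℓ hℓ hp).map (MvPolynomial.C (σ := Fin d) (R := R))
    haveI : IsIso (inv ε) := inferInstance
    refine XV.onStrict_transfer (inv ε) (𝟙 _) ?_ hgh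
    rw [IsIso.inv_comp_eq, Category.comp_id, ← Spec.map_comp, ← Spec.map_comp]
    congr 1
    refine CommRingCat.hom_ext (RingHom.ext fun r => ?_)
    show Polynomial.C (MvPolynomial.C r) = MvPolynomial.finSuccEquiv R d (MvPolynomial.C r)
    exact ((MvPolynomial.finSuccEquiv R d).commutes r).symm

/-- Standard smooth algebras are locally acyclic. -/
theorem isLocAcyclicN_etale_over_affineSpace {R D : Type u} [CommRing R] [CommRing D] [Algebra R D] {d : ℕ}
    (φ : MvPolynomial (Fin d) R →ₐ[R] D) (hφ : φ.toRingHom.Etale) (L : Set ℕ)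
    (hL : ∀ ℓ ∈ L, ℓ.Prime → IsUnit (ℓ : R)) (n : ℕ) :
    EtAcyc.IsLocAcyclicN (Spec.map (CommRingCat.ofHom (algebraMap R D))) L n := by
  haveI : AlgebraicGeometry.Etale (Spec.map (CommRingCat.ofHom φ.toRingHom)) :=
    (HasRingHomProperty.Spec_iff (P := @AlgebraicGeometry.Etale)).2 hφ
  refine XV.onStrict_transfer (Spec.map (CommRingCat.ofHom φ.toRingHom)) (𝟙 _) ?_
    (isLocAcyclicN_affineSpace R L hL d n)
  rw [Category.comp_id, ← Spec.map_comp, ← CommRingCat.ofHom_comp]
  congr 2
  exact φ.comp_algebraMap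

/-- The maps of strict localisations of a smooth morphism are acyclic. -/
theorem isAcyclicN_strict {X Y : Scheme.{u}} (g : X ⟶ Y) [Smooth g] (x : X) (RY RX : Type u) [CommRing RY]
    [CommRing RX] [IsLocalRing RY] [IsLocalRing RX] [Algebra (Y.presheaf.stalk (g.base x)) RY]
    [IsLocalHom (algebraMap (Y.presheaf.stalk (g.base x)) RY)]
    [Hensel.IsStrictHenselization (Y.presheaf.stalk (g.base x)) RY]
    [Algebra (X.presheaf.stalk x) RX] [IsLocalHom (algebraMap (X.presheaf.stalk x) RX)]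
    [Hensel.IsStrictHenselization (X.presheaf.stalk x) RX] [Algebra RY RX] [IsLocalHom (algebraMap RY RX)]
    (hc : (algebraMap RY RX).comp (algebraMap (Y.presheaf.stalk (g.base x)) RY) =
      (algebraMap (X.presheaf.stalk x) RX).comp (g.stalkMap x).hom)
    (L : Set ℕ) (hu : ∀ ℓ ∈ L, ℓ.Prime → IsUnit (ℓ : RY)) (n : ℕ) :
    EtAcyc.IsAcyclicN (Spec.map (CommRingCat.ofHom (algebraMap RY RX))) L n := by
  obtain ⟨_, _⟩ := StalkBC.henselian_strict x RX
  obtain ⟨_, _⟩ := StalkBC.henselian_strict (X := Y) (g.base x) RY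
  let a := Hens2.specOf Y (g.base x) RY
  let bX := Hens2.specOf X x RX
  haveI : WeaklyEtale a := Acyclic0.weaklyEtale_fromStrict _ RY
  haveI : WeaklyEtale bX := Acyclic0.weaklyEtale_fromStrict x RX
  let h := Spec.map (CommRingCat.ofHom (algebraMap RY RX))
  let u := pullback.lift bX h (StalkBC.specOf_comp g x RY RX (algebraMap RY RX) hc).symm
  haveI : WeaklyEtale (u ≫ pullback.fst g a) := by rw [pullback.lift_fst]; infer_instance
  haveI : WeaklyEtale (pullback.fst g a) := MorphismProperty.pullback_fst (P := @WeaklyEtale) _ _ inferInstance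
  haveI : WeaklyEtale u := WeaklyEtale.of_comp u (pullback.fst g a)
  let W := pullback g a
  let gW : W ⟶ Spec (CommRingCat.of RY) := pullback.snd g a
  haveI : Smooth gW := MorphismProperty.pullback_snd (P := @Smooth) _ _ inferInstance
  -- a standard chart around the image of the closed point
  let w := u (closedPoint RX)
  obtain ⟨U, hU, hwU, hsub⟩ := exists_isAffineOpen_mem_and_subset (X := W) (x := w) (U := ⊤) trivial
  let D := Γ(W, U)
  letI : Algebra RY D := ((gW.appLE ⊤ U (fun _ _ => trivial)).hom.comp (Scheme.ΓSpecIso (CommRingCat.of RY)).inv.hom).toAlgebra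
  have hUW : hU.fromSpec ≫ gW = Spec.map (CommRingCat.ofHom (algebraMap RY D)) := by
    show _ = Spec.map ((Scheme.ΓSpecIso (CommRingCat.of RY)).inv ≫ gW.appLE ⊤ U (fun _ _ => trivial))
    rw [Spec.map_comp, ← IsAffineOpen.SpecMap_appLE_fromSpec gW (isAffineOpen_top _) hU (fun _ _ => trivial)]
    congr 1
    exact IsAffineOpen.fromSpec_top.trans (Scheme.isoSpec_Spec_inv _)
  have hloc : RingHom.Locally RingHom.IsStandardSmooth (algebraMap RY D) := by
    haveI : Smooth (Spec.map (CommRingCat.ofHom (algebraMap RY D))) := by rw [← hUW]; infer_instance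
    exact RingHom.smooth_iff_locally_isStandardSmooth.1 ((HasRingHomProperty.Spec_iff (P := @Smooth)).1 this)
  obtain ⟨S, hS, hP⟩ := hloc
  let y : Ideal D := (hU.primeIdealOf ⟨w, hwU⟩).asIdeal
  obtain ⟨f, hfS, hfy⟩ : ∃ f ∈ S, f ∉ y := by
    by_contra! hc'
    exact Ideal.IsPrime.ne_top (hU.primeIdealOf ⟨w, hwU⟩).isPrime
      (top_le_iff.mp (hS ▸ Ideal.span_le.mpr hc' : (⊤ : Ideal D) ≤ y))
  let Df := Localization.Away f
  have hDf : (algebraMap RY Df).IsStandardSmooth := by
    have h := hP f hfS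
    rwa [← IsScalarTower.algebraMap_eq RY D Df] at h
  obtain ⟨d, ψ, hψC, hψ⟩ := hDf.exists_etale_mvPolynomial
  let φ : MvPolynomial (Fin d) RY →ₐ[RY] Df := { ψ with commutes' := fun r => RingHom.congr_fun hψC r }
  have hφ : φ.toRingHom.Etale := hψ
  let c : Spec (CommRingCat.of Df) ⟶ W := Spec.map (CommRingCat.ofHom (algebraMap D Df)) ≫ hU.fromSpec
  haveI : IsOpenImmersion (Spec.map (CommRingCat.ofHom (algebraMap D Df))) := IsOpenImmersion.of_isLocalization f
  haveI : IsOpenImmersion c := inferInstance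
  have hw : w ∈ Set.range c := by
    refine ⟨⟨Ideal.map (algebraMap D Df) y, ?_⟩, ?_⟩
    · exact IsLocalization.isPrime_of_isPrime_disjoint (Submonoid.powers f) Df y (hU.primeIdealOf ⟨w, hwU⟩).isPrime
        ((Ideal.disjoint_powers_iff_notMem f (hU.primeIdealOf ⟨w, hwU⟩).isPrime.isRadical).2 hfy)
    · rw [Scheme.Hom.comp_apply]
      refine Eq.trans (congrArg hU.fromSpec ?_) (hU.fromSpec_primeIdealOf ⟨w, hwU⟩)
      refine PrimeSpectrum.ext ?_
      exact IsLocalization.comap_map_of_isPrime_disjoint (Submonoid.powers f) Df (hU.primeIdealOf ⟨w, hwU⟩).isPrime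
        ((Ideal.disjoint_powers_iff_notMem f (hU.primeIdealOf ⟨w, hwU⟩).isPrime.isRadical).2 hfy)
  have hrange : Set.range u ⊆ Set.range c := by
    rintro _ ⟨z, rfl⟩
    exact ((IsLocalRing.specializes_closedPoint z).map u.continuous).mem_open c.isOpenEmbedding.isOpen_range hw
  let u' := IsOpenImmersion.lift c u hrange
  haveI : WeaklyEtale (u' ≫ c) := by rw [IsOpenImmersion.lift_fac]; infer_instance
  haveI : WeaklyEtale u' := WeaklyEtale.of_comp u' c
  have hloc' := isLocAcyclicN_etale_over_affineSpace φ hφ L hu n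
  refine XV.acyclic_of_loc (Spec.map (CommRingCat.ofHom (algebraMap RY Df))) L n hloc' RY RX (𝟙 _) u' ?_
  rw [Category.comp_id, show Spec.map (CommRingCat.ofHom (algebraMap RY Df)) = c ≫ gW by
    rw [Category.assoc, hUW, ← Spec.map_comp, ← CommRingCat.ofHom_comp, ← IsScalarTower.algebraMap_eq],
    IsOpenImmersion.lift_fac_assoc]
  exact pullback.lift_snd _ _ _

theorem isUnit_strict {X Y : Scheme.{u}} (g : X ⟶ Y) (x : X) (RY RX : Type u) [CommRing RY] [CommRing RX]
    [IsLocalRing RY] [IsLocalRing RX] [Algebra (X.presheaf.stalk x) RX] [Algebra RY RX]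
    [IsLocalHom (algebraMap RY RX)] {ℓ : ℕ} (h : (ℓ : X.residueField x) ≠ 0) : IsUnit (ℓ : RY) := by
  have h1 : IsUnit (ℓ : X.presheaf.stalk x) := by
    refine (residue_ne_zero_iff_isUnit _).1 ?_
    rw [map_natCast]
    exact h
  have h2 : IsUnit ((ℓ : RX)) := by simpa using h1.map (algebraMap (X.presheaf.stalk x) RX)
  exact isUnit_of_map_unit (algebraMap RY RX) _ (by rwa [map_natCast])

/-- Smooth morphisms are locally acyclic for primes invertible at the source. -/
theorem isLocAcyclicN_smooth {X Y : Scheme.{u}} (g : X ⟶ Y) [Smooth g] (L : Set ℕ)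
    (hL : ∀ ℓ ∈ L, ℓ.Prime → ∀ x : X, (ℓ : X.residueField x) ≠ 0) (n : ℕ) :
    EtAcyc.IsLocAcyclicN g L n := fun x RY RX _ _ _ _ _ _ _ _ _ _ _ _ hc =>
  isAcyclicN_strict g x RY RX hc L (fun ℓ hℓ hp => isUnit_strict g x RY RX (hL ℓ hℓ hp x)) n

/-- Smooth morphisms are universally locally acyclic for primes invertible on the target. -/
theorem isULocAcyclicN_smooth {X Y : Scheme.{u}} (g : X ⟶ Y) [Smooth g] (L : Set ℕ)
    (hL : ∀ ℓ ∈ L, ℓ.Prime → ∀ y : Y, (ℓ : Y.residueField y) ≠ 0) (n : ℕ) :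
    EtAcyc.IsULocAcyclicN g L n := fun X₁ Y₁ g₁ b' b c => by
  haveI : Smooth g₁ := MorphismProperty.of_isPullback (P := @Smooth) c ‹Smooth g›
  refine isLocAcyclicN_smooth g₁ L (fun ℓ hℓ hp z h => hL ℓ hℓ hp ((b' ≫ g) z) ?_) n
  refine ((b' ≫ g).residueFieldMap z).hom.injective ?_
  rw [map_natCast, map_zero]
  exact h

/-- The maps of strict localisations of a smooth morphism are universally locally acyclic. -/
theorem isULocAcyclicN_strict {X Y : Scheme.{u}} (g : X ⟶ Y) [Smooth g] (x : X) (RY RX : Type u) [CommRing RY]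
    [CommRing RX] [IsLocalRing RY] [IsLocalRing RX] [Algebra (Y.presheaf.stalk (g.base x)) RY]
    [IsLocalHom (algebraMap (Y.presheaf.stalk (g.base x)) RY)]
    [Hensel.IsStrictHenselization (Y.presheaf.stalk (g.base x)) RY]
    [Algebra (X.presheaf.stalk x) RX] [IsLocalHom (algebraMap (X.presheaf.stalk x) RX)]
    [Hensel.IsStrictHenselization (X.presheaf.stalk x) RX] [Algebra RY RX] [IsLocalHom (algebraMap RY RX)]
    (hc : (algebraMap RY RX).comp (algebraMap (Y.presheaf.stalk (g.base x)) RY) =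
      (algebraMap (X.presheaf.stalk x) RX).comp (g.stalkMap x).hom)
    (L : Set ℕ) (hu : ∀ ℓ ∈ L, ℓ.Prime → IsUnit (ℓ : RY)) (n : ℕ) :
    EtAcyc.IsULocAcyclicN (Spec.map (CommRingCat.ofHom (algebraMap RY RX))) L n := by
  obtain ⟨_, _⟩ := StalkBC.henselian_strict x RX
  obtain ⟨_, _⟩ := StalkBC.henselian_strict (X := Y) (g.base x) RY
  let a := Hens2.specOf Y (g.base x) RY
  let bX := Hens2.specOf X x RX
  haveI : WeaklyEtale a := Acyclic0.weaklyEtale_fromStrict _ RY
  haveI : WeaklyEtale bX := Acyclic0.weaklyEtale_fromStrict x RX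
  let h := Spec.map (CommRingCat.ofHom (algebraMap RY RX))
  let u := pullback.lift bX h (StalkBC.specOf_comp g x RY RX (algebraMap RY RX) hc).symm
  haveI : WeaklyEtale (u ≫ pullback.fst g a) := by rw [pullback.lift_fst]; infer_instance
  haveI : WeaklyEtale (pullback.fst g a) := MorphismProperty.pullback_fst (P := @WeaklyEtale) _ _ inferInstance
  haveI : WeaklyEtale u := WeaklyEtale.of_comp u (pullback.fst g a)
  haveI : Smooth (pullback.snd g a) := MorphismProperty.pullback_snd (P := @Smooth) _ _ inferInstance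
  have := ULA.isULocAcyclicN_weaklyEtale u (isULocAcyclicN_smooth (pullback.snd g a) L (fun ℓ hℓ hp y h0 => by
    have h1 := ((hu ℓ hℓ hp).map (evalPt RY y)).ne_zero
    rw [map_natCast] at h1
    exact h1 h0) n)
  rwa [pullback.lift_snd] at this

end Groth.L27.SmoothLA
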