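import Groth.Agent.L27.SmoothLA.BCCrit
import Groth.Agent.L19.Limit.OverBase

/-! # Universal base change passes to limits with affine transition morphisms -/

set_option autoImplicit false
set_option linter.style.haveILetI false
set_option linter.unusedSectionVars false
set_option backward.isDefEq.respectTransparency.types false
set_option backward.isDefEq.respectTransparency false
set_option backward.defeqAttrib.useBackward true

universe u

open CategoryTheory CategoryTheory.Limits AlgebraicGeometry Opposite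

noncomputable section

namespace Groth.L27.SmoothLA

variable {I : Type u} [SmallCategory I] [IsCofiltered I] {D : I ⥤ Scheme.{u}} {S : Scheme.{u}}
  (t : ∀ i, D.obj i ⟶ S) (ht : ∀ {i j : I} (φ : i ⟶ j), D.map φ ≫ t j = t i)
  [∀ {i j} (f : i ⟶ j), IsAffineHom (D.map f)] {c : Cone D}
  (g : c.pt ⟶ S) (hg : ∀ i, c.π.app i ≫ t i = g) {L : Set ℕ} {n : ℕ}

include ht hg in
theorem ubc_limit (hc : IsLimit c) (h : ∀ i, UBC (t i) L n) : UBC g L n := by
  intro X₁ Y₁ g₁ b' b sq T T' f _ _ f' e cc _ G hG k hk
  -- the base changed system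
  let D₁ := L19.Limit.baseDiagram b t ht
  let t₁ : ∀ i, D₁.obj i ⟶ Y₁ := fun i => pullback.fst b (t i)
  have ht₁ : ∀ {i j : I} (φ : i ⟶ j), D₁.map φ ≫ t₁ j = t₁ i := fun φ => by
    simp [D₁, t₁, L19.Limit.baseDiagram]
  haveI haff₁ : ∀ {i j : I} (φ : i ⟶ j), IsAffineHom (D₁.map φ) := fun φ =>
    L19.Limit.isAffineHom_baseDiagram_map b t ht φ
  let cX : Cone D₁ :=
    { pt := X₁
      π :=
        { app := fun i => pullback.lift g₁ (b' ≫ c.π.app i) (by rw [Category.assoc, hg, sq.w])
          naturality := fun i j φ => by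
            apply pullback.hom_ext
            · simp [D₁, L19.Limit.baseDiagram]
            · simp [D₁, L19.Limit.baseDiagram] } }
  let hcX : IsLimit cX := IsLimit.ofIsoLimit (L19.Limit.isLimitBaseCone b t ht g hg hc)
    (Cone.ext sq.flip.isoPullback fun i => by
      apply pullback.hom_ext
      · simp [cX, L19.Limit.baseCone]
      · simp [cX, L19.Limit.baseCone]).symm
  have hX : ∀ i, cX.π.app i ≫ t₁ i = g₁ := fun i => pullback.lift_fst _ _ _
  let D₂ := L19.Limit.baseDiagram f t₁ ht₁
  let cY : Cone D₂ :=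
    { pt := T'
      π :=
        { app := fun i => pullback.lift e (f' ≫ cX.π.app i) (by rw [Category.assoc, hX, cc.w])
          naturality := fun i j φ => by
            apply pullback.hom_ext
            · simp [D₂, L19.Limit.baseDiagram]
            · simp [D₂, L19.Limit.baseDiagram] } }
  let hcY : IsLimit cY := IsLimit.ofIsoLimit (L19.Limit.isLimitBaseCone (c := cX) f t₁ ht₁ g₁ hX hcX)
    (Cone.ext cc.isoPullback fun i => by
      apply pullback.hom_ext
      · simp [cY, L19.Limit.baseCone]
      · simp [cY, L19.Limit.baseCone]).symm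
  let fN : D₁ ⟶ LimBC.constD I Y₁ :=
    { app := t₁
      naturality := fun i j φ => (ht₁ φ).trans (Category.comp_id _).symm }
  let gN : LimBC.constD I T ⟶ LimBC.constD I Y₁ := (Functor.const _).map f
  let eN : D₂ ⟶ LimBC.constD I T :=
    { app := fun i => pullback.fst f (t₁ i)
      naturality := fun i j φ => by simp [D₂, L19.Limit.baseDiagram] }
  let hN : D₂ ⟶ D₁ := L19.Limit.baseSnd f t₁ ht₁
  haveI : ∀ i, PreservesFiniteLimits (EtCoh.pull (eN.app i)) := fun i => EtSite.preservesFiniteLimits_pull _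
  haveI : ∀ i, QuasiCompact (gN.app i) := fun _ => ‹QuasiCompact f›
  haveI : ∀ i, QuasiSeparated (gN.app i) := fun _ => ‹QuasiSeparated f›
  haveI : ∀ (a b : I) (m : a ⟶ b), IsAffineHom (D₁.map m) := fun _ _ m => haff₁ m
  haveI : ∀ (a b : I) (m : a ⟶ b), IsAffineHom ((LimBC.constD I Y₁).map m) := fun _ _ _ =>
    inferInstanceAs (IsAffineHom (𝟙 Y₁))
  haveI : ∀ (a b : I) (m : a ⟶ b), IsAffineHom ((LimBC.constD I T).map m) := fun _ _ _ =>
    inferInstanceAs (IsAffineHom (𝟙 T))
  haveI : ∀ (a b : I) (m : a ⟶ b), IsAffineHom (D₂.map m) := fun _ _ m =>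
    L19.Limit.isAffineHom_baseDiagram_map f t₁ ht₁ m
  have sqs : ∀ i, IsPullback (eN.app i) (hN.app i) (gN.app i) (fN.app i) := fun i =>
    IsPullback.of_hasPullback f (t₁ i)
  haveI := LimBC.isIso_toLim_constCocn I G
  let e₀ : cY.pt ⟶ (LimBC.constC I T).pt := e
  haveI : PreservesFiniteLimits (EtCoh.pull e₀) := ‹PreservesFiniteLimits (EtCoh.pull e)›
  exact LimBC.isIso_bcQ_limit (fN := fN) (gN := gN) (hN := hN) (eN := eN) sqs
    (cX := cX) (cS := LimBC.constC I Y₁) (cT := LimBC.constC I T) (cY := cY)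
    (f := g₁) (g := f) (h := f') (e := e₀)
    (fun i => (Category.comp_id _).trans (hX i).symm) (fun i => (Category.comp_id _).trans (Category.id_comp _).symm)
    (fun i => (pullback.lift_snd _ _ _).symm) (fun i => (Category.comp_id _).trans (pullback.lift_fst _ _ _).symm)
    cc k hcX (LimBC.isLimitConstC _ Y₁) (LimBC.isLimitConstC _ T) hcY (LimBC.constCocn I G)
    fun i => h i (fN.app i) (pullback.snd b (t i)) b (IsPullback.of_hasPullback b (t i)).flip (gN.app i) (hN.app i)
      (eN.app i) (sqs i) G hG k hk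

end Groth.L27.SmoothLA
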