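import Groth.Agent.L27.SmoothLA.Main
import Groth.Agent.L27.ULA.Main
import Groth.Agent.L27.ULA.Fibre
import Groth.Agent.L27.XV.ConstDevissage
import Groth.Prelude.Def_EtBCD
import Groth.Prelude.Def_EtAcyc
import Mathlib.AlgebraicGeometry.Morphisms.Smooth
import Mathlib.AlgebraicGeometry.Morphisms.QuasiSeparated

/-! # Smooth base change and vanishing cycles of smooth morphisms -/

set_option autoImplicit false
set_option linter.style.haveILetI false
set_option linter.unusedSectionVars false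
set_option backward.isDefEq.respectTransparency.types false

universe u

open CategoryTheory CategoryTheory.Limits AlgebraicGeometry Opposite IsLocalRing
open scoped TensorProduct
attribute [local instance] HasDerivedCategory.standard

noncomputable section

namespace Groth.L27.SmoothLA

/-- The smooth base change morphism is an isomorphism. -/
theorem isIso_bcMap_smooth {X Y X' Y' : Scheme.{u}} (f : X ⟶ Y) (g : Y' ⟶ Y)
    (f' : X' ⟶ Y') (g' : X' ⟶ X) (h : IsPullback g' f' f g) [QuasiCompact f] [QuasiSeparated f] [Smooth g]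
    [PreservesFiniteLimits (EtCoh.pull g)] [PreservesFiniteLimits (EtCoh.pull g')]
    [DCoh.HasRpushEt X f] [DCoh.HasRpushEt X' f'] [DCoh.HasRpushEt Y' g]
    (adj : EtBC.pullD g ⊣ DCoh.RpushEt Y' g) (F : EtCoh.Ab X)
    (hF : EtAcyc.IsLTorsion (EtAcyc.primesInvertibleOn Y) F) :
    IsIso (EtBC.bcMap f g f' g' h.w adj (EtBC.single X F)) := by
  refine (DerivedCategory.isIso_iff (EtCoh.Ab Y') _).2 fun q => ?_
  exact (ULA.homology_bcMap_uLoc (n := q.toNat) f g f' g' h
    (isULocAcyclicN_smooth g _ (fun ℓ hℓ _ y => hℓ.2 y) _) adj F hF).1 q (Int.self_le_toNat q)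

/-- Vanishing cycles of a smooth morphism with constant coefficients. -/
theorem vanishingCycles_smooth {X S : Scheme.{u}} (f : X ⟶ S) [Smooth f] (x : X)
    (RS RX : Type u) [CommRing RS] [CommRing RX] [IsLocalRing RS] [IsLocalRing RX]
    [Algebra (S.presheaf.stalk (f.base x)) RS] [IsLocalHom (algebraMap (S.presheaf.stalk (f.base x)) RS)]
    [Hensel.IsStrictHenselization (S.presheaf.stalk (f.base x)) RS]
    [Algebra (X.presheaf.stalk x) RX] [IsLocalHom (algebraMap (X.presheaf.stalk x) RX)]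
    [Hensel.IsStrictHenselization (X.presheaf.stalk x) RX]
    [Algebra RS RX] [IsLocalHom (algebraMap RS RX)]
    (hc : (algebraMap RS RX).comp (algebraMap (S.presheaf.stalk (f.base x)) RS) =
      (algebraMap (X.presheaf.stalk x) RX).comp (f.stalkMap x).hom)
    (Ω : Type u) [Field Ω] [IsSepClosed Ω] [Algebra RS Ω] (n : ℕ) (hn : (n : X.residueField x) ≠ 0)
    (q : ℕ) :
    (0 < q → Subsingleton (EtCoh.H (Spec (CommRingCat.of (RX ⊗[RS] Ω)))
      (EtCoh.const (Spec (CommRingCat.of (RX ⊗[RS] Ω))) (ZMod n)) q)) ∧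
    Nonempty (EtCoh.H (Spec (CommRingCat.of (RX ⊗[RS] Ω)))
      (EtCoh.const (Spec (CommRingCat.of (RX ⊗[RS] Ω))) (ZMod n)) 0 ≃+ ZMod n) := by
  have hn0 : n ≠ 0 := fun h => hn (by rw [h, Nat.cast_zero])
  haveI : NeZero n := ⟨hn0⟩
  let L : Set ℕ := {ℓ | ℓ.Prime ∧ (ℓ : X.residueField x) ≠ 0}
  have hu : ∀ ℓ ∈ L, ℓ.Prime → IsUnit (ℓ : RS) := fun ℓ hℓ _ => isUnit_strict f x RS RX hℓ.2
  have hX : ∀ m, EtAcyc.IsAcyclicN (Spec.map (CommRingCat.ofHom (algebraMap RS RX))) L m := fun m =>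
    isAcyclicN_strict f x RS RX hc L hu m
  have hU : ∀ m, EtAcyc.IsULocAcyclicN (Spec.map (CommRingCat.ofHom (algebraMap RS RX))) L m := fun m =>
    isULocAcyclicN_strict f x RS RX hc L hu m
  let W := Spec (CommRingCat.of (RX ⊗[RS] Ω))
  obtain ⟨p, hp, hpn⟩ : ∃ p : ℕ, p.Prime ∧ (p : X.residueField x) ≠ 0 := by
    rcases eq_or_ne (2 : X.residueField x) 0 with h2 | h2
    · exact ⟨3, Nat.prime_three, fun h3 => one_ne_zero (α := X.residueField x) (by
        push_cast at h3; linear_combination h3 - h2)⟩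
    · exact ⟨2, Nat.prime_two, by exact_mod_cast h2⟩
  have hacy : ∀ m, EtAcyc.IsAcyclicSchemeN L m W := fun m =>
    XV.isAcyclicScheme_of_iso (pullbackSpecIso RS RX Ω).inv
      (ULA.isAcyclicScheme_fibre _ (hU m) (hX m) Ω ⟨p, ⟨hp, hpn⟩, hp⟩)
  refine ⟨fun hq => ?_, ?_⟩
  · obtain ⟨-, -, h⟩ := hacy q
    refine XV.subsingleton_H_K_finite (L := L) (fun ℓ h1 h2 => h ℓ h1 h2 q hq le_rfl) n
      (AddCommGrpCat.of (ULift.{u + 1} (ZMod n))) (by simp) fun a => ?_
    refine ⟨n, ⟨Nat.pos_of_ne_zero hn0, fun r hr hd => ⟨hr, fun h => hn ?_⟩⟩, ?_⟩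
    · obtain ⟨c, rfl⟩ := hd
      rw [Nat.cast_mul, h, zero_mul]
    · exact ULift.ext _ _ (by
        show n • a.down = 0
        rw [nsmul_eq_mul, ZMod.natCast_self, zero_mul])
  · obtain ⟨-, hc', -⟩ := hacy 0
    haveI := hc'
    exact ULA.nonempty_H0_connected W n

end Groth.L27.SmoothLA
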