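import Groth.Agent.L27.ULA.Main
import Groth.Agent.L27.LimBC.StrictLocal
import Groth.Agent.L27.LimBC.LAFibre
import Groth.Agent.S6667

/-! # Universal base change and universal local acyclicity -/

set_option autoImplicit false
set_option linter.style.haveILetI false
set_option linter.unusedSectionVars false
set_option backward.isDefEq.respectTransparency.types false

universe u

open CategoryTheory CategoryTheory.Limits AlgebraicGeometry Opposite IsLocalRing

noncomputable section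

namespace Groth.L27.SmoothLA

/-- Base change holds in degrees `≤ n`, after every base change, for all qcqs morphisms. -/
def UBC {X Y : Scheme.{u}} (g : X ⟶ Y) (L : Set ℕ) (n : ℕ) : Prop :=
  ∀ ⦃X₁ Y₁ : Scheme.{u}⦄ (g₁ : X₁ ⟶ Y₁) (b' : X₁ ⟶ X) (b : Y₁ ⟶ Y), IsPullback b' g₁ g b →
    ∀ ⦃T T' : Scheme.{u}⦄ (f : T ⟶ Y₁) [QuasiCompact f] [QuasiSeparated f] (f' : T' ⟶ X₁) (e : T' ⟶ T)
      (c : IsPullback e f' f g₁) [PreservesFiniteLimits (EtCoh.pull e)] (G : EtCoh.Ab T),
      EtAcyc.IsLTorsion L G → ∀ k ≤ n, IsIso (EtBC.bcQ f g₁ f' e c.w k G)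

theorem ubc_of_uLoc {X Y : Scheme.{u}} {g : X ⟶ Y} {L : Set ℕ} {n : ℕ} (hg : EtAcyc.IsULocAcyclicN g L n) :
    UBC g L n := fun _ _ g₁ _ _ sq _ _ f _ _ f' e c _ G hG k hk =>
  ULA.isIso_bcQ_of_uLoc f g₁ f' e c (ULA.isULocAcyclicN_baseChange sq hg) G hG k hk

/-- Restriction to weakly etale strictly local charts of an invertible base change map. -/
theorem bijective_Hpull_of_bcQ {X S T T' : Scheme.{u}} (g : X ⟶ S) (f : T ⟶ S) [QuasiCompact f] [QuasiSeparated f]
    (f' : T' ⟶ X) (e : T' ⟶ T) (c : IsPullback e f' f g) [PreservesFiniteLimits (EtCoh.pull e)]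
    (F : EtCoh.Ab T) (q : ℕ) (hiso : IsIso (EtBC.bcQ f g f' e c.w q F))
    (RS RX : Type u) [CommRing RS] [HenselianLocalRing RS] [IsSepClosed (ResidueField RS)] [CommRing RX]
    [HenselianLocalRing RX] [IsSepClosed (ResidueField RX)] (ψ : RS →+* RX) [IsLocalHom ψ]
    (a : Spec (CommRingCat.of RS) ⟶ S) [WeaklyEtale a] (b : Spec (CommRingCat.of RX) ⟶ X) [WeaklyEtale b]
    (hab : b ≫ g = Spec.map (CommRingCat.ofHom ψ) ≫ a)
    {PS PX : Scheme.{u}} (aS : PS ⟶ T) (bS : PS ⟶ Spec (CommRingCat.of RS)) (cS : IsPullback aS bS f a)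
    (bX : PX ⟶ Spec (CommRingCat.of RX)) (m : PX ⟶ PS)
    (cm : IsPullback bX m (Spec.map (CommRingCat.ofHom ψ)) bS) [PreservesFiniteLimits (EtCoh.pull m)] :
    Function.Bijective (EtCore.Hpull m ((EtCoh.pull aS).obj F) q) := by
  let x := b (closedPoint RX)
  letI : Algebra (X.presheaf.stalk x) RX := (Scheme.stalkClosedPointTo b).hom.toAlgebra
  obtain ⟨_, hAX⟩ := LimBC.isStrictHenselization_closedPointTo RX b
  letI : Algebra (S.presheaf.stalk (a (closedPoint RS))) RS := (Scheme.stalkClosedPointTo a).hom.toAlgebra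
  obtain ⟨_, hRS⟩ := LimBC.isStrictHenselization_closedPointTo RS a
  have hsx : g x = a (closedPoint RS) := by
    refine (Scheme.Hom.comp_apply b g _).symm.trans ?_
    rw [hab, Scheme.Hom.comp_apply]
    exact congrArg a (IsLocalRing.comap_closedPoint ψ)
  have key : ∀ (s : S) (hs : g x = s) [Algebra (S.presheaf.stalk s) RS]
      [IsLocalHom (algebraMap (S.presheaf.stalk s) RS)] [Hensel.IsStrictHenselization (S.presheaf.stalk s) RS],
      Hens2.specOf S s RS = a → Function.Bijective (EtCore.Hpull m ((EtCoh.pull aS).obj F) q) := by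
    intro s hs _ _ _ hspec
    subst hs
    subst hspec
    have hx : Hens2.specOf X x RX = b := Scheme.Spec_stalkClosedPointTo_fromSpecStalk b
    have hψ : ψ.comp (algebraMap (S.presheaf.stalk (g x)) RS) =
        (algebraMap (X.presheaf.stalk x) RX).comp (g.stalkMap x).hom := by
      have h : CommRingCat.ofHom (algebraMap (S.presheaf.stalk (g x)) RS) ≫ CommRingCat.ofHom ψ =
          g.stalkMap x ≫ CommRingCat.ofHom (algebraMap (X.presheaf.stalk x) RX) := by
        apply Spec.map_injective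
        rw [← cancel_mono (S.fromSpecStalk (g x)), Spec.map_comp, Spec.map_comp, Category.assoc, Category.assoc,
          Scheme.SpecMap_stalkMap_fromSpecStalk]
        exact hab.symm.trans ((congrArg (· ≫ g) hx.symm).trans (Category.assoc _ _ _))
      exact congrArg CommRingCat.Hom.hom h
    have cX : IsPullback (m ≫ aS) bX f (Hens2.specOf X x RX ≫ g) := by
      rw [hx, hab]
      exact cm.flip.paste_horiz cS
    have h := (Groth.Agent.S6667.result g f f' e c F q).2 hiso x RS RX ψ hψ PS PX aS bS cS (m ≫ aS) bX cX m rfl cm.w.symm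
    let θ := (EtCoh.HF PX q).map (((EtCore.pullComp m aS).symm ≪≫ EtCore.pullCongr (rfl : m ≫ aS = m ≫ aS)).app F).hom
    exact (Function.Bijective.of_comp_iff' (ConcreteCategory.bijective_of_isIso θ) _).1 h
  exact key _ hsx (Scheme.Spec_stalkClosedPointTo_fromSpecStalk a)

/-- Bijectivity of pullbacks of constants gives acyclicity. -/
theorem isAcyclicScheme_of_bijective (Ω : Type u) [Field Ω] [IsSepClosed Ω] {P : Scheme.{u}}
    (m : P ⟶ Spec (CommRingCat.of Ω)) [PreservesFiniteLimits (EtCoh.pull m)] {L : Set ℕ} {n : ℕ}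
    (hL : ∃ l ∈ L, l.Prime) (H : ∀ l ∈ L, l.Prime → ∀ q ≤ n,
      Function.Bijective (EtCore.Hpull m (EtCoh.const (Spec (CommRingCat.of Ω)) (ZMod l)) q)) :
    EtAcyc.IsAcyclicSchemeN L n P := by
  obtain ⟨l₀, hl₀L, hl₀⟩ := hL
  haveI : Fact l₀.Prime := ⟨hl₀⟩
  haveI : NeZero l₀ := ⟨hl₀.ne_zero⟩
  haveI : ConnectedSpace ↥(Spec (CommRingCat.of Ω)) := inferInstance
  obtain ⟨e⟩ := ULA.nonempty_H0_connected (Spec (CommRingCat.of Ω)) l₀
  obtain ⟨h1, h2⟩ := FinBC.connectedSpace_of_H0 P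
    ⟨((AddEquiv.ofBijective (EtCore.Hpull m (EtCoh.const _ (ZMod l₀)) 0) (H l₀ hl₀L hl₀ 0 (Nat.zero_le n))).trans
      ((EtCoh.HF P 0).mapIso (EtCore.pullConst m (ZMod l₀))).addCommGroupIsoToAddEquiv).symm.trans e⟩
  refine ⟨h1, h2, fun l hl hlL q hq hqn => ?_⟩
  obtain ⟨k, rfl⟩ : ∃ k, q = k + 1 := ⟨q - 1, by omega⟩
  haveI := L28.CurveCd.subsingleton_H_sepClosed (CommRingCat.of Ω) (EtCoh.const (Spec (CommRingCat.of Ω)) (ZMod l)) k
  exact ((AddEquiv.ofBijective (EtCore.Hpull m (EtCoh.const _ (ZMod l)) (k + 1)) (H l hlL hl (k + 1) hqn)).trans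
    ((EtCoh.HF P (k + 1)).mapIso (EtCore.pullConst m (ZMod l))).addCommGroupIsoToAddEquiv).symm.toEquiv.subsingleton

/-- Local acyclicity from universal base change. -/
theorem isULocAcyclicN_of_ubc {X Y : Scheme.{u}} {g : X ⟶ Y} {L : Set ℕ} {n : ℕ} (hL : ∃ l ∈ L, l.Prime)
    (h : UBC g L n) : EtAcyc.IsULocAcyclicN g L n := by
  intro X₁ Y₁ g₁ b' b sq
  refine XV.isLocAcyclicN_of_fibres g₁ L hL n ?_
  intro x RY RX _ _ _ _ _ _ _ _ _ _ _ _ hc y Ω _ _ algΩ halg
  obtain ⟨_, _⟩ := StalkBC.henselian_strict x RX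
  obtain ⟨_, _⟩ := StalkBC.henselian_strict (X := Y₁) (g₁.base x) RY
  let a := Hens2.specOf Y₁ (g₁.base x) RY
  let bX := Hens2.specOf X₁ x RX
  haveI : WeaklyEtale a := Acyclic0.weaklyEtale_fromStrict _ RY
  haveI : WeaklyEtale bX := Acyclic0.weaklyEtale_fromStrict x RX
  let φ := algebraMap RY RX
  let hm := Spec.map (CommRingCat.ofHom φ)
  let u := pullback.lift bX hm (StalkBC.specOf_comp g₁ x RY RX φ hc).symm
  haveI : WeaklyEtale (u ≫ pullback.fst g₁ a) := by rw [pullback.lift_fst]; infer_instance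
  haveI : WeaklyEtale (pullback.fst g₁ a) := MorphismProperty.pullback_fst (P := @WeaklyEtale) _ _ inferInstance
  haveI : WeaklyEtale u := WeaklyEtale.of_comp u (pullback.fst g₁ a)
  let gW : pullback g₁ a ⟶ Spec (CommRingCat.of RY) := pullback.snd g₁ a
  have sq' : IsPullback (pullback.fst g₁ a ≫ b') gW g (a ≫ b) :=
    (IsPullback.of_hasPullback g₁ a).paste_horiz sq
  let s := EtAcyc.geomPt (Spec (CommRingCat.of RY)) y Ω
  haveI : IsAffineHom s := isAffineHom_of_isAffine s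
  haveI : QuasiCompact s := inferInstance
  haveI : QuasiSeparated s := inferInstance
  haveI := EtSite.preservesFiniteLimits_pull (pullback.fst s gW)
  haveI := EtSite.preservesFiniteLimits_pull (pullback.snd hm s)
  refine isAcyclicScheme_of_bijective Ω (pullback.snd hm s) hL fun l hlL hl q hq => ?_
  have hiso := h gW (pullback.fst g₁ a ≫ b') (a ≫ b) sq' s (pullback.snd s gW) (pullback.fst s gW)
    (IsPullback.of_hasPullback s gW) _ (ULA.isLTorsion_const hl hlL _) q hq
  haveI : WeaklyEtale (𝟙 (Spec (CommRingCat.of RY))) := inferInstance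
  have cS : IsPullback (𝟙 (Spec (CommRingCat.of Ω))) s s (𝟙 (Spec (CommRingCat.of RY))) :=
    IsPullback.of_horiz_isIso ⟨by simp⟩
  have hb := bijective_Hpull_of_bcQ gW s (pullback.snd s gW) (pullback.fst s gW) (IsPullback.of_hasPullback s gW)
    _ q hiso RY RX φ (𝟙 _) u (by rw [pullback.lift_snd, Category.comp_id]) (𝟙 _) s cS
    (pullback.fst hm s) (pullback.snd hm s) (IsPullback.of_hasPullback hm s)
  exact LimBC.bijective_Hpull_congr _ (EtCore.pullConst (𝟙 _) (ZMod l)) q hb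

end Groth.L27.SmoothLA
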