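import Groth.Agent.L10.AcycColim.Main

/-! # Derived functors preserving countable sums, between Grothendieck abelian categories -/

universe w w' v u u'

open CategoryTheory CategoryTheory.Limits ZeroObject

set_option backward.defeqAttrib.useBackward true
set_option backward.isDefEq.respectTransparency false
set_option backward.isDefEq.respectTransparency.types false
set_option linter.style.haveILetI false
set_option linter.unusedSectionVars false

namespace Groth.L27.SmoothLA.AcycGen

open Groth.L10 Groth.L10.AcycColim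

variable {A : Type u} [Category.{v} A] [Abelian A] [IsGrothendieckAbelian.{v} A]
  {B : Type u'} [Category.{v} B] [Abelian B] [IsGrothendieckAbelian.{v} B]
  (F : A ⥤ B) [F.Additive] [PreservesFiniteLimits F] [PreservesColimitsOfShape (Discrete ℕ) F]

variable [HasDerivedCategory.{w} A] [HasDerivedCategory.{w'} B]

section

variable {RF : DerivedCategory A ⥤ DerivedCategory B}
  (α : F.mapHomotopyCategory (ComplexShape.up ℤ) ⋙ DerivedCategory.Qh ⟶ DerivedCategory.Qh ⋙ RF)
  [RF.IsRightDerivedFunctor α (HomotopyCategory.quasiIso A (ComplexShape.up ℤ))]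

local notation "qA" => HomotopyCategory.quotient A (ComplexShape.up ℤ)

/-- The unit is invertible once a resolution by a K-injective complex is mapped to a quasi-isomorphism. -/
theorem isIso_of_resolution {K J : CochainComplex A ℤ} (s : K ⟶ J) [QuasiIso s] [J.IsKInjective]
    [QuasiIso ((F.mapHomologicalComplex (.up ℤ)).map s)] : IsIso (α.app ((qA).obj K)) := by
  haveI : IsIso (α.app ((qA).obj J)) := KInjDerived.isIso_app_quotient α J
  haveI h1 : IsIso (DerivedCategory.Qh.map ((qA).map s)) :=
    Localization.inverts DerivedCategory.Qh (HomotopyCategory.quasiIso _ (ComplexShape.up ℤ)) _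
      ((HomotopyCategory.quotient_map_mem_quasiIso_iff s).2 ((HomologicalComplex.mem_quasiIso_iff _).2 ‹_›))
  haveI h2 : IsIso ((F.mapHomotopyCategory (ComplexShape.up ℤ) ⋙ DerivedCategory.Qh).map ((qA).map s)) :=
    Localization.inverts DerivedCategory.Qh (HomotopyCategory.quasiIso _ (ComplexShape.up ℤ)) ((HomotopyCategory.quotient B (ComplexShape.up ℤ)).map ((F.mapHomologicalComplex (.up ℤ)).map s))
      ((HomotopyCategory.quotient_map_mem_quasiIso_iff _).2 ((HomologicalComplex.mem_quasiIso_iff _).2 ‹_›))
  have h3 : IsIso (α.app ((qA).obj K) ≫ RF.map (DerivedCategory.Qh.map ((qA).map s))) :=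
    (congrArg IsIso (α.naturality ((qA).map s))).mp (IsIso.comp_isIso' h2 ‹_›)
  exact IsIso.of_isIso_comp_right _ (RF.map (DerivedCategory.Qh.map ((qA).map s)))

/-- Bounded below complexes of acyclic objects. -/
theorem isIso_bounded (K : CochainComplex A ℤ) (a : ℤ) [K.IsStrictlyGE a]
    (hK : ∀ n, L17.GrothSS.RAcyclic F (K.X n)) : IsIso (α.app ((qA).obj K)) := by
  obtain ⟨J, s, hJ, hinj, -, hs⟩ := ClassRes.exists_res (fun X : A => Injective X)
    (fun X => ⟨Injective.under X, Injective.ι X, inferInstance, inferInstance⟩)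
    ⟨0, isZero_zero A, (isZero_zero A).injective⟩ K a
  haveI := hJ
  haveI := hs
  haveI := hinj
  haveI : J.IsKInjective := CochainComplex.isKInjective_of_injective J a
  haveI : QuasiIso ((F.mapHomologicalComplex (.up ℤ)).map s) :=
    L17.GrothSS.quasiIso_map F s a a hK fun n q hq => by
      obtain ⟨k, rfl⟩ : ∃ k, q = k + 1 := ⟨q - 1, by omega⟩
      exact F.isZero_rightDerived_obj_injective_succ k _
  exact isIso_of_resolution F α s

/-- The unit at a countable sum. -/
theorem isIso_sum [HasColimitsOfShape (Discrete ℕ) (DerivedCategory A)] [PreservesColimitsOfShape (Discrete ℕ) RF]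
    (I : ℕ → CochainComplex A ℤ) (h : ∀ n, IsIso (α.app ((qA).obj (I n)))) :
    IsIso (α.app ((qA).obj (∐ I))) := by
  let G := F.mapHomologicalComplex (ComplexShape.up ℤ)
  have hcA : IsColimit (Cofan.mk (DerivedCategory.Qh.obj ((qA).obj (∐ I)))
      fun n => DerivedCategory.Qh.map ((qA).map (Sigma.ι I n))) :=
    Cofan.IsColimit.mk _ (fun t => ((DerivedProd.hom_from_coproduct_bijective I t.pt).surjective t.inj).choose)
      (fun t n => congrFun ((DerivedProd.hom_from_coproduct_bijective I t.pt).surjective t.inj).choose_spec n)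
      (fun t m hm => (DerivedProd.hom_from_coproduct_bijective I t.pt).injective (funext fun n => by
        exact (hm n).trans (congrFun ((DerivedProd.hom_from_coproduct_bijective I t.pt).surjective t.inj).choose_spec n).symm))
  have hRF := isColimitCofanMkObjOfIsColimit RF _ _ hcA
  haveI : ∀ p, PreservesColimit (Discrete.functor I)
      (G ⋙ HomologicalComplex.eval B (ComplexShape.up ℤ) p) := fun p =>
    inferInstanceAs (PreservesColimit (Discrete.functor I) (HomologicalComplex.eval A (ComplexShape.up ℤ) p ⋙ F))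
  have hG : IsColimit (Cofan.mk (G.obj (∐ I)) fun n => G.map (Sigma.ι I n)) :=
    isColimitMapCoconeCofanMkEquiv G _ _ (HomologicalComplex.isColimitOfEval _ _ fun p =>
      isColimitOfPreserves (G ⋙ HomologicalComplex.eval B (ComplexShape.up ℤ) p) (coproductIsCoproduct I))
  let θ : (∐ fun n => G.obj (I n)) ≅ G.obj (∐ I) := (coproductIsCoproduct _).coconePointUniqueUpToIso hG
  have hθ : ∀ n, Sigma.ι (fun n => G.obj (I n)) n ≫ θ.hom = G.map (Sigma.ι I n) := fun n =>
    (coproductIsCoproduct _).comp_coconePointUniqueUpToIso_hom hG ⟨n⟩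
  let Qθ : DerivedCategory.Qh.obj ((HomotopyCategory.quotient B (ComplexShape.up ℤ)).obj (∐ fun n => G.obj (I n))) ≅ DerivedCategory.Qh.obj ((HomotopyCategory.quotient B (ComplexShape.up ℤ)).obj (G.obj (∐ I))) :=
    DerivedCategory.Qh.mapIso ((HomotopyCategory.quotient B (ComplexShape.up ℤ)).mapIso θ)
  have hb := DerivedProd.hom_from_coproduct_bijective fun n => G.obj (I n)
  obtain ⟨g, hg⟩ := (hb (RF.obj (DerivedCategory.Qh.obj ((qA).obj (∐ I))))).surjective
    fun n => α.app ((qA).obj (I n)) ≫ RF.map (DerivedCategory.Qh.map ((qA).map (Sigma.ι I n)))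
  haveI := h
  let back := Cofan.IsColimit.desc hRF fun n => inv (α.app ((qA).obj (I n))) ≫
    DerivedCategory.Qh.map ((HomotopyCategory.quotient B (ComplexShape.up ℤ)).map (Sigma.ι (fun n => G.obj (I n)) n))
  have hback : ∀ n, RF.map (DerivedCategory.Qh.map ((qA).map (Sigma.ι I n))) ≫ back =
      inv (α.app ((qA).obj (I n))) ≫ DerivedCategory.Qh.map ((HomotopyCategory.quotient B (ComplexShape.up ℤ)).map (Sigma.ι (fun n => G.obj (I n)) n)) :=
    fun n => Cofan.IsColimit.fac hRF _ n
  have hga : g = Qθ.hom ≫ α.app ((qA).obj (∐ I)) := (hb _).injective (funext fun n => by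
    refine (congrFun hg n).trans ((α.naturality ((qA).map (Sigma.ι I n))).symm.trans ?_)
    show DerivedCategory.Qh.map ((HomotopyCategory.quotient B (ComplexShape.up ℤ)).map (G.map (Sigma.ι I n))) ≫ _ = _
    simp only [Qθ, Functor.mapIso_hom]
    rw [← Category.assoc, ← Functor.map_comp, ← Functor.map_comp, hθ n])
  have h1 : g ≫ back = 𝟙 _ := (hb _).injective (funext fun n => by
    refine (Category.assoc _ _ _).symm.trans ((congrArg (· ≫ back) (congrFun hg n)).trans ?_)
    rw [Category.assoc, hback n, IsIso.hom_inv_id_assoc]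
    exact (Category.comp_id _).symm)
  have h2 : back ≫ g = 𝟙 _ := Cofan.IsColimit.hom_ext hRF _ _ fun n => by
    refine (Category.assoc _ _ _).symm.trans ((congrArg (· ≫ g) (hback n)).trans ?_)
    rw [Category.assoc]
    refine (congrArg (inv (α.app ((qA).obj (I n))) ≫ ·) (congrFun hg n)).trans ?_
    rw [IsIso.inv_hom_id_assoc]
    exact (Category.comp_id _).symm
  haveI : IsIso g := ⟨back, h1, h2⟩
  haveI : IsIso (Qθ.hom ≫ α.app ((qA).obj (∐ I))) := hga ▸ inferInstance
  exact IsIso.of_isIso_comp_left Qθ.hom _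

variable [HasColimitsOfShape (Discrete ℕ) (DerivedCategory A)] [PreservesColimitsOfShape (Discrete ℕ) RF]

include α in
/-- Acyclic complexes of acyclic objects stay acyclic. -/
theorem acyclic_map (K : CochainComplex A ℤ) (hK : K.Acyclic) (hA : ∀ n, L17.GrothSS.RAcyclic F (K.X n)) :
    ((F.mapHomologicalComplex (.up ℤ)).obj K).Acyclic := by
  let G := F.mapHomologicalComplex (ComplexShape.up ℤ)
  have hs : ∀ n, IsIso (α.app ((qA).obj (sig K n))) := fun n => isIso_bounded F α _ (-(n : ℤ)) fun p => by
    by_cases h : -(n : ℤ) ≤ p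
    · show L17.GrothSS.RAcyclic F (X' K n p)
      rw [X', if_pos h]
      exact hA p
    · exact L17.GrothSS.rAcyclic_of_isZero F (isZero_X' K h)
  haveI := isIso_sum F α (sig K) hs
  haveI hq : QuasiIso (oneSub K) := quasiIso_f (shortExact_tele K) hK
  have h1 : IsIso (DerivedCategory.Qh.map ((qA).map (oneSub K))) :=
    Localization.inverts DerivedCategory.Qh (HomotopyCategory.quasiIso _ (ComplexShape.up ℤ)) _
      ((HomotopyCategory.quotient_map_mem_quasiIso_iff _).2 ((HomologicalComplex.mem_quasiIso_iff _).2 hq))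
  have h2 : IsIso ((F.mapHomotopyCategory (ComplexShape.up ℤ) ⋙ DerivedCategory.Qh).map ((qA).map (oneSub K)) ≫
      α.app ((qA).obj (∐ sig K))) :=
    (congrArg IsIso (α.naturality ((qA).map (oneSub K)))).mpr
      (IsIso.comp_isIso' ‹IsIso (α.app ((qA).obj (∐ sig K)))› (inferInstanceAs (IsIso (RF.map (DerivedCategory.Qh.map ((qA).map (oneSub K)))))))
  haveI h2' : IsIso (DerivedCategory.Qh.map ((HomotopyCategory.quotient B (ComplexShape.up ℤ)).map (G.map (oneSub K))) ≫
      α.app ((qA).obj (∐ sig K))) := h2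
  have h3 : IsIso (DerivedCategory.Qh.map ((HomotopyCategory.quotient B (ComplexShape.up ℤ)).map (G.map (oneSub K)))) :=
    IsIso.of_isIso_comp_right _ (α.app ((qA).obj (∐ sig K)))
  have h4 : QuasiIso (G.map (oneSub K)) :=
    (DerivedCategory.isIso_Q_map_iff_quasiIso (C := B) _).1
      ((NatIso.isIso_map_iff (DerivedCategory.quotientCompQhIso B) _).1 h3)
  exact ShortComplex.ShortExact.acyclic_X₃ (S := (tele K).map G)
    (HomologicalComplex.shortExact_of_degreewise_shortExact _ fun p => ((splitting K p).map F).shortExact) h4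

/-- Complexes of acyclic objects compute the derived functor. -/
theorem isIso_unit (K : CochainComplex A ℤ) (hA : ∀ n, L17.GrothSS.RAcyclic F (K.X n)) :
    IsIso (α.app ((qA).obj K)) := by
  obtain ⟨J, s, hJ, hs, hinj⟩ := KInjTransfer.exists_resolution.{v} K
  haveI := hJ
  haveI := hs
  have hC : ∀ n, L17.GrothSS.RAcyclic F ((CochainComplex.mappingCone s).X n) := fun n q hq =>
    IsZero.of_iso
      (L17.GrothSS.isZero_rightDerived_X₂ F
        (ShortComplex.Splitting.ofHasBinaryBiproduct (K.X (n + 1)) (J.X n)).shortExact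
        (hA (n + 1)) (fun q' hq' => by
          obtain ⟨k, rfl⟩ : ∃ k, q' = k + 1 := ⟨q' - 1, by omega⟩
          exact F.isZero_rightDerived_obj_injective_succ k _) q hq)
      ((F.rightDerived q).mapIso (HomologicalComplex.homotopyCofiber.XIsoBiprod s n (n + 1) rfl))
  haveI : QuasiIso ((F.mapHomologicalComplex (.up ℤ)).map s) := by
    rw [L17.GrothSS.quasiIso_iff_cone]
    exact fun n => (acyclic_map F α _ ((L17.GrothSS.quasiIso_iff_cone s).1 hs) hC n).of_iso
      (CochainComplex.mappingCone.mapHomologicalComplexIso s F)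
  exact isIso_of_resolution F α s

end

end Groth.L27.SmoothLA.AcycGen
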