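import Groth.Agent.L27.SmoothLA.AffineSpace

/-! # Units and higher direct images along affine space -/

set_option autoImplicit false
set_option linter.style.haveILetI false
set_option linter.unusedSectionVars false
set_option backward.isDefEq.respectTransparency.types false

universe u

open CategoryTheory CategoryTheory.Limits AlgebraicGeometry Opposite IsLocalRing

noncomputable section

namespace Groth.L27.SmoothLA

theorem unit_of_smooth_fibres {X Y : Scheme.{u}} (g : X ⟶ Y) [Smooth g] [QuasiCompact g] [QuasiSeparated g]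
    (L : Set ℕ) (hp : ∃ ℓ ∈ L, ℓ.Prime) (hL : ∀ ℓ ∈ L, ℓ.Prime → ∀ y : Y, (ℓ : Y.residueField y) ≠ 0) (n : ℕ)
    (hf : EtAcyc.GeomFibresAcyclicN L n g) (F : EtCoh.Ab Y) (hF : EtAcyc.IsLTorsion L F) :
    IsIso ((EtCoh.pullPushAdj g).unit.app F) ∧
      ∀ q : ℕ, 1 ≤ q → q ≤ n → IsZero ((EtCoh.Rpush g q).obj ((EtCoh.pull g).obj F)) := by
  refine XV.unit_of_strict g F n fun y R _ _ _ _ _ _ _ q hq => ?_
  let η := Hens2.specOf Y y R
  haveI : Smooth (pullback.snd g η) := MorphismProperty.pullback_snd (P := @Smooth) _ _ inferInstance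
  haveI : QuasiCompact (pullback.snd g η) := MorphismProperty.pullback_snd (P := @QuasiCompact) _ _ inferInstance
  haveI : QuasiSeparated (pullback.snd g η) := MorphismProperty.pullback_snd (P := @QuasiSeparated) _ _ inferInstance
  have hL' : ∀ ℓ ∈ L, ℓ.Prime → ∀ z : Spec (CommRingCat.of R), (ℓ : (Spec (CommRingCat.of R)).residueField z) ≠ 0 :=
    fun ℓ hℓ hp z h => hL ℓ hℓ hp (η z) ((η.residueFieldMap z).hom.injective (by rw [map_natCast, map_zero]; exact h))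
  exact ((ULA.compN_self (isAcyclicN_smooth_fibres (pullback.snd g η) L hp hL' n
    (XV.geomFibres_transfer (IsPullback.of_hasPullback g η) (XV.algResidue_specOf y R) hf))) _
      (L28.AcyComp.isLTorsion_pull η hF)).1 q hq

theorem geomFibres_affineSpace (Y : Scheme.{u}) (m : ℕ) (L : Set ℕ) (hp : ∃ ℓ ∈ L, ℓ.Prime)
    (hL : ∀ ℓ ∈ L, ℓ.Prime → ∀ y : Y, (ℓ : Y.residueField y) ≠ 0) (n : ℕ) :
    EtAcyc.GeomFibresAcyclicN L n (𝔸(ULift.{u} (Fin m); Y) ↘ Y) := by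
  intro y Ω _ _ _ _
  have hu : ∀ ℓ ∈ L, ℓ.Prime → IsUnit (ℓ : Ω) := fun ℓ hℓ hp => (natCast_geomPt (hL ℓ hℓ hp y)).isUnit
  let s := EtAcyc.geomPt Y y Ω
  let W := MvPolynomial (Fin m) Ω
  let π : Spec (CommRingCat.of W) ⟶ Spec (CommRingCat.of Ω) := Spec.map (CommRingCat.ofHom (MvPolynomial.C))
  haveI := EtSite.preservesFiniteLimits_pull π
  have hW : EtAcyc.IsAcyclicSchemeN L n (Spec (CommRingCat.of W)) :=
    isAcyclicScheme_of_bijective Ω π hp fun ℓ hℓL hℓ q hq =>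
      ((ULA.compN_self (isAcyclicN_mvPolynomial Ω L hp hu m n)) _ (ULA.isLTorsion_const hℓ hℓL _)).1 q hq
  let e : W ≃+* MvPolynomial (ULift.{u} (Fin m)) Ω :=
    (MvPolynomial.renameEquiv Ω Equiv.ulift.symm).toRingEquiv
  haveI : IsIso (CommRingCat.ofHom e.toRingHom) := e.toCommRingCatIso.isIso_hom
  exact XV.isAcyclicScheme_of_iso ((AffineSpace.isPullback_map s (n := ULift.{u} (Fin m))).flip.flip.isoPullback.inv ≫
    (AffineSpace.SpecIso (ULift.{u} (Fin m)) (CommRingCat.of Ω)).hom ≫ Spec.map (CommRingCat.ofHom e.toRingHom)) hW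

/-- Acyclicity of affine space. -/
theorem acyclic_affineSpace (Y : Scheme.{u}) (m : ℕ) (n : ℕ) (hn : IsUnit (n : Γ(Y, ⊤))) (F : EtCoh.Ab Y)
    (hF : EtCoh.KilledBy n F) :
    IsIso ((EtCoh.pullPushAdj (𝔸(ULift.{u} (Fin m); Y) ↘ Y)).unit.app F) ∧
      ∀ q : ℕ, 0 < q → IsZero ((EtCoh.Rpush (𝔸(ULift.{u} (Fin m); Y) ↘ Y) q).obj
        ((EtCoh.pull (𝔸(ULift.{u} (Fin m); Y) ↘ Y)).obj F)) := by
  let g := 𝔸(ULift.{u} (Fin m); Y) ↘ Y
  let L := EtAcyc.primesInvertibleOn Y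
  haveI : IsAffineHom g := inferInstance
  haveI : Smooth g := SecChart.smooth_over _ _
  have hFL : EtAcyc.IsLTorsion L F := isLTorsion_of_invertible (𝟙 Y) fun U s x =>
    ⟨U, 𝟙 U, n, ⟨x, rfl⟩, hn, hF U _⟩
  have hL : ∀ ℓ ∈ L, ℓ.Prime → ∀ y : Y, (ℓ : Y.residueField y) ≠ 0 := fun ℓ hℓ _ => hℓ.2
  by_cases hp : ∃ ℓ ∈ L, ℓ.Prime
  · exact ⟨(unit_of_smooth_fibres g L hp hL 0 (geomFibres_affineSpace Y m L hp hL 0) F hFL).1,
      fun q hq => (unit_of_smooth_fibres g L hp hL q (geomFibres_affineSpace Y m L hp hL q) F hFL).2 q hq le_rfl⟩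
  · push Not at hp
    have hz := XV.isZero_of_no_prime hp hFL
    have hA := (EtCoh.pull g).map_isZero hz
    haveI : (EtCoh.push g).Additive := (EtCoh.pullPushAdj g).right_adjoint_additive
    exact ⟨⟨0, hz.eq_of_src _ _, ((EtCoh.push g).map_isZero hA).eq_of_src _ _⟩,
      fun q _ => (EtCoh.Rpush g q).map_isZero hA⟩

end Groth.L27.SmoothLA
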