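import Groth.Agent.L27.PBC.KummerMor
import Groth.Agent.L27.LimCoh.HMaps
import Groth.Agent.L28.EtTrace.Field
import Groth.Agent.L28.EtTrace.FieldGm
import Groth.Agent.L28.GmH1.PointPush
import Groth.Agent.L27.NormalSepClosed.ConstNormal
import Mathlib.AlgebraicGeometry.Morphisms.Preimmersion

/-! # Kummer classes with constant coefficients -/

set_option autoImplicit false
set_option linter.style.haveILetI false
set_option linter.unusedSectionVars false
set_option backward.isDefEq.respectTransparency.types false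

universe u

open CategoryTheory CategoryTheory.Limits AlgebraicGeometry Opposite

noncomputable section

namespace Groth.L27.SmoothLA

open Groth.L27.LimCoh Groth.L27.PBC

variable {X Y Z : Scheme.{u}}

/-- Pullback of classes with constant coefficients. -/
def pullC (f : Z ⟶ X) [PreservesFiniteLimits (EtCoh.pull f)] (n q : ℕ) :
    EtCoh.H X (EtCoh.const X (ZMod n)) q →+ EtCoh.H Z (EtCoh.const Z (ZMod n)) q :=
  EtLim.HpullThen f (EtCoh.const X (ZMod n)) (EtCore.pullConst f (ZMod n)).hom q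

theorem pullC_eq_zero_iff (f : Z ⟶ X) [PreservesFiniteLimits (EtCoh.pull f)] (n q : ℕ)
    (e : EtCoh.H X (EtCoh.const X (ZMod n)) q) :
    pullC f n q e = 0 ↔ EtCore.Hpull f (EtCoh.const X (ZMod n)) q e = 0 := by
  rw [pullC, HpullThen_apply]
  exact L28.EtTrace.HF_map_eq_zero_iff (EtCore.pullConst f (ZMod n)) q _

theorem pullC_comp_eq_zero_iff (f : Z ⟶ Y) (g : Y ⟶ X) {k : Z ⟶ X} (w : f ≫ g = k)
    [PreservesFiniteLimits (EtCoh.pull f)] [PreservesFiniteLimits (EtCoh.pull g)]
    [PreservesFiniteLimits (EtCoh.pull k)] (n q : ℕ) (e : EtCoh.H X (EtCoh.const X (ZMod n)) q) :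
    pullC f n q (pullC g n q e) = 0 ↔ pullC k n q e = 0 := by
  rw [pullC_eq_zero_iff, pullC_eq_zero_iff k, pullC, HpullThen_apply, Hpull_map,
    ← L28.EtTrace.Hpull_comp_eq_zero_iff f g w (EtCoh.const X (ZMod n)) q e]
  exact L28.EtTrace.HF_map_eq_zero_iff ((EtCoh.pull f).mapIso (EtCore.pullConst g (ZMod n))) q _

/-- The pullback of constants on the constant section. -/
theorem pullConst_unit (g : Y ⟶ X) (M : Type) [AddCommGroup M] (a : ULift.{u + 1} M) :
    ((EtCoh.pullPushAdj g).homEquiv _ _ (EtCore.pullConst g M).hom).hom.app (op (EtCoh.top X))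
        ((EtCore.constAdj X).unit.app (AddCommGrpCat.of (ULift.{u + 1} M)) a) =
      (EtCoh.const Y M).obj.map (EtCore.bcTopIso g).hom.op
        ((EtCore.constAdj Y).unit.app (AddCommGrpCat.of (ULift.{u + 1} M)) a) := by
  let A₁ := ((EtCore.constAdj X).comp (EtCoh.pullPushAdj g)).ofNatIsoRight (EtCore.pushGsecIso g)
  let A₂ := EtCore.constAdj Y
  let M' : AddCommGrpCat.{u + 1} := AddCommGrpCat.of (ULift.{u + 1} M)
  have key : A₁.homEquiv M' _ (EtCore.pullConst g M).hom = A₂.unit.app M' := by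
    have h := Adjunction.unit_leftAdjointUniq_hom_app A₁ A₂ M'
    rw [Adjunction.homEquiv_unit]
    exact h
  have h2 : A₁.homEquiv M' _ (EtCore.pullConst g M).hom =
      (EtCore.constAdj X).homEquiv M' _ ((EtCoh.pullPushAdj g).homEquiv _ _ (EtCore.pullConst g M).hom) ≫
        (EtCore.pushGsecIso g).hom.app (EtCoh.const Y M) := by
    rw [Adjunction.homEquiv_ofNatIsoRight_apply, Adjunction.comp_homEquiv]
    rfl
  rw [h2, Adjunction.homEquiv_unit, ← Iso.app_hom, ← Iso.eq_comp_inv] at key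
  have hinv : ((EtCore.pushGsecIso g).app (EtCoh.const Y M)).inv =
      (EtCoh.const Y M).obj.map (EtCore.bcTopIso g).hom.op := rfl
  have key2 := ConcreteCategory.congr_hom key a
  rw [hinv, ConcreteCategory.comp_apply, ConcreteCategory.comp_apply] at key2
  exact key2

/-- Constants pull back along composites. -/
theorem pullConst_comp (f : Z ⟶ Y) (g : Y ⟶ X) {k : Z ⟶ X} (w : f ≫ g = k) (M : Type) [AddCommGroup M] :
    (EtCoh.pullPushAdj k).homEquiv _ _ (EtCore.pullConst k M).hom =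
      (EtCoh.pullPushAdj g).homEquiv _ _ (EtCore.pullConst g M).hom ≫
        (EtCoh.push g).map ((EtCoh.pullPushAdj f).homEquiv _ _ (EtCore.pullConst f M).hom) ≫
          pushJoin f g w (EtCoh.const Z M) := by
  refine ((EtCore.constAdj X).homEquiv (AddCommGrpCat.of (ULift.{u + 1} M)) _).injective ?_
  rw [Adjunction.homEquiv_unit, Adjunction.homEquiv_unit]
  refine ConcreteCategory.hom_ext _ _ fun a => ?_
  refine (pullConst_unit k M a).trans ?_
  refine Eq.trans ?_ (congrArg
    (fun z => (pushJoin f g w (EtCoh.const Z M)).hom.app (op (EtCoh.top X))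
      (((EtCoh.pullPushAdj f).homEquiv _ _ (EtCore.pullConst f M).hom).hom.app
        (op ((EtCoh.bc g).obj (EtCoh.top X))) z)) (pullConst_unit g M a)).symm
  rw [pushJoin_app]
  refine Eq.trans ?_ (congrArg ((EtCoh.const Z M).obj.map _)
    (NatTrans.naturality_apply ((EtCoh.pullPushAdj f).homEquiv _ _ (EtCore.pullConst f M).hom).hom
      (EtCore.bcTopIso g).hom.op _)).symm
  refine Eq.trans ?_ (congrArg (fun z => (EtCoh.const Z M).obj.map _
    (((EtCoh.push f).obj (EtCoh.const Z M)).obj.map _ z)) (pullConst_unit f M a)).symm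
  refine Eq.trans ?_ (congrArg ((EtCoh.const Z M).obj.map _)
    (Functor.map_comp_apply (EtCoh.const Z M).obj _ _ _))
  refine Eq.trans ?_ (Functor.map_comp_apply (EtCoh.const Z M).obj _ _ _)
  exact congrArg (fun l => (EtCoh.const Z M).obj.map (Quiver.Hom.op l) _)
    ((EtCore.topIsTerminal Z).hom_ext _ _)

theorem pullC_comp (f : Z ⟶ Y) (g : Y ⟶ X) {k : Z ⟶ X} (w : f ≫ g = k)
    [PreservesFiniteLimits (EtCoh.pull f)] [PreservesFiniteLimits (EtCoh.pull g)]
    [PreservesFiniteLimits (EtCoh.pull k)] (n q : ℕ) (e : EtCoh.H X (EtCoh.const X (ZMod n)) q) :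
    pullC f n q (pullC g n q e) = pullC k n q e := by
  have h := HpullThen_comp f g w (EtCoh.const X (ZMod n)) _ _ _ (pullConst_comp f g w (ZMod n)) q e
  simp only [Equiv.symm_apply_apply] at h
  exact h

variable (n : ℕ) [NeZero n] (ζ : Γ(X, ⊤)) (hζn : ζ ^ n = 1) (hS : (kSC n ζ hζn).ShortExact)

/-- The class of a unit. -/
def cls (a : Γ(X, ⊤)ˣ) : EtCoh.H X (EtCoh.const X (ZMod n)) 1 :=
  δH hS 0 ((secEq (EtCoh.Gm X)).symm (MuConst.ofUnit (U := EtCoh.top X) a))

theorem cls_eq_zero_iff (a : Γ(X, ⊤)ˣ) : cls n ζ hζn hS a = 0 ↔ ∃ b : Γ(X, ⊤)ˣ, b ^ n = a := by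
  have key : ∀ t : (EtCoh.Gm X).obj.obj (op (EtCoh.top X)),
      (EtCoh.powMap X n).hom.app (op (EtCoh.top X)) t = MuConst.ofUnit (MuConst.toUnit t ^ n) := fun t =>
    MuConst.toUnit_injective (by rw [MuConst.powMap_app, MuConst.toUnit_nsmul]; rfl)
  constructor
  · intro h
    obtain ⟨z, hz⟩ := exists_map_of_δH_eq_zero hS 0 _ h
    refine ⟨MuConst.toUnit (secEq (EtCoh.Gm X) z), ?_⟩
    have h2 : (EtCoh.powMap X n).hom.app (op (EtCoh.top X)) (secEq _ z) = MuConst.ofUnit (U := EtCoh.top X) a :=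
      ((secEq_map (EtCoh.powMap X n) z).symm.trans (congrArg (secEq _) hz)).trans ((secEq _).apply_symm_apply _)
    rw [key] at h2
    exact congrArg MuConst.toUnit h2
  · rintro ⟨b, rfl⟩
    have h : (secEq (EtCoh.Gm X)).symm (MuConst.ofUnit (U := EtCoh.top X) (b ^ n)) =
        (EtCoh.HF X 0).map (kSC n ζ hζn).g ((secEq (EtCoh.Gm X)).symm (MuConst.ofUnit (U := EtCoh.top X) b)) :=
      (secEq (EtCoh.Gm X)).injective (by
        rw [AddEquiv.apply_symm_apply]
        refine Eq.trans ?_ (secEq_map _ _).symm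
        refine Eq.trans ?_ (congrArg ((EtCoh.powMap X n).hom.app (op (EtCoh.top X)))
          ((secEq (EtCoh.Gm X)).apply_symm_apply _)).symm
        exact (key _).symm)
    rw [cls, h]
    exact δH_map_g hS 0 _

theorem exists_cls [Subsingleton (EtCoh.H X (EtCoh.Gm X) 1)] (ξ : EtCoh.H X (EtCoh.const X (ZMod n)) 1) :
    ∃ a : Γ(X, ⊤)ˣ, cls n ζ hζn hS a = ξ := by
  obtain ⟨y, hy⟩ := exists_δH hS 0 ξ (@Subsingleton.elim _ ‹_› _ _)
  refine ⟨MuConst.toUnit (secEq (EtCoh.Gm X) y), ?_⟩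
  rw [cls, show MuConst.ofUnit (MuConst.toUnit (secEq (EtCoh.Gm X) y)) = secEq (EtCoh.Gm X) y from
    MuConst.toUnit_injective rfl, AddEquiv.symm_apply_apply]
  exact hy

variable (i : Z ⟶ X) [PreservesFiniteLimits (EtCoh.pull i)]

theorem secEq_pull_gm (a : Γ(X, ⊤)ˣ) :
    secEq (EtCoh.Gm Z) (EtLim.HpullThen i (EtCoh.Gm X) (gmAdj i) 0
      ((secEq (EtCoh.Gm X)).symm (MuConst.ofUnit (U := EtCoh.top X) a))) =
      MuConst.ofUnit (U := EtCoh.top Z) (Units.map i.appTop.hom.toMonoidHom a) := by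
  rw [HpullThen_eq, secEq_HofPush, gmAdj, Equiv.apply_symm_apply, secEq_map, AddEquiv.apply_symm_apply]
  refine MuConst.toUnit_injective (Units.ext ?_)
  show (EtCore.bcTopIso i).inv.left.appTop ((pullback.fst (EtCoh.top X).hom i).appTop (a : Γ(X, ⊤))) = i.appTop (a : Γ(X, ⊤))
  exact (ConcreteCategory.congr_hom (Scheme.Hom.comp_appTop (EtCore.bcTopIso i).inv.left
    (pullback.fst (EtCoh.top X).hom i)) (a : Γ(X, ⊤))).symm.trans
    (congrArg (fun g : Z ⟶ X => g.appTop (a : Γ(X, ⊤))) (bcTop_inv_fst i))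

theorem pullC_cls (hζn' : i.appTop ζ ^ n = 1) (hS' : (kSC n (i.appTop ζ) hζn').ShortExact) (a : Γ(X, ⊤)ˣ) :
    pullC i n 1 (cls n ζ hζn hS a) = cls n (i.appTop ζ) hζn' hS' (Units.map i.appTop.hom.toMonoidHom a) := by
  refine (HpullThen_δH i hS hS' (kMor n ζ hζn i hζn') 0 _).trans ?_
  refine congrArg (δH hS' 0) ((secEq (EtCoh.Gm Z)).injective ?_)
  rw [AddEquiv.apply_symm_apply]
  exact secEq_pull_gm i a

/-- Restriction of constant classes to the generic point of a normal integral scheme is injective. -/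
theorem injective_pullC_generic [IsIntegral X] (hN : ∀ x : X, IsIntegrallyClosed (X.presheaf.stalk x))
    (f : Z ⟶ X) [IsPreimmersion f] (hf : Set.range f = {genericPoint X}) [PreservesFiniteLimits (EtCoh.pull f)]
    (m : ℕ) : Function.Injective (pullC f m 1) := by
  haveI := NormalSepClosed.isIso_cmp_point hN (AddCommGrpCat.of (ULift.{u + 1} (ZMod m))) f hf
  haveI hu : IsIso ((EtCoh.pullPushAdj f).unit.app (EtCoh.const X (ZMod m))) := ConstSect.isIso_unit_of_isIso_cmp _ f
  refine (injective_iff_map_eq_zero _).2 fun e he => ?_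
  rw [pullC_eq_zero_iff, EtSite.Hpull_apply] at he
  have h1 := L28.GmH1.injective_HofPush_one f _ (he.trans (map_zero _).symm)
  rw [← EtSite.HF_map_apply] at h1
  exact (ConcreteCategory.bijective_of_isIso
    ((EtCoh.HF X 1).map ((EtCoh.pullPushAdj f).unit.app (EtCoh.const X (ZMod m))))).1 (h1.trans (map_zero _).symm)

end Groth.L27.SmoothLA
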