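import Groth.Agent.L05.HensTensor.WEHens
import Groth.Agent.L20.WeaklyEtaleStalk
import Groth.Agent.L20.NormalWE
import Groth.Agent.L05.WE.Fibre
import Groth.Agent.L05.Henselization.Noeth
import Groth.Agent.L27.Acyclic0.StrictFibres
import Mathlib.RingTheory.Algebraic.Basic
import Mathlib.FieldTheory.IsSepClosed

/-! # Maps out of weakly étale strictly henselian algebras -/

set_option autoImplicit false
set_option linter.style.haveILetI false
set_option linter.unusedSectionVars false
set_option backward.isDefEq.respectTransparency.types false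

universe u

open IsLocalRing

noncomputable section

namespace Groth.L27.SmoothLA

variable {B S : Type u} [CommRing B] [CommRing S] [HenselianLocalRing S] [IsSepClosed (ResidueField S)]
  [Algebra B S]

/-- The prime of `B` under the closed point. -/
abbrev ctr (B S : Type u) [CommRing B] [CommRing S] [IsLocalRing S] [Algebra B S] : Ideal B :=
  (maximalIdeal S).comap (algebraMap B S)

theorem isUnit_algebraMap (s : (ctr B S).primeCompl) : IsUnit (algebraMap B S s) :=
  notMem_maximalIdeal.1 s.2

/-- The localisation maps to `S`. -/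
@[reducible] def locAlgebra : Algebra (Localization.AtPrime (ctr B S)) S :=
  (IsLocalization.lift (M := (ctr B S).primeCompl) (S := Localization.AtPrime (ctr B S))
    isUnit_algebraMap).toAlgebra

attribute [local instance] locAlgebra

instance : IsScalarTower B (Localization.AtPrime (ctr B S)) S :=
  IsScalarTower.of_algebraMap_eq' (IsLocalization.lift_comp _).symm

instance isLocalHom_loc : IsLocalHom (algebraMap (Localization.AtPrime (ctr B S)) S) := ⟨fun z hz => by
  obtain ⟨a, s, rfl⟩ := IsLocalization.exists_mk'_eq (ctr B S).primeCompl z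
  refine (IsLocalization.AtPrime.isUnit_mk'_iff (Localization.AtPrime (ctr B S)) _ a s).2 fun ha => ?_
  have h : IsUnit (algebraMap B S a) := by
    have h1 := congrArg (algebraMap (Localization.AtPrime (ctr B S)) S)
      (IsLocalization.mk'_spec (Localization.AtPrime (ctr B S)) a s)
    rw [map_mul, ← IsScalarTower.algebraMap_apply, ← IsScalarTower.algebraMap_apply] at h1
    rw [← h1]
    exact hz.mul (isUnit_algebraMap s)
  exact (mem_maximalIdeal _).1 ha h⟩

variable [Algebra.WeaklyEtale B S]

instance : Algebra.WeaklyEtale (Localization.AtPrime (ctr B S)) S := by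
  haveI := Groth.L20.weaklyEtale_isLocalization (ctr B S).primeCompl (Localization.AtPrime (ctr B S))
  obtain ⟨h1, h2⟩ := Groth.L20.TorAmp.weaklyEtale_cancel B (Localization.AtPrime (ctr B S)) S
  exact ⟨h1, h2⟩

theorem isStrict_loc : Hensel.IsStrictHenselization (Localization.AtPrime (ctr B S)) S :=
  Groth.L05.HensTensor.isStrictHenselization_of_weaklyEtale _ _

/-- The closed point generates. -/
theorem maximalIdeal_eq_map : maximalIdeal S = (ctr B S).map (algebraMap B S) := by
  haveI := isStrict_loc (B := B) (S := S)
  rw [← Groth.L05.Henselization.map_maximalIdeal_of_isStrictHenselization (Localization.AtPrime (ctr B S)) S,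
    ← Localization.AtPrime.map_eq_maximalIdeal, Ideal.map_map, ← IsScalarTower.algebraMap_eq]

/-- Maps out of a weakly étale strictly henselian algebra are determined by their residue maps. -/
theorem existsUnique_lift {T : Type u} [CommRing T] [HenselianLocalRing T] (f : B →+* T)
    (τ : ResidueField S →+* ResidueField T) (hτ : ∀ b, τ (residue S (algebraMap B S b)) = residue T (f b)) :
    ∃! g : S →+* T, (∀ b, g (algebraMap B S b) = f b) ∧ ∀ x, residue T (g x) = τ (residue S x) := by
  haveI := isStrict_loc (B := B) (S := S)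
  have hu : ∀ s : (ctr B S).primeCompl, IsUnit (f s) := fun s => (residue_ne_zero_iff_isUnit _).1 fun h => by
    rw [← hτ] at h
    exact (residue_ne_zero_iff_isUnit _).2 (isUnit_algebraMap s) ((injective_iff_map_eq_zero τ).1 τ.injective _ h)
  let O := Localization.AtPrime (ctr B S)
  let fO : O →+* T := IsLocalization.lift hu
  have hres : ∀ z : O, τ (residue S (algebraMap O S z)) = residue T (fO z) := fun z => by
    have h : (τ.comp ((residue S).comp (algebraMap O S))) = (residue T).comp fO :=
      IsLocalization.ringHom_ext (ctr B S).primeCompl (RingHom.ext fun b => by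
        simp only [RingHom.comp_apply, fO, IsLocalization.lift_eq, ← IsScalarTower.algebraMap_apply]
        exact hτ b)
    exact RingHom.congr_fun h z
  haveI : IsLocalHom fO := ⟨fun z hz => by
    refine isUnit_of_map_unit (algebraMap O S) z ((residue_ne_zero_iff_isUnit _).1 fun h => ?_)
    have := (hres z).symm.trans ((congrArg τ h).trans (map_zero τ))
    exact (residue_ne_zero_iff_isUnit _).2 hz this⟩
  obtain ⟨g, ⟨hg, hgr⟩, huniq⟩ := Hensel.IsStrictHenselization.universal (R := O) (S := S) T fO τ
    (RingHom.ext fun x => by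
      obtain ⟨z, rfl⟩ := residue_surjective x
      exact hres z)
  refine ⟨g, ⟨fun b => ?_, hgr⟩, fun g' ⟨h1, h2⟩ => huniq g' ⟨?_, h2⟩⟩
  · rw [IsScalarTower.algebraMap_apply B O S, ← RingHom.comp_apply g, hg, IsLocalization.lift_eq]
  · refine IsLocalization.ringHom_ext (ctr B S).primeCompl (RingHom.ext fun b => ?_)
    simp only [RingHom.comp_apply, fO, IsLocalization.lift_eq, ← IsScalarTower.algebraMap_apply]
    exact h1 b

theorem isLocalHom_of_residue {T : Type u} [CommRing T] [IsLocalRing T] (g : S →+* T)
    (τ : ResidueField S →+* ResidueField T) (h : ∀ x, residue T (g x) = τ (residue S x)) : IsLocalHom g :=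
  ⟨fun x hx => (residue_ne_zero_iff_isUnit x).1 fun h0 =>
    (residue_ne_zero_iff_isUnit _).2 hx (by rw [h, h0, map_zero])⟩

/-- Embeddings of the residue field. -/
theorem exists_residue_embedding {F : Type u} [Field F] [IsSepClosed F] (g : B →+* F)
    (hg : ∀ b, g b = 0 ↔ b ∈ ctr B S) :
    ∃ τ : ResidueField S →+* F, ∀ b, τ (residue S (algebraMap B S b)) = g b := by
  haveI hS := isStrict_loc (B := B) (S := S)
  haveI : Algebra.IsSeparable (ResidueField (Localization.AtPrime (ctr B S))) (ResidueField S) :=
    hS.isSepClosure.separable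
  let O := Localization.AtPrime (ctr B S)
  have hu : ∀ s : (ctr B S).primeCompl, IsUnit (g s) := fun s =>
    isUnit_iff_ne_zero.2 fun h => s.2 ((hg _).1 h)
  let gO : O →+* F := IsLocalization.lift hu
  haveI : IsLocalHom gO := ⟨fun z hz => by
    obtain ⟨a, s, rfl⟩ := IsLocalization.exists_mk'_eq (ctr B S).primeCompl z
    refine (IsLocalization.AtPrime.isUnit_mk'_iff O _ a s).2 fun ha => hz.ne_zero ?_
    rw [IsLocalization.lift_mk', (hg a).2 ha, zero_mul]⟩
  letI : Algebra (ResidueField O) F := (ResidueField.lift gO).toAlgebra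
  refine ⟨(IsSepClosed.lift (K := ResidueField O) (L := ResidueField S) (M := F)).toRingHom, fun b => ?_⟩
  have h : residue S (algebraMap B S b) = algebraMap (ResidueField O) (ResidueField S) (residue O (algebraMap B O b)) := by
    rw [IsScalarTower.algebraMap_apply B O S]
    rfl
  rw [h]
  refine (AlgHom.commutes _ _).trans ?_
  show gO (algebraMap B O b) = g b
  exact IsLocalization.lift_eq _ _

/-- The image of the residue field is the separable closure of the image of `B`. -/
theorem range_residue_le {S' : Type u} [CommRing S'] [IsLocalRing S'] [IsSepClosed (ResidueField S')]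
    {F : Type u} [Field F] (τ : ResidueField S →+* F) (τ' : ResidueField S' →+* F)
    (h : ∀ b, τ (residue S (algebraMap B S b)) ∈ τ'.fieldRange) :
    ∀ x, τ x ∈ τ'.fieldRange := by
  haveI hS := isStrict_loc (B := B) (S := S)
  haveI : Algebra.IsSeparable (ResidueField (Localization.AtPrime (ctr B S))) (ResidueField S) :=
    hS.isSepClosure.separable
  let O := Localization.AtPrime (ctr B S)
  let κ := ResidueField O
  let φ : κ →+* F := τ.comp (algebraMap κ (ResidueField S))
  have hφ : ∀ z : κ, φ z ∈ τ'.fieldRange := fun z => by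
    obtain ⟨z, rfl⟩ := residue_surjective z
    obtain ⟨a, s, rfl⟩ := IsLocalization.exists_mk'_eq (ctr B S).primeCompl z
    have h1 := congrArg (fun w => τ (residue S (algebraMap O S w))) (IsLocalization.mk'_spec O a s)
    simp only [map_mul, ← IsScalarTower.algebraMap_apply] at h1
    have hs : τ (residue S (algebraMap B S s)) ≠ 0 :=
      fun h0 => (residue_ne_zero_iff_isUnit _).2 (isUnit_algebraMap s) ((map_eq_zero τ).1 h0)
    show τ (residue S (algebraMap O S _)) ∈ _
    rw [eq_div_of_mul_eq hs h1]
    exact div_mem (h a) (h s)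
  let e : ResidueField S' ≃+* τ'.fieldRange := RingEquiv.ofBijective τ'.rangeRestrictField
    ⟨fun a b hab => τ'.injective (congrArg Subtype.val hab), RingHom.rangeRestrictField_bijective τ' |>.2⟩
  let ψ : κ →+* ResidueField S' := e.symm.toRingHom.comp (φ.codRestrict _ hφ)
  have hψ : τ'.comp ψ = φ := RingHom.ext fun z => congrArg Subtype.val (e.apply_symm_apply ⟨φ z, hφ z⟩)
  intro x
  let q := minpoly κ x
  have hq : q.Separable := Algebra.IsSeparable.isSeparable κ x
  have hspl : (q.map ψ).Splits := IsSepClosed.splits_codomain (f := ψ) q hq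
  have hroot : τ x ∈ (q.map φ).roots := by
    rw [Polynomial.mem_roots (Polynomial.map_ne_zero (minpoly.ne_zero (Algebra.IsSeparable.isSeparable κ x).isIntegral)),
      Polynomial.IsRoot, Polynomial.eval_map, ← Polynomial.hom_eval₂, ← Polynomial.aeval_def, minpoly.aeval, map_zero]
  rw [← hψ, ← Polynomial.map_map, hspl.roots_map, Multiset.mem_map] at hroot
  obtain ⟨r, -, hr⟩ := hroot
  exact ⟨r, hr⟩

/-- Every prime has a weakly étale strictly henselian algebra over it. -/
theorem exists_strictLoc (B : Type u) [CommRing B] (p : Ideal B) [p.IsPrime] :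
    ∃ (S : Type u) (_ : CommRing S) (_ : HenselianLocalRing S) (_ : Algebra B S),
      IsSepClosed (ResidueField S) ∧ Algebra.WeaklyEtale B S ∧ ctr B S = p := by
  let O := Localization.AtPrime p
  obtain ⟨S, iS, iL, iA, iH, hS⟩ := Groth.L05.Henselization.exists_isStrictHenselization O
  haveI := iH
  haveI := hS.henselian
  letI : Algebra B S := ((algebraMap O S).comp (algebraMap B O)).toAlgebra
  haveI : IsScalarTower B O S := IsScalarTower.of_algebraMap_eq' rfl
  haveI := Groth.L20.weaklyEtale_isLocalization p.primeCompl O
  haveI : Algebra.WeaklyEtale O S :=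
    Groth.L27.IndEtale.weaklyEtale _ _ (Groth.L05.Henselization.isIndEtale_of_isStrictHenselization O S)
  refine ⟨S, iS, hS.henselian, inferInstance, hS.isSepClosure.sep_closed, Algebra.WeaklyEtale.trans B O S, ?_⟩
  show (maximalIdeal S).comap ((algebraMap O S).comp (algebraMap B O)) = p
  have h : (maximalIdeal S).comap (algebraMap O S) = maximalIdeal O :=
    ((IsLocalRing.local_hom_TFAE (algebraMap O S)).out 0 4 rfl rfl).mp iH
  rw [← Ideal.comap_comap, h]
  exact Localization.AtPrime.comap_maximalIdeal

/-- Over a normal Noetherian domain it is one again. -/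
theorem normal_noetherian [IsDomain B] [IsIntegrallyClosed B] [IsNoetherianRing B] :
    IsDomain S ∧ IsIntegrallyClosed S ∧ IsNoetherianRing S := by
  haveI hS := isStrict_loc (B := B) (S := S)
  let O := Localization.AtPrime (ctr B S)
  haveI : IsDomain O := IsLocalization.isDomain_of_le_nonZeroDivisors O (Ideal.primeCompl_le_nonZeroDivisors (ctr B S))
  haveI : IsIntegrallyClosed O :=
    isIntegrallyClosed_of_isLocalization O (ctr B S).primeCompl (Ideal.primeCompl_le_nonZeroDivisors _)
  haveI : IsNoetherianRing O := IsLocalization.isNoetherianRing (ctr B S).primeCompl O inferInstance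
  obtain ⟨h1, h2⟩ := Groth.L20.NormalWE.isNormal O S
  exact ⟨h1, h2, (Groth.L05.Henselization.isNoetherianRing_iff_strict O S).1 inferInstance⟩

/-- Elements are algebraic over a base domain. -/
theorem exists_ne_zero_dvd [IsDomain B] [IsDomain S] {x : S} (hx : x ≠ 0) :
    ∃ b : B, b ≠ 0 ∧ x ∣ algebraMap B S b := by
  have hinj : Function.Injective (algebraMap B S) := by
    rw [injective_iff_map_eq_zero]
    intro b hb
    by_contra hb0
    exact one_ne_zero (α := S) (Module.Flat.isSMulRegular_of_nonZeroDivisors
      (mem_nonZeroDivisors_of_ne_zero hb0) (show b • (1 : S) = b • 0 by rw [Algebra.smul_def, hb, zero_mul, smul_zero]))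
  haveI : (⊥ : Ideal S).LiesOver (⊥ : Ideal B) := ⟨(Ideal.comap_bot_of_injective _ hinj).symm⟩
  letI : Algebra (⊥ : Ideal B).ResidueField (⊥ : Ideal S).ResidueField :=
    (Ideal.ResidueField.map (⊥ : Ideal B) (⊥ : Ideal S) (algebraMap B S) Ideal.LiesOver.over).toAlgebra
  haveI : IsScalarTower B (⊥ : Ideal B).ResidueField (⊥ : Ideal S).ResidueField :=
    IsScalarTower.of_algebraMap_eq fun b => (Ideal.ResidueField.map_algebraMap _ _ _ _ b).symm
  haveI := Groth.L05.WE.isSeparable_residueField_of_weaklyEtale (A := B) (B := S) (⊥ : Ideal B) (⊥ : Ideal S)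
  haveI : IsFractionRing B (⊥ : Ideal B).ResidueField := inferInstance
  have halg : IsAlgebraic (⊥ : Ideal B).ResidueField (algebraMap S (⊥ : Ideal S).ResidueField x) :=
    (Algebra.IsSeparable.isSeparable _ _).isIntegral.isAlgebraic
  have h1 : IsAlgebraic B x := by
    refine ((IsFractionRing.isAlgebraic_iff B (⊥ : Ideal B).ResidueField (⊥ : Ideal S).ResidueField).2 halg).of_ringHom_of_comp_eq
      (RingHom.id B) (algebraMap S (⊥ : Ideal S).ResidueField) Function.surjective_id ?_ ?_
    · rw [injective_iff_map_eq_zero]
      intro y hy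
      exact Ideal.algebraMap_residueField_eq_zero.1 hy
    · exact RingHom.ext fun b => IsScalarTower.algebraMap_apply B S (⊥ : Ideal S).ResidueField b
  exact h1.exists_nonzero_dvd (mem_nonZeroDivisors_of_ne_zero hx)

end Groth.L27.SmoothLA
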