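import Groth.Agent.L27.SmoothLA.Root
import Groth.Agent.L27.SmoothLA.Kummer
import Groth.Agent.L27.SmoothLA.Lift
import Groth.Agent.L27.EtSite.StrictLocal
import Groth.Agent.L27.EtSite.Pull

/-! # Degree one classes on strictly local curves are constant Kummer classes -/

set_option autoImplicit false
set_option linter.style.haveILetI false
set_option linter.unusedSectionVars false
set_option backward.isDefEq.respectTransparency.types false

universe u

open CategoryTheory CategoryTheory.Limits AlgebraicGeometry Opposite IsLocalRing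

noncomputable section

namespace Groth.L27.SmoothLA

open Groth.L27.LimCoh Groth.L27.PBC

section Ring

variable (ℓ : ℕ) [NeZero ℓ]

/-- A root of unity and invertibility of the order. -/
structure Good (L : Type u) [CommRing L] where
  ζ : L
  aeval_eq : Polynomial.aeval ζ (Polynomial.cyclotomic ℓ ℤ) = 0
  isUnit : IsUnit (ℓ : L)

variable {ℓ}

def Good.map {L M : Type u} [CommRing L] [CommRing M] (G : Good ℓ L) (φ : L →+* M) : Good ℓ M where
  ζ := φ G.ζ
  aeval_eq := (Polynomial.aeval_algHom_apply φ.toIntAlgHom G.ζ _).trans ((congrArg φ G.aeval_eq).trans (map_zero φ))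
  isUnit := by simpa using G.isUnit.map φ

theorem Good.map_map {L M N : Type u} [CommRing L] [CommRing M] [CommRing N] (G : Good ℓ L) (φ : L →+* M)
    (ψ : M →+* N) : (G.map φ).map ψ = G.map (ψ.comp φ) := rfl

variable {L M : Type u} [CommRing L] [CommRing M] (G : Good ℓ L)

/-- Units as units of global functions. -/
def toΓ (L : Type u) [CommRing L] : Lˣ →* Γ(Spec (CommRingCat.of L), ⊤)ˣ :=
  Units.map (Scheme.ΓSpecIso (CommRingCat.of L)).inv.hom.toMonoidHom

/-- The root of unity as a global function. -/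
def Good.γ : Γ(Spec (CommRingCat.of L), ⊤) := (Scheme.ΓSpecIso (CommRingCat.of L)).inv G.ζ

theorem Good.γ_aeval : Polynomial.aeval G.γ (Polynomial.cyclotomic ℓ ℤ) = 0 :=
  (G.map (Scheme.ΓSpecIso (CommRingCat.of L)).inv.hom).aeval_eq

theorem Good.γ_pow : G.γ ^ ℓ = 1 := by
  obtain ⟨Q, hQ⟩ := Polynomial.cyclotomic.dvd_X_pow_sub_one ℓ ℤ
  have := congrArg (Polynomial.aeval G.γ) hQ
  rw [map_sub, map_pow, Polynomial.aeval_X, map_one, map_mul, G.γ_aeval, zero_mul, sub_eq_zero] at this
  exact this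

theorem Good.shortExact : (kSC ℓ G.γ G.γ_pow).ShortExact :=
  kSC_shortExact ℓ G.γ G.γ_pow (G.map (Scheme.ΓSpecIso (CommRingCat.of L)).inv.hom).isUnit G.γ_aeval

/-- The class of a unit of a ring. -/
def kcls (a : Lˣ) : EtCoh.H (Spec (CommRingCat.of L)) (EtCoh.const _ (ZMod ℓ)) 1 :=
  cls ℓ G.γ G.γ_pow G.shortExact (toΓ L a)

theorem kcls_mul (a b : Lˣ) : kcls G (a * b) = kcls G a + kcls G b := by
  have h : MuConst.ofUnit (U := EtCoh.top (Spec (CommRingCat.of L))) (toΓ L (a * b)) =
      MuConst.ofUnit (U := EtCoh.top (Spec (CommRingCat.of L))) (toΓ L a) +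
        MuConst.ofUnit (U := EtCoh.top (Spec (CommRingCat.of L))) (toΓ L b) :=
    MuConst.toUnit_injective (map_mul (toΓ L) a b)
  simp only [kcls, cls]
  rw [h]
  exact (congrArg (δH _ 0) (map_add (secEq _).symm _ _)).trans (map_add _ _ _)

theorem kcls_eq_zero_iff (a : Lˣ) : kcls G a = 0 ↔ ∃ b : Lˣ, b ^ ℓ = a := by
  rw [kcls, cls_eq_zero_iff]
  constructor
  · rintro ⟨b, hb⟩
    refine ⟨Units.map (Scheme.ΓSpecIso (CommRingCat.of L)).hom.hom.toMonoidHom b, Units.ext ?_⟩
    have h := congrArg (fun c : Γ(Spec (CommRingCat.of L), ⊤)ˣ => (Scheme.ΓSpecIso (CommRingCat.of L)).hom (c : Γ(Spec (CommRingCat.of L), ⊤))) hb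
    simp only [Units.val_pow_eq_pow_val, map_pow] at h ⊢
    refine h.trans ?_
    exact ConcreteCategory.congr_hom (Scheme.ΓSpecIso (CommRingCat.of L)).inv_hom_id (a : L)
  · rintro ⟨b, rfl⟩
    exact ⟨toΓ L b, (map_pow _ _ _).symm⟩

theorem pullC_kcls (φ : L →+* M) [PreservesFiniteLimits (EtCoh.pull (Spec.map (CommRingCat.ofHom φ)))] (a : Lˣ) :
    pullC (Spec.map (CommRingCat.ofHom φ)) ℓ 1 (kcls G a) = kcls (G.map φ) (Units.map φ.toMonoidHom a) := by
  have hnat : ∀ x : L, (Spec.map (CommRingCat.ofHom φ)).appTop ((Scheme.ΓSpecIso (CommRingCat.of L)).inv x) =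
      (Scheme.ΓSpecIso (CommRingCat.of M)).inv (φ x) := fun x =>
    (ConcreteCategory.congr_hom (Scheme.ΓSpecIso_inv_naturality (CommRingCat.ofHom φ)) x).symm
  have hζ : (Spec.map (CommRingCat.ofHom φ)).appTop G.γ = (G.map φ).γ := hnat G.ζ
  have key : ∀ (γ' : Γ(Spec (CommRingCat.of M), ⊤)) (h1 : γ' ^ ℓ = 1) (h2 : (kSC ℓ γ' h1).ShortExact)
      (e : γ' = (G.map φ).γ) (b : Γ(Spec (CommRingCat.of M), ⊤)ˣ),
      cls ℓ γ' h1 h2 b = cls ℓ (G.map φ).γ (G.map φ).γ_pow (G.map φ).shortExact b := by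
    intro γ' h1 h2 e b
    subst e
    rfl
  have hS' : (kSC ℓ ((Spec.map (CommRingCat.ofHom φ)).appTop G.γ) (by rw [hζ]; exact (G.map φ).γ_pow)).ShortExact := by
    have := (G.map φ).shortExact
    simp only [hζ]
    exact this
  refine (pullC_cls ℓ G.γ G.γ_pow G.shortExact (Spec.map (CommRingCat.ofHom φ)) _ hS' _).trans ((key _ _ hS' hζ _).trans ?_)
  exact congrArg (cls ℓ _ _ _) (Units.ext (hnat _))

/-- Classes over a field are Kummer classes. -/
theorem exists_kcls (F : Type u) [Field F] (G : Good ℓ F)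
    (ξ : EtCoh.H (Spec (CommRingCat.of F)) (EtCoh.const _ (ZMod ℓ)) 1) : ∃ a : Fˣ, kcls G a = ξ := by
  haveI := L28.EtTrace.subsingleton_gm_one F
  obtain ⟨a, ha⟩ := exists_cls ℓ G.γ G.γ_pow G.shortExact ξ
  refine ⟨Units.map (Scheme.ΓSpecIso (CommRingCat.of F)).hom.hom.toMonoidHom a, ?_⟩
  rw [← ha, kcls]
  exact congrArg (cls ℓ _ _ _) (Units.ext (ConcreteCategory.congr_hom (Scheme.ΓSpecIso (CommRingCat.of F)).hom_inv_id _))

theorem isIntegrallyClosed_stalk (L : Type u) [CommRing L] [IsDomain L] [IsIntegrallyClosed L]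
    (x : Spec (CommRingCat.of L)) : IsIntegrallyClosed ((Spec (CommRingCat.of L)).presheaf.stalk x) := by
  let O := (Spec (CommRingCat.of L)).presheaf.stalk x
  letI : Algebra L O := (StructureSheaf.toStalk L x).hom.toAlgebra
  haveI : IsLocalization.AtPrime O x.asIdeal := StructureSheaf.IsLocalization.to_stalk L x
  exact isIntegrallyClosed_of_isLocalization O x.asIdeal.primeCompl x.asIdeal.primeCompl_le_nonZeroDivisors

/-- Classes on a normal domain are detected in its fraction field. -/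
theorem injective_pullC_frac (L F : Type u) [CommRing L] [IsDomain L] [IsIntegrallyClosed L] [Field F] [Algebra L F]
    [IsFractionRing L F] [PreservesFiniteLimits (EtCoh.pull (Spec.map (CommRingCat.ofHom (algebraMap L F))))] :
    Function.Injective (pullC (Spec.map (CommRingCat.ofHom (algebraMap L F))) ℓ 1) := by
  haveI : IsIntegral (Spec (CommRingCat.of L)) := inferInstance
  haveI : IsPreimmersion (Spec.map (CommRingCat.ofHom (algebraMap L F))) :=
    IsPreimmersion.of_isLocalization (nonZeroDivisors L)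
  refine injective_pullC_generic (isIntegrallyClosed_stalk L) _ ?_ ℓ
  have h : ∀ z : Spec (CommRingCat.of F),
      (Spec.map (CommRingCat.ofHom (algebraMap L F))) z = genericPoint (Spec (CommRingCat.of L)) := by
    intro z
    rw [genericPoint_eq_bot_of_affine]
    refine PrimeSpectrum.ext ?_
    show z.asIdeal.comap (algebraMap L F) = ⊥
    rw [eq_bot_of_isPrime z.asIdeal]
    exact Ideal.comap_bot_of_injective _ (IsFractionRing.injective L F)
  ext y
  exact ⟨fun ⟨z, hz⟩ => hz ▸ h z, fun hy => ⟨closedPoint F, (h _).trans (Set.mem_singleton_iff.1 hy).symm⟩⟩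
where
  eq_bot_of_isPrime {F : Type u} [Field F] (I : Ideal F) [I.IsPrime] : I = ⊥ :=
    (Ideal.eq_bot_or_top I).resolve_right ‹I.IsPrime›.ne_top

end Ring

/-- Divisibility of valuations from vanishing on the strict localisation. -/
theorem dvd_val_of_class {A : Type u} [CommRing A] [IsDomain A] [IsIntegrallyClosed A] [IsNoetherianRing A]
    {ℓ : ℕ} [NeZero ℓ] (hℓ : ℓ.Prime) (GA : Good ℓ A) {g₀ : A} (hgF : IsUnit (algebraMap A (FractionRing A) g₀))
    [PreservesFiniteLimits (EtCoh.pull (Spec.map (CommRingCat.ofHom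
      (IsLocalization.Away.lift g₀ hgF : Localization.Away g₀ →+* FractionRing A))))]
    (ξ : EtCoh.H (Spec (CommRingCat.of (Localization.Away g₀))) (EtCoh.const _ (ZMod ℓ)) 1)
    (a : (FractionRing A)ˣ)
    (ha : kcls (GA.map (algebraMap A (FractionRing A))) a = pullC (Spec.map (CommRingCat.ofHom
      (IsLocalization.Away.lift g₀ hgF : Localization.Away g₀ →+* FractionRing A))) ℓ 1 ξ)
    {c s : A} (hs : s ∈ nonZeroDivisors A) (hc : c ≠ 0)
    (hac : algebraMap A (FractionRing A) c = (a : FractionRing A) * algebraMap A (FractionRing A) s ^ ℓ)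
    {P : Ideal A} [P.IsPrime] (hgP : g₀ ∉ P) (hP1 : P.height = 1) {t : A} (ht : Uni P t) :
    ℓ ∣ val P t c := by
  let F := FractionRing A
  let L := Localization.Away g₀
  let φLF : L →+* F := IsLocalization.Away.lift g₀ hgF
  let vF := Spec.map (CommRingCat.ofHom φLF)
  obtain ⟨B, _, _, _, _, _, hctr⟩ := exists_strictLoc A P
  obtain ⟨_, _, _⟩ := normal_noetherian (B := A) (S := B)
  have hinj : Function.Injective (algebraMap A B) := by
    rw [injective_iff_map_eq_zero]
    intro b hb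
    by_contra hb0
    exact one_ne_zero (α := B) (Module.Flat.isSMulRegular_of_nonZeroDivisors
      (mem_nonZeroDivisors_of_ne_zero hb0) (show b • (1 : B) = b • 0 by rw [Algebra.smul_def, hb, zero_mul, smul_zero]))
  have hgB : IsUnit (algebraMap A B g₀) := by
    refine notMem_maximalIdeal.1 fun h => hgP ?_
    rw [← hctr]; exact h
  let φLB : L →+* B := IsLocalization.Away.lift g₀ hgB
  let FB := FractionRing B
  let ψ : F →+* FB := IsFractionRing.lift (g := (algebraMap B FB).comp (algebraMap A B))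
    ((IsFractionRing.injective B FB).comp hinj)
  have hψ : ∀ x, ψ (algebraMap A F x) = algebraMap B FB (algebraMap A B x) := fun x =>
    IsFractionRing.lift_algebraMap _ x
  have hsq : ψ.comp φLF = (algebraMap B FB).comp φLB :=
    IsLocalization.ringHom_ext (Submonoid.powers (g₀)) (RingHom.ext fun x => by
      simp only [RingHom.comp_apply, φLF, φLB, IsLocalization.Away.lift_eq]
      exact hψ x)
  let u1 := Spec.map (CommRingCat.ofHom ψ)
  let u2 := Spec.map (CommRingCat.ofHom (algebraMap B FB))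
  let u3 := Spec.map (CommRingCat.ofHom φLB)
  haveI := EtSite.preservesFiniteLimits_pull u1
  haveI := EtSite.preservesFiniteLimits_pull u2
  haveI := EtSite.preservesFiniteLimits_pull u3
  haveI := EtSite.preservesFiniteLimits_pull (u1 ≫ vF)
  have hw : u2 ≫ u3 = u1 ≫ vF := by
    rw [← Spec.map_comp, ← Spec.map_comp, ← CommRingCat.ofHom_comp, ← CommRingCat.ofHom_comp, hsq]
  haveI := EtSite.subsingleton_H B (EtCoh.const (Spec (CommRingCat.of B)) (ZMod ℓ)) 1 le_rfl
  have h0 : pullC u1 ℓ 1 (pullC vF ℓ 1 ξ) = 0 := by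
    rw [pullC_comp_eq_zero_iff u1 vF rfl, ← pullC_comp_eq_zero_iff u2 u3 hw,
      Subsingleton.elim (pullC u3 ℓ 1 ξ) 0, map_zero]
  rw [← ha, pullC_kcls] at h0
  obtain ⟨w, hw'⟩ := (kcls_eq_zero_iff _ _).1 h0
  have hcB : algebraMap B FB (algebraMap A B c) = (((w : FB) * ψ (algebraMap A F s))) ^ ℓ := by
    rw [← hψ, hac, map_mul, map_pow, mul_pow]
    exact congrArg (· * _) (by simpa using (congrArg Units.val hw').symm)
  obtain ⟨e, d, hd, hed⟩ := IsFractionRing.div_surjective B ((w : FB) * ψ (algebraMap A F s))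
  have hd0 : d ≠ 0 := nonZeroDivisors.ne_zero hd
  have hB : algebraMap A B c * d ^ ℓ = e ^ ℓ := IsFractionRing.injective B FB (by
    rw [map_mul, map_pow, map_pow, hcB, ← hed, div_pow, div_mul_cancel₀]
    exact pow_ne_zero _ (IsFractionRing.to_map_ne_zero_of_mem_nonZeroDivisors hd))
  have hmax : maximalIdeal B = Ideal.span {algebraMap A B t} := by
    haveI := Groth.S7125aux.isDVR_of_height_eq_one P hP1
    have huP : ∀ y : (ctr A B).primeCompl, IsUnit (algebraMap A B y) := isUnit_algebraMap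
    refine le_antisymm ?_ ((Ideal.span_singleton_le_iff_mem _).2 ?_)
    · rw [maximalIdeal_eq_map (B := A) (S := B), hctr, Ideal.map_le_iff_le_comap]
      intro x hx
      rcases eq_or_ne x 0 with rfl | hx0
      · exact Ideal.zero_mem _
      obtain ⟨a', s', ha', hs', h⟩ := exists_val hP1 ht hx0
      have hv : val P t x ≠ 0 := fun hv => ha' (by
        rw [hv, pow_zero, mul_one] at h
        rw [← h]
        exact P.mul_mem_right _ hx)
      have hsu : IsUnit (algebraMap A B s') := notMem_maximalIdeal.1 fun hh' => hs' (by rw [← hctr]; exact hh')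
      rw [Ideal.mem_comap, Ideal.mem_span_singleton, ← hsu.dvd_mul_right, ← map_mul, h, map_mul, map_pow]
      exact dvd_mul_of_dvd_right (dvd_pow_self _ hv) _
    · have := ht.mem
      rw [← hctr] at this
      exact this
  have hprin : (maximalIdeal B).IsPrincipal := ⟨⟨_, hmax⟩⟩
  haveI hPID : IsPrincipalIdealRing B :=
    ((tfae_of_isNoetherianRing_of_isLocalRing_of_isDomain B).out 4 0).mp hprin
  have htB : algebraMap A B t ≠ 0 := fun h => ht.ne_zero (by
    rw [show t = 0 from hinj (h.trans (map_zero _).symm), map_zero])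
  have hq : Prime (algebraMap A B t) :=
    (Ideal.span_singleton_prime htB).1 (hmax ▸ (maximalIdeal.isMaximal B).isPrime)
  have hcomap : (Ideal.span {algebraMap A B t}).comap (algebraMap A B) = P := by rw [← hmax]; exact hctr
  have hcB0 : algebraMap A B c ≠ 0 := fun h => hc (hinj (h.trans (map_zero _).symm))
  have h1 := multiplicity_map hP1 ht (algebraMap A B) hinj hq hcomap hc
  rw [show multiplicity (algebraMap A B t) (algebraMap A B t) = 1 from
    (congrArg (multiplicity _) (pow_one _).symm).trans (multiplicity_pow_self_of_prime hq 1), mul_one] at h1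
  have he0 : e ≠ 0 := fun h => mul_ne_zero hcB0 (pow_ne_zero _ hd0) (by rw [hB, h, zero_pow hℓ.ne_zero])
  have h2 := congrArg (multiplicity (algebraMap A B t)) hB
  rw [mult_mul hq hcB0 (pow_ne_zero _ hd0), mult_pow hq hd0, mult_pow hq he0, h1] at h2
  exact (Nat.dvd_add_left (Nat.dvd_mul_right ℓ _)).1 (h2 ▸ Nat.dvd_mul_right ℓ _)

section Stage

variable {R : Type u} [CommRing R] [IsDomain R] [IsNoetherianRing R] [IsIntegrallyClosed R] [IsLocalRing R]
  {A : Type u} [CommRing A] [IsDomain A] [IsIntegrallyClosed A] [IsNoetherianRing A]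
  [HenselianLocalRing A] [IsSepClosed (ResidueField A)]
  [Algebra (Polynomial R) A] [Algebra.WeaklyEtale (Polynomial R) A]
  (ι : A →+* PowerSeries R) [IsLocalHom ι] (hι : ∀ p : Polynomial R, ι (algebraMap (Polynomial R) A p) = p)
  {ℓ : ℕ} (hℓ : ℓ.Prime) (hu : IsUnit (ℓ : R)) (ζ : R) (hζ : IsPrimitiveRoot ζ ℓ)

/-- Comparison of a class with a Kummer class on a normal domain. -/
theorem pullC_eq_kcls {L L' F : Type u} [CommRing L] [CommRing L'] [IsDomain L'] [IsIntegrallyClosed L'] [Field F]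
    [Algebra L' F] [IsFractionRing L' F] {ℓ : ℕ} [NeZero ℓ] (G : Good ℓ L') (φ : L →+* L') (φF : L →+* F)
    (hφ : (algebraMap L' F).comp φ = φF) [PreservesFiniteLimits (EtCoh.pull (Spec.map (CommRingCat.ofHom φ)))]
    [PreservesFiniteLimits (EtCoh.pull (Spec.map (CommRingCat.ofHom φF)))]
    (ξ : EtCoh.H (Spec (CommRingCat.of L)) (EtCoh.const _ (ZMod ℓ)) 1) (a : Fˣ)
    (ha : kcls (G.map (algebraMap L' F)) a = pullC (Spec.map (CommRingCat.ofHom φF)) ℓ 1 ξ)
    (b : L'ˣ) (s x : Fˣ) (h : a * s ^ ℓ = Units.map (algebraMap L' F).toMonoidHom b * x ^ ℓ) :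
    pullC (Spec.map (CommRingCat.ofHom φ)) ℓ 1 ξ = kcls G b := by
  haveI := EtSite.preservesFiniteLimits_pull (Spec.map (CommRingCat.ofHom (algebraMap L' F)))
  have hef : Spec.map (CommRingCat.ofHom (algebraMap L' F)) ≫ Spec.map (CommRingCat.ofHom φ) =
      Spec.map (CommRingCat.ofHom φF) := by
    rw [← Spec.map_comp, ← CommRingCat.ofHom_comp, hφ]
  refine sub_eq_zero.1 (injective_pullC_frac (ℓ := ℓ) L' F (Eq.trans ?_ (map_zero _).symm))
  rw [map_sub, pullC_kcls, pullC_comp _ _ hef ℓ 1 ξ, ← ha, sub_eq_zero]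
  have hk := congrArg (kcls (G.map (algebraMap L' F))) h
  rwa [kcls_mul, kcls_mul, (kcls_eq_zero_iff _ (s ^ ℓ)).2 ⟨s, rfl⟩, (kcls_eq_zero_iff _ (x ^ ℓ)).2 ⟨x, rfl⟩,
    add_zero, add_zero] at hk

/-- A Kummer class dies where the unit gets a root. -/
theorem pullC_eq_zero_of_kcls {L L' T : Type u} [CommRing L] [CommRing L'] [CommRing T] {ℓ : ℕ} [NeZero ℓ]
    (G : Good ℓ L') (φ : L →+* L') [PreservesFiniteLimits (EtCoh.pull (Spec.map (CommRingCat.ofHom φ)))]
    (j : L →+* T) [PreservesFiniteLimits (EtCoh.pull (Spec.map (CommRingCat.ofHom j)))] (j' : L' →+* T)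
    (hj : j'.comp φ = j) (ξ : EtCoh.H (Spec (CommRingCat.of L)) (EtCoh.const _ (ZMod ℓ)) 1) (b : L'ˣ)
    (hb : pullC (Spec.map (CommRingCat.ofHom φ)) ℓ 1 ξ = kcls G b) (v : Tˣ) (hv : (v : T) ^ ℓ = j' b) :
    pullC (Spec.map (CommRingCat.ofHom j)) ℓ 1 ξ = 0 := by
  haveI := EtSite.preservesFiniteLimits_pull (Spec.map (CommRingCat.ofHom j'))
  have hef : Spec.map (CommRingCat.ofHom j') ≫ Spec.map (CommRingCat.ofHom φ) =
      Spec.map (CommRingCat.ofHom j) := by
    rw [← Spec.map_comp, ← CommRingCat.ofHom_comp, hj]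
  rw [← pullC_comp _ _ hef ℓ 1 ξ, hb, pullC_kcls, kcls_eq_zero_iff]
  exact ⟨v, Units.ext hv⟩

/-- Vanishing where a root is given. -/
theorem pullC_eq_zero_of_root {A : Type u} [CommRing A] [IsDomain A] [IsIntegrallyClosed A]
    {ℓ : ℕ} [NeZero ℓ] (hℓ : ℓ.Prime) (GA : Good ℓ A) {g₀ α₀ : A} (L' : Type u) [CommRing L'] [Algebra A L']
    [IsLocalization.Away (g₀ * α₀) L'] (hα : α₀ ≠ 0) (hg : g₀ ≠ 0) (hgF : IsUnit (algebraMap A (FractionRing A) g₀))
    [PreservesFiniteLimits (EtCoh.pull (Spec.map (CommRingCat.ofHom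
      (IsLocalization.Away.lift g₀ hgF : Localization.Away g₀ →+* FractionRing A))))]
    (ξ : EtCoh.H (Spec (CommRingCat.of (Localization.Away g₀))) (EtCoh.const _ (ZMod ℓ)) 1)
    (a : (FractionRing A)ˣ)
    (ha : kcls (GA.map (algebraMap A (FractionRing A))) a = pullC (Spec.map (CommRingCat.ofHom
      (IsLocalization.Away.lift g₀ hgF : Localization.Away g₀ →+* FractionRing A))) ℓ 1 ξ)
    {c s x : A} (hsF : algebraMap A (FractionRing A) s ≠ 0) (hc : c ≠ 0)
    (hac : algebraMap A (FractionRing A) c = (a : FractionRing A) * algebraMap A (FractionRing A) s ^ ℓ)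
    (hx : c * α₀ ^ (ℓ - 1) = x ^ ℓ)
    {T : Type u} [CommRing T] (j : Localization.Away g₀ →+* T)
    [PreservesFiniteLimits (EtCoh.pull (Spec.map (CommRingCat.ofHom j)))] (v : Tˣ)
    (hv : (v : T) ^ ℓ = j (algebraMap A _ α₀)) : pullC (Spec.map (CommRingCat.ofHom j)) ℓ 1 ξ = 0 := by
  let F := FractionRing A
  have hgα : g₀ * α₀ ≠ 0 := mul_ne_zero hg hα
  haveI : IsDomain L' :=
    IsLocalization.isDomain_of_le_nonZeroDivisors L' (powers_le_nonZeroDivisors_of_noZeroDivisors hgα)
  haveI : IsIntegrallyClosed L' :=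
    isIntegrallyClosed_of_isLocalization L' (Submonoid.powers (g₀ * α₀)) (powers_le_nonZeroDivisors_of_noZeroDivisors hgα)
  have hu' : IsUnit (algebraMap A L' g₀ * algebraMap A L' α₀) := by
    rw [← map_mul]; exact IsLocalization.Away.algebraMap_isUnit _
  have h0 : ∀ {z : A}, z ≠ 0 → algebraMap A F z ≠ 0 := fun hz h =>
    hz (IsFractionRing.injective A F (h.trans (map_zero _).symm))
  letI : Algebra L' F := (IsLocalization.Away.lift (g₀ * α₀) (isUnit_iff_ne_zero.2 (h0 hgα))).toAlgebra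
  haveI : IsScalarTower A L' F := IsScalarTower.of_algebraMap_eq fun y => (IsLocalization.Away.lift_eq _ _ y).symm
  haveI : IsFractionRing L' F :=
    IsFractionRing.isFractionRing_of_isDomain_of_isLocalization (Submonoid.powers (g₀ * α₀)) L' F
  let φ : Localization.Away g₀ →+* L' := IsLocalization.Away.lift g₀ (isUnit_of_mul_isUnit_left hu')
  let φF : Localization.Away g₀ →+* F := IsLocalization.Away.lift g₀ hgF
  let αU : L'ˣ := (isUnit_of_mul_isUnit_right hu').unit
  haveI := EtSite.preservesFiniteLimits_pull (Spec.map (CommRingCat.ofHom φ))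
  have hφ : (algebraMap L' F).comp φ = φF :=
    IsLocalization.ringHom_ext (Submonoid.powers g₀) (RingHom.ext fun y => by
      simp only [RingHom.comp_apply, φ, φF, IsLocalization.Away.lift_eq]
      exact (IsScalarTower.algebraMap_apply A L' F y).symm)
  have hGF : (GA.map (algebraMap A L')).map (algebraMap L' F) = GA.map (algebraMap A F) := by
    rw [Good.map_map, ← IsScalarTower.algebraMap_eq]
  have hxne : algebraMap A F x ≠ 0 := h0 fun h => mul_ne_zero hc (pow_ne_zero (ℓ - 1) hα)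
    (by rw [hx, h, zero_pow hℓ.ne_zero])
  have hsame := pullC_eq_kcls (GA.map (algebraMap A L')) φ φF hφ ξ a
    (by rw [hGF]; exact ha) αU (Units.mk0 _ hsF) (Units.mk0 _ (div_ne_zero hxne (h0 hα))) (Units.ext (by
      have h4 := congrArg (algebraMap A F) hx
      simp only [map_mul, map_pow] at h4
      simp only [Units.val_mul, Units.val_pow_eq_pow_val, Units.coe_map, αU, Units.val_mk0,
        RingHom.toMonoidHom_eq_coe, MonoidHom.coe_coe, IsUnit.unit_spec, ← IsScalarTower.algebraMap_apply]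
      rw [← hac, div_pow, ← h4, mul_div_assoc', eq_div_iff (pow_ne_zero _ (h0 hα))]
      nth_rewrite 1 [show ℓ = ℓ - 1 + 1 by have := hℓ.pos; omega]
      rw [pow_succ]
      ring))
  have hjα : IsUnit (j (algebraMap A _ g₀) * j (algebraMap A _ α₀)) :=
    ((IsLocalization.Away.algebraMap_isUnit (S := Localization.Away g₀) g₀).map j).mul (hv ▸ v.isUnit.pow ℓ)
  have hunit : IsUnit ((j.comp (algebraMap A (Localization.Away g₀))) (g₀ * α₀)) := by
    rw [RingHom.comp_apply, map_mul, map_mul]; exact hjα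
  let j' : L' →+* T := IsLocalization.Away.lift (g₀ * α₀) hunit
  refine pullC_eq_zero_of_kcls (GA.map (algebraMap A L')) φ j j'
    (IsLocalization.ringHom_ext (Submonoid.powers g₀) (RingHom.ext fun y => by
      simp only [RingHom.comp_apply, φ, j', IsLocalization.Away.lift_eq])) ξ αU hsame v ?_
  simp only [αU, j', IsUnit.unit_spec, IsLocalization.Away.lift_eq]
  exact hv

include ι hι hℓ hu hζ in
/-- A class over `A[1/g]` dies wherever a suitable constant gets a root. -/
theorem exists_const {g : R} (hg : g ≠ 0)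
    (ξ : EtCoh.H (Spec (CommRingCat.of (Localization.Away (cst (A := A) g)))) (EtCoh.const _ (ZMod ℓ)) 1) :
    ∃ α : R, α ≠ 0 ∧ ∀ (T : Type u) [CommRing T] (j : Localization.Away (cst (A := A) g) →+* T)
      [PreservesFiniteLimits (EtCoh.pull (Spec.map (CommRingCat.ofHom j)))] (v : Tˣ),
      (v : T) ^ ℓ = j (algebraMap A _ (cst α)) → pullC (Spec.map (CommRingCat.ofHom j)) ℓ 1 ξ = 0 := by
  haveI : NeZero ℓ := ⟨hℓ.ne_zero⟩
  have hcst : Function.Injective (cst (R := R) (A := A)) := fun a b h => by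
    have := congrArg ι h
    rw [ι_cst ι hι, ι_cst ι hι] at this
    exact PowerSeries.C_injective this
  have hcst0 : ∀ {r : R}, r ≠ 0 → cst (A := A) r ≠ 0 := fun hr h => hr (hcst (h.trans (map_zero _).symm))
  haveI : NeZero (ℓ : R) := ⟨hu.ne_zero⟩
  let GR : Good ℓ R := ⟨ζ, by
    rw [Polynomial.aeval_def, Polynomial.eval₂_eq_eval_map, Polynomial.map_cyclotomic]
    exact (Polynomial.isRoot_cyclotomic_iff.2 hζ).eq_zero, hu⟩
  let GA : Good ℓ A := GR.map cst
  let F := FractionRing A
  let L := Localization.Away (cst (A := A) g)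
  have hgF : IsUnit (algebraMap A F (cst g)) :=
    isUnit_iff_ne_zero.2 fun h => hcst0 hg (IsFractionRing.injective A F (h.trans (map_zero _).symm))
  let φLF : L →+* F := IsLocalization.Away.lift (cst g) hgF
  let vF := Spec.map (CommRingCat.ofHom φLF)
  haveI := EtSite.preservesFiniteLimits_pull vF
  let GL : Good ℓ L := GA.map (algebraMap A L)
  let GF : Good ℓ F := GA.map (algebraMap A F)
  obtain ⟨a, ha⟩ := exists_kcls F GF (pullC vF ℓ 1 ξ)
  obtain ⟨r, s, hs, hrs⟩ := IsFractionRing.div_surjective A (a : F)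
  have hsF : algebraMap A F s ≠ 0 := IsFractionRing.to_map_ne_zero_of_mem_nonZeroDivisors hs
  let sU : Fˣ := Units.mk0 _ hsF
  let c := r * s ^ (ℓ - 1)
  have hac : algebraMap A F c = (a : F) * algebraMap A F s ^ ℓ := by
    have h1 : algebraMap A F s ^ ℓ = algebraMap A F s * algebraMap A F s ^ (ℓ - 1) := by
      rw [← pow_succ', Nat.sub_add_cancel hℓ.one_le]
    rw [← hrs, map_mul, map_pow, h1, ← mul_assoc, div_mul_cancel₀ _ hsF]
  have hc : c ≠ 0 := fun h => by
    rw [h, map_zero] at hac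
    exact mul_ne_zero a.ne_zero (pow_ne_zero _ hsF) hac.symm
  have H : LocPow ℓ c g := by
    intro P hP hgP hh
    haveI := hP
    rcases eq_or_ne P ⊥ with rfl | hP0
    · exact ⟨c, 1, 1, 1, by simpa using hc, by simp, one_ne_zero, one_ne_zero, by ring⟩
    have hP1 := height_eq_one hP0 hh
    obtain ⟨t, ht⟩ := exists_uni hP1
    suffices hval : ℓ ∣ val P t c by
      obtain ⟨m, hm⟩ := hval
      obtain ⟨a', s', ha', hs', h⟩ := exists_val hP1 ht hc
      refine ⟨a', s', t ^ m, 1, ha', hs', pow_ne_zero _ fun h0 => ht.ne_zero (by rw [h0, map_zero]), one_ne_zero, ?_⟩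
      rw [one_pow, mul_one, h, hm, ← pow_mul, mul_comm m ℓ]
    exact dvd_val_of_class hℓ GA hgF ξ a ha hs hc hac hgP hP1 ht
  obtain ⟨α, x, hα, hx⟩ := exists_mul_pow_eq ι hι hℓ hu ζ hζ hc hg H
  refine ⟨α, hα, fun T _ j _ v hv => ?_⟩
  exact pullC_eq_zero_of_root hℓ GA (Localization.Away (cst (A := A) g * cst α)) (hcst0 hα) (hcst0 hg) hgF ξ a ha hsF
    hc hac hx j v hv

end Stage

end Groth.L27.SmoothLA
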