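import Groth.Prelude.Def_EtAcyc
import Groth.Prelude.Def_PBC
import Mathlib.RingTheory.Localization.Basic

/-! # Torsion invertible on the base -/

set_option autoImplicit false
set_option backward.isDefEq.respectTransparency.types false

universe u

open CategoryTheory CategoryTheory.Limits AlgebraicGeometry Opposite

namespace Groth.L27.SmoothLA

theorem isLTorsion_of_invertible {T S : Scheme.{u}} (p : T ⟶ S) {F : EtCoh.Ab T}
    (hF : EtPBC.IsTorsionInvertibleOn S F) : EtAcyc.IsLTorsion (EtAcyc.primesInvertibleOn S) F := by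
  intro U s x
  obtain ⟨V, g, m, hv, hm, h0⟩ := hF U s x
  refine ⟨V, g, m, hv, ⟨?_, fun r hr hrm => ⟨hr, fun y => ?_⟩⟩, h0⟩
  · let y : S := p.base (U.hom.base x)
    refine Nat.pos_of_ne_zero fun h => ?_
    subst h
    have h1 := hm.map (S.evaluation ⊤ y trivial).hom
    rw [map_natCast, Nat.cast_zero] at h1
    exact h1.ne_zero rfl
  · obtain ⟨d, rfl⟩ := hrm
    have h1 : IsUnit (r : Γ(S, ⊤)) := isUnit_of_mul_isUnit_left (by simpa using hm : IsUnit ((r : Γ(S, ⊤)) * d))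
    have h2 := h1.map (S.evaluation ⊤ y trivial).hom
    rw [map_natCast] at h2
    exact h2.ne_zero

theorem isLTorsion_mono {L M : Set ℕ} {T : Scheme.{u}} {F : EtCoh.Ab T} (h : ∀ ℓ ∈ L, ℓ.Prime → ℓ ∈ M)
    (hF : EtAcyc.IsLTorsion L F) : EtAcyc.IsLTorsion M F := fun U s x => by
  obtain ⟨V, g, m, hv, ⟨hm0, hm⟩, h0⟩ := hF U s x
  exact ⟨V, g, m, hv, ⟨hm0, fun r hr hd => h r (hm r hr hd) hr⟩, h0⟩

theorem natCast_ne_zero_of_ne_ringChar {k : Type u} [Field k] {ℓ : ℕ} (hp : ℓ.Prime) (h : ℓ ≠ ringChar k) :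
    (ℓ : k) ≠ 0 := fun h0 => by
  have hd := (ringChar.spec k ℓ).1 h0
  rcases hp.eq_one_or_self_of_dvd _ hd with h1 | h1
  · exact one_ne_zero (α := k) (by
      have := (ringChar.spec k 1).2 (h1 ▸ dvd_refl _)
      simpa using this)
  · exact h h1.symm

theorem ne_ringChar_of_primesInvertible {k : Type u} [Field k] {ℓ : ℕ}
    (h : ℓ ∈ EtAcyc.primesInvertibleOn (Spec (CommRingCat.of k))) : ℓ ∈ {ℓ | ℓ.Prime ∧ ℓ ≠ ringChar k} := by
  refine ⟨h.1, fun hc => ?_⟩
  let y : Spec (CommRingCat.of k) := IsLocalRing.closedPoint k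
  refine h.2 y ?_
  let φ := (Scheme.ΓSpecIso (CommRingCat.of k)).inv ≫ (Spec (CommRingCat.of k)).evaluation ⊤ y trivial
  have h0 : (ℓ : k) = 0 := hc ▸ ringChar.Nat.cast_ringChar
  have := congrArg φ.hom h0
  simpa using this

end Groth.L27.SmoothLA
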