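import Groth.Agent.L27.SmoothLA.Main
import Groth.Agent.L27.SmoothLA.BCCrit
import Groth.Agent.L27.SmoothLA.Torsion
import Groth.Agent.L28.AffLef.Main
import Groth.Agent.L28.GmH1.Lift
import Groth.Agent.L27.SmoothLA.Stage
import Groth.Agent.S3513
import Groth.Agent.L27.SecChart.Main
import Mathlib.AlgebraicGeometry.AffineSpace
import Mathlib.RingTheory.Polynomial.UniqueFactorization
import Mathlib.RingTheory.PicardGroup
import Mathlib.RingTheory.RootsOfUnity.AlgebraicallyClosed

/-! # Acyclicity of affine space -/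

set_option autoImplicit false
set_option linter.style.haveILetI false
set_option linter.unusedSectionVars false
set_option backward.isDefEq.respectTransparency.types false

universe u

open CategoryTheory CategoryTheory.Limits AlgebraicGeometry Opposite IsLocalRing

noncomputable section

namespace Groth.L27.SmoothLA

open Groth.L28

/-- The line over an algebraically closed field has no higher cohomology. -/
theorem subsingleton_H_line (K : Type u) [Field K] [IsAlgClosed K] {ℓ : ℕ} (hℓ : ℓ.Prime) (hu : (ℓ : K) ≠ 0)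
    {q : ℕ} (hq : 0 < q) :
    Subsingleton (EtCoh.H (Spec (CommRingCat.of (Polynomial K)))
      (EtCoh.const (Spec (CommRingCat.of (Polynomial K))) (ZMod ℓ)) q) := by
  haveI : NeZero ℓ := ⟨hℓ.ne_zero⟩
  let W := Spec (CommRingCat.of (Polynomial K))
  rcases Nat.lt_or_ge 1 q with h | h
  · have hK : FieldTower.CdLE ℓ (Spec (CommRingCat.of K)) 0 := fun G _ r hr => by
      obtain ⟨i, rfl⟩ : ∃ i, r = i + 1 := ⟨r - 1, by omega⟩
      exact CurveCd.subsingleton_H_sepClosed _ G i
    let sk : W ⟶ Spec (CommRingCat.of K) := Spec.map (CommRingCat.ofHom (algebraMap K (Polynomial K)))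
    haveI : LocallyOfFiniteType sk := by
      rw [HasRingHomProperty.Spec_iff (P := @LocallyOfFiniteType)]
      exact RingHom.finiteType_algebraMap.mpr inferInstance
    have hd : topologicalKrullDim W ≤ (1 : ℕ) := by
      refine (PrimeSpectrum.topologicalKrullDim_eq_ringKrullDim (Polynomial K)).trans_le ?_
      rw [Polynomial.ringKrullDim_of_isNoetherianRing, ringKrullDim_eq_zero_of_field]
      norm_num
    have := AffLef.affBound hℓ 1 K 0 hK W sk hd
    rw [zero_add] at this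
    refine this _ ?_ q h
    refine DerBC.Killed.isLTorsion ⟨ℓ, ⟨hℓ.pos, fun p hp hd => (Nat.prime_dvd_prime_iff_eq hp hℓ).1 hd⟩, ?_⟩
    have h0 := AffineEfface.nsmul_id_const W (ZMod ℓ)
    rwa [Nat.card_zmod] at h0
  obtain rfl : q = 1 := by omega
  haveI : NeZero (ℓ : K) := ⟨hu⟩
  obtain ⟨ζ, hζ⟩ : ∃ ζ : K, IsPrimitiveRoot ζ ℓ := HasEnoughRootsOfUnity.exists_primitiveRoot K ℓ
  let G₀ : Good ℓ K :=
    { ζ := ζ
      aeval_eq := by
        have h := hζ.isRoot_cyclotomic hℓ.pos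
        rw [← Polynomial.map_cyclotomic ℓ (algebraMap ℤ K)] at h
        rwa [Polynomial.aeval_def, ← Polynomial.eval_map]
      isUnit := (hu.isUnit) }
  let G : Good ℓ (Polynomial K) := G₀.map Polynomial.C
  haveI : Subsingleton (CommRing.Pic Γ(W, ⊤)) := by
    let e := (Scheme.ΓSpecIso (CommRingCat.of (Polynomial K))).commRingCatIsoToRingEquiv
    haveI : IsDomain Γ(W, ⊤) := e.toMulEquiv.isDomain
    haveI : UniqueFactorizationMonoid Γ(W, ⊤) := MulEquiv.uniqueFactorizationMonoid e.symm.toMulEquiv inferInstance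
    infer_instance
  haveI : Subsingleton (EtCoh.H W (EtCoh.Gm W) 1) :=
    subsingleton_of_forall_eq 0 fun c => GmH1.eq_zero_of_pic c
  refine subsingleton_of_forall_eq 0 fun ξ => ?_
  obtain ⟨a, rfl⟩ := exists_cls ℓ G.γ G.γ_pow G.shortExact ξ
  refine (cls_eq_zero_iff ℓ G.γ G.γ_pow G.shortExact a).2 ?_
  let e := (Scheme.ΓSpecIso (CommRingCat.of (Polynomial K))).commRingCatIsoToRingEquiv
  obtain ⟨c, hc, hca⟩ := Polynomial.isUnit_iff.1 ((Units.map e.toRingHom.toMonoidHom a).isUnit)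
  obtain ⟨b, hb⟩ := IsAlgClosed.exists_pow_nat_eq c hℓ.pos
  have hb0 : IsUnit b := isUnit_iff_ne_zero.2 fun h => hc.ne_zero (by rw [← hb, h, zero_pow hℓ.ne_zero])
  refine ⟨(hb0.map (e.symm.toRingHom.comp Polynomial.C)).unit, Units.ext ?_⟩
  rw [Units.val_pow_eq_pow_val, IsUnit.unit_spec, ← map_pow, hb]
  show e.symm (Polynomial.C c) = _
  rw [hca]
  exact e.symm_apply_apply _

/-- The line over a separably closed field is acyclic. -/
theorem isAcyclicScheme_line (Ω : Type u) [Field Ω] [IsSepClosed Ω] (L : Set ℕ)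
    (hL : ∀ ℓ ∈ L, ℓ.Prime → (ℓ : Ω) ≠ 0) (n : ℕ) :
    EtAcyc.IsAcyclicSchemeN L n (Spec (CommRingCat.of (Polynomial Ω))) := by
  let K := AlgebraicClosure Ω
  haveI : IsPurelyInseparable Ω K := L05.isPurelyInseparable_of_isSepClosed_base Ω K
  let r : Spec (CommRingCat.of K) ⟶ Spec (CommRingCat.of Ω) := Spec.map (CommRingCat.ofHom (algebraMap Ω K))
  let ρ : Spec (CommRingCat.of (Polynomial K)) ⟶ Spec (CommRingCat.of (Polynomial Ω)) :=
    Spec.map (CommRingCat.ofHom (Polynomial.mapRingHom (algebraMap Ω K)))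
  haveI : IsIntegralHom r := IsIntegralHom.SpecMap_iff.mpr (algebraMap_isIntegral_iff.mpr inferInstance)
  haveI : UniversallyInjective r := L05.CurveNorm.universallyInjective_ext Ω K
  haveI : Surjective r := L05.CurveNorm.surjective_ext Ω K
  have c : IsPullback ρ (lineProj K) (lineProj Ω) r := by
    letI : Algebra (Polynomial Ω) (Polynomial K) := (Polynomial.mapRingHom (algebraMap Ω K)).toAlgebra
    haveI : IsScalarTower Ω (Polynomial Ω) (Polynomial K) := IsScalarTower.of_algebraMap_eq fun x => by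
      show Polynomial.C (algebraMap Ω K x) = (Polynomial.C x).map (algebraMap Ω K)
      rw [Polynomial.map_C]
    haveI : Algebra.IsPushout Ω K (Polynomial Ω) (Polynomial K) := inferInstance
    exact (CategoryTheory.IsPushout.flip
      (CommRingCat.isPushout_of_isPushout Ω K (Polynomial Ω) (Polynomial K))).op.map Scheme.Spec |>.flip
  haveI : IsIntegralHom ρ := MorphismProperty.of_isPullback (P := @IsIntegralHom) c.flip inferInstance
  haveI : UniversallyInjective ρ := MorphismProperty.of_isPullback (P := @UniversallyInjective) c.flip inferInstance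
  haveI : Surjective ρ := MorphismProperty.of_isPullback (P := @Surjective) c.flip inferInstance
  haveI : IsDomain (Polynomial Ω) := inferInstance
  haveI : IsIntegral (Spec (CommRingCat.of (Polynomial Ω))) := inferInstance
  refine ⟨inferInstance, ⟨inferInstance⟩, fun ℓ hℓ hℓL q hq _ => ?_⟩
  refine subsingleton_const_of_univHomeo ρ ℓ q (subsingleton_H_line K hℓ ?_ hq)
  intro h
  exact hL ℓ hℓL hℓ ((algebraMap Ω K).injective (by rw [map_natCast, map_zero]; exact h))

/-- Smooth morphisms with acyclic geometric fibres are acyclic. -/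
theorem isAcyclicN_smooth_fibres {X Y : Scheme.{u}} (g : X ⟶ Y) [Smooth g] [QuasiCompact g] [QuasiSeparated g]
    (L : Set ℕ) (hp : ∃ ℓ ∈ L, ℓ.Prime) (hL : ∀ ℓ ∈ L, ℓ.Prime → ∀ y : Y, (ℓ : Y.residueField y) ≠ 0) (n : ℕ)
    (hf : EtAcyc.GeomFibresAcyclicN L n g) : EtAcyc.IsAcyclicN g L n := by
  have hl : ∀ m, EtAcyc.IsLocAcyclicN g L m := fun m =>
    isULocAcyclicN_smooth g L hL m g (𝟙 _) (𝟙 _) (IsPullback.of_horiz_isIso ⟨by simp⟩)
  cases n with
  | zero => exact XV.isAcyclicN_zero_of_fibres g L (XV.surjStrict_of_loc _ L hp 0 (hl 0)) hf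
  | succ m => exact XV.isAcyclicN_of_fibres g L hp m (hl m) hf

theorem natCast_geomPt {Y : Scheme.{u}} {y : Y} {Ω : Type u} [Field Ω] [Algebra (Y.residueField y) Ω] {ℓ : ℕ}
    (h : (ℓ : Y.residueField y) ≠ 0) : (ℓ : Ω) ≠ 0 := fun h0 =>
  h ((algebraMap (Y.residueField y) Ω).injective (by rw [map_natCast, map_zero]; exact h0))

/-- The line is acyclic. -/
theorem isAcyclicN_lineProj (R : Type u) [CommRing R] (L : Set ℕ) (hp : ∃ ℓ ∈ L, ℓ.Prime)
    (hL : ∀ ℓ ∈ L, ℓ.Prime → IsUnit (ℓ : R)) (n : ℕ) : EtAcyc.IsAcyclicN (lineProj R) L n := by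
  haveI : Smooth (lineProj R) := by
    rw [HasRingHomProperty.Spec_iff (P := @Smooth)]
    exact RingHom.smooth_algebraMap.2 ⟨inferInstance, inferInstance⟩
  have hy : ∀ ℓ ∈ L, ℓ.Prime → ∀ y : Spec (CommRingCat.of R), (ℓ : (Spec (CommRingCat.of R)).residueField y) ≠ 0 := by
    intro ℓ hℓ hp y h0
    have h1 := ((hL ℓ hℓ hp).map (evalPt R y)).ne_zero
    rw [map_natCast] at h1
    exact h1 h0
  refine isAcyclicN_smooth_fibres _ L hp hy n ?_
  intro y Ω _ _ _ _
  let ψ : R →+* Ω := (algebraMap ((Spec (CommRingCat.of R)).residueField y) Ω).comp (evalPt R y)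
  letI : Algebra R Ω := ψ.toAlgebra
  letI : Algebra (Polynomial R) (Polynomial Ω) := (Polynomial.mapRingHom (algebraMap R Ω)).toAlgebra
  haveI : IsScalarTower R (Polynomial R) (Polynomial Ω) := IsScalarTower.of_algebraMap_eq fun x => by
    show Polynomial.C (algebraMap R Ω x) = (Polynomial.C x).map (algebraMap R Ω)
    rw [Polynomial.map_C]
  haveI : Algebra.IsPushout R Ω (Polynomial R) (Polynomial Ω) := inferInstance
  have c : IsPullback (Spec.map (CommRingCat.ofHom (algebraMap (Polynomial R) (Polynomial Ω)))) (lineProj Ω)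
      (lineProj R) (Spec.map (CommRingCat.ofHom (algebraMap R Ω))) :=
    (CategoryTheory.IsPushout.flip (CommRingCat.isPushout_of_isPushout R Ω (Polynomial R) (Polynomial Ω))).op.map Scheme.Spec |>.flip
  have hs : EtAcyc.geomPt (Spec (CommRingCat.of R)) y Ω = Spec.map (CommRingCat.ofHom (algebraMap R Ω)) := by
    show Spec.map _ ≫ (Spec (CommRingCat.of R)).fromSpecResidueField y = _
    rw [← specMap_evalPt, ← Spec.map_comp]
    rfl
  exact XV.isAcyclicScheme_of_iso ((pullback.congrHom rfl hs).hom ≫ c.isoPullback.inv)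
    (isAcyclicScheme_line Ω L (fun ℓ hℓ hp => natCast_geomPt (hy ℓ hℓ hp y)) n)

/-- Affine spaces over rings are acyclic. -/
theorem isAcyclicN_mvPolynomial (R : Type u) [CommRing R] (L : Set ℕ) (hp : ∃ ℓ ∈ L, ℓ.Prime)
    (hL : ∀ ℓ ∈ L, ℓ.Prime → IsUnit (ℓ : R)) (d n : ℕ) :
    EtAcyc.IsAcyclicN (Spec.map (CommRingCat.ofHom (MvPolynomial.C (σ := Fin d) (R := R)))) L n := by
  induction d with
  | zero =>
    haveI : IsIso (CommRingCat.ofHom (MvPolynomial.C (σ := Fin 0) (R := R))) :=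
      ((MvPolynomial.isEmptyRingEquiv R (Fin 0)).symm.toCommRingCatIso).isIso_hom
    exact isAcyclicN_of_isIso _ L n
  | succ d ih =>
    let Q := MvPolynomial (Fin d) R
    let e := (MvPolynomial.finSuccEquiv R d).toRingEquiv
    let ε := Spec.map (CommRingCat.ofHom e.toRingHom)
    haveI : IsIso (CommRingCat.ofHom e.toRingHom) := e.toCommRingCatIso.isIso_hom
    let h := Spec.map (CommRingCat.ofHom (MvPolynomial.C (σ := Fin d) (R := R)))
    have h1 : EtAcyc.IsAcyclicN (lineProj Q ≫ h) L n := by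
      refine ((Groth.Agent.S3513.result (lineProj Q) h L n).1 (isAcyclicN_lineProj Q L hp ?_ n)).1 ih
      intro ℓ hℓ hp
      simpa using (hL ℓ hℓ hp).map (MvPolynomial.C (σ := Fin d) (R := R))
    have h2 : EtAcyc.IsAcyclicN (inv ε ≫ lineProj Q ≫ h) L n :=
      ((Groth.Agent.S3513.result (inv ε) (lineProj Q ≫ h) L n).1 (isAcyclicN_of_isIso _ L n)).1 h1
    convert h2 using 1
    rw [IsIso.eq_inv_comp, ← Spec.map_comp, ← Spec.map_comp]
    congr 1
    refine CommRingCat.hom_ext (RingHom.ext fun r => ?_)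
    show MvPolynomial.finSuccEquiv R d (MvPolynomial.C r) = Polynomial.C (MvPolynomial.C r)
    exact (MvPolynomial.finSuccEquiv R d).commutes r

/-- Affine space over any scheme is acyclic. -/
theorem isAcyclicN_affineSpace' (Y : Scheme.{u}) (m : ℕ) (L : Set ℕ) (hp : ∃ ℓ ∈ L, ℓ.Prime)
    (hL : ∀ ℓ ∈ L, ℓ.Prime → ∀ y : Y, (ℓ : Y.residueField y) ≠ 0) (n : ℕ) :
    EtAcyc.IsAcyclicN (𝔸(ULift.{u} (Fin m); Y) ↘ Y) L n := by
  haveI : IsAffineHom (𝔸(ULift.{u} (Fin m); Y) ↘ Y) := inferInstance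
  haveI : Smooth (𝔸(ULift.{u} (Fin m); Y) ↘ Y) := SecChart.smooth_over _ _
  refine isAcyclicN_smooth_fibres _ L hp hL n ?_
  intro y Ω _ _ _ _
  have hu : ∀ ℓ ∈ L, ℓ.Prime → IsUnit (ℓ : Ω) := fun ℓ hℓ hp => (natCast_geomPt (hL ℓ hℓ hp y)).isUnit
  let s := EtAcyc.geomPt Y y Ω
  let W := MvPolynomial (Fin m) Ω
  let π : Spec (CommRingCat.of W) ⟶ Spec (CommRingCat.of Ω) := Spec.map (CommRingCat.ofHom (MvPolynomial.C))
  haveI := EtSite.preservesFiniteLimits_pull π
  have hW : EtAcyc.IsAcyclicSchemeN L n (Spec (CommRingCat.of W)) :=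
    isAcyclicScheme_of_bijective Ω π hp fun ℓ hℓL hℓ q hq =>
      ((ULA.compN_self (isAcyclicN_mvPolynomial Ω L hp hu m n)) _ (ULA.isLTorsion_const hℓ hℓL _)).1 q hq
  let e : W ≃+* MvPolynomial (ULift.{u} (Fin m)) Ω :=
    (MvPolynomial.renameEquiv Ω Equiv.ulift.symm).toRingEquiv
  haveI : IsIso (CommRingCat.ofHom e.toRingHom) := e.toCommRingCatIso.isIso_hom
  exact XV.isAcyclicScheme_of_iso ((AffineSpace.isPullback_map s (n := ULift.{u} (Fin m))).isoPullback.inv ≫
    (AffineSpace.SpecIso (ULift.{u} (Fin m)) (CommRingCat.of Ω)).hom ≫ Spec.map (CommRingCat.ofHom e.toRingHom)) hW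

end Groth.L27.SmoothLA
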