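import Groth.Agent.L27.SmoothLA.Main
import Groth.Agent.L27.SmoothLA.Torsion
import Groth.Agent.L27.SmoothLA.UBCLimit
import Groth.Agent.L27.CompTransfer.Transfer

/-! # Smooth base change for sheaves -/

set_option autoImplicit false
set_option linter.style.haveILetI false
set_option linter.unusedSectionVars false
set_option backward.isDefEq.respectTransparency.types false

universe u

open CategoryTheory CategoryTheory.Limits AlgebraicGeometry Opposite

noncomputable section

namespace Groth.L27.SmoothLA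

theorem baseChange_of_ubc {X Y X' Y' : Scheme.{u}} (f : X ⟶ Y) (g : Y' ⟶ Y) (f' : X' ⟶ Y') (g' : X' ⟶ X)
    (sq : IsPullback g' f' f g) [QuasiCompact f] [QuasiSeparated f]
    (hg : ∀ n, UBC g (EtAcyc.primesInvertibleOn Y) n) (F : EtCoh.Ab X)
    (hF : EtPBC.IsTorsionInvertibleOn Y F) (q : ℕ) :
    Nonempty ((EtCoh.pull g).obj ((EtCoh.Rpush f q).obj F) ≅ (EtCoh.Rpush f' q).obj ((EtCoh.pull g').obj F)) ∧
      IsIso (EtCoh.baseChange0 f g f' g' sq.w F) := by
  haveI := EtSite.preservesFiniteLimits_pull g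
  haveI := EtSite.preservesFiniteLimits_pull g'
  have H := fun k => hg k g (𝟙 _) (𝟙 _) (IsPullback.of_horiz_isIso ⟨by simp⟩) f f' g' sq F
    (isLTorsion_of_invertible f hF) k le_rfl
  refine ⟨⟨@asIso _ _ _ _ _ (H q)⟩, ?_⟩
  haveI := H 0
  exact CompTransfer.isIso_baseChange0_of_bcQ g f g' f' sq.w F

theorem ubc_smooth {X Y : Scheme.{u}} (g : X ⟶ Y) [Smooth g] (n : ℕ) :
    UBC g (EtAcyc.primesInvertibleOn Y) n :=
  ubc_of_uLoc (isULocAcyclicN_smooth g _ (fun ℓ hℓ _ y => hℓ.2 y) n)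

end Groth.L27.SmoothLA
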