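import Groth.Agent.L27.SmoothLA.Series
import Groth.Agent.L20.TorAmpWeaklyEtale
import Groth.Agent.S7125
import Mathlib.RingTheory.Ideal.KrullsHeightTheorem
import Mathlib.RingTheory.Ideal.GoingDown
import Mathlib.RingTheory.Localization.BaseChange
import Mathlib.RingTheory.Flat.EquationalCriterion
import Mathlib.RingTheory.Flat.FaithfullyFlat.Algebra
import Mathlib.RingTheory.Polynomial.Basic
import Mathlib.RingTheory.PolynomialAlgebra
import Mathlib.FieldTheory.KummerExtension
import Mathlib.RingTheory.RootsOfUnity.PrimitiveRoots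

/-! # Functions on a strictly local smooth curve that are powers in codimension one are constant times powers -/

set_option autoImplicit false
set_option linter.style.haveILetI false
set_option linter.unusedSectionVars false
set_option backward.isDefEq.respectTransparency.types false

universe u

open IsLocalRing

noncomputable section

namespace Groth.L27.SmoothLA

section General

variable {A : Type u} [CommRing A] [IsDomain A]

theorem eq_of_le_of_height_le_one {P Q : Ideal A} [P.IsPrime] [Q.IsPrime] (hQ : Q ≠ ⊥) (hQP : Q ≤ P)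
    (h : P.height ≤ 1) : Q = P := by
  by_contra hne
  have h1 := Ideal.height_add_one_le_of_lt_of_isPrime (lt_of_le_of_ne hQP hne)
  have h2 := Ideal.height_add_one_le_of_lt_of_isPrime (bot_lt_iff_ne_bot.2 hQ)
  rw [Ideal.height_bot, zero_add] at h2
  have h3 : (1 : ℕ∞) + 1 ≤ 1 := ((add_le_add_left h2 1).trans h1).trans h
  norm_num at h3

theorem height_eq_one {P : Ideal A} [P.IsPrime] (hP : P ≠ ⊥) (h : P.height ≤ 1) : P.height = 1 := by
  refine le_antisymm h ?_
  have := Ideal.height_add_one_le_of_lt_of_isPrime (bot_lt_iff_ne_bot.2 hP : (⊥ : Ideal A) < P)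
  rwa [Ideal.height_bot, zero_add] at this

/-- A flat map pulls height one back to height at most one. -/
theorem height_comap_span_le {R T : Type u} [CommRing R] [IsNoetherianRing R] [CommRing T] [IsNoetherianRing T] (f : R →+* T)
    (hf : f.Flat) {q : T} (hq : Prime q) : ((Ideal.span {q}).comap f).height ≤ 1 := by
  algebraize [f]
  haveI : Module.Flat R T := hf
  haveI hQ : (Ideal.span {q}).IsPrime := (Ideal.span_singleton_prime hq.ne_zero).2 hq
  haveI : (Ideal.span {q}).LiesOver ((Ideal.span {q}).comap f) := ⟨rfl⟩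
  haveI : Algebra.HasGoingDown R T := Algebra.HasGoingDown.of_flat
  refine le_trans ?_ (Ideal.height_span_singleton_le_one hq.not_isUnit)
  rw [Ideal.height_eq_height_add_of_liesOver_of_hasGoingDown ((Ideal.span {q}).comap f) (Ideal.span {q})]
  exact le_add_right le_rfl

theorem height_comap_le {R T : Type u} [CommRing R] [IsNoetherianRing R] [CommRing T] [IsNoetherianRing T] (f : R →+* T)
    (hf : f.Flat) (Q : Ideal T) [Q.IsPrime] : (Q.comap f).height ≤ Q.height := by
  algebraize [f]
  haveI : Module.Flat R T := hf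
  haveI : Q.LiesOver (Q.comap f) := ⟨rfl⟩
  haveI : Algebra.HasGoingDown R T := Algebra.HasGoingDown.of_flat
  rw [Ideal.height_eq_height_add_of_liesOver_of_hasGoingDown (Q.comap f) Q]
  exact le_add_right le_rfl

variable [IsNoetherianRing A] [IsIntegrallyClosed A] {P : Ideal A} [P.IsPrime]

/-- A uniformiser of a height one prime. -/
def Uni (P : Ideal A) [P.IsPrime] (t : A) : Prop := Irreducible (algebraMap A (Localization.AtPrime P) t)

theorem exists_uni (hP : P.height = 1) : ∃ t : A, Uni P t := by
  haveI := Groth.S7125aux.isDVR_of_height_eq_one P hP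
  obtain ⟨ϖ, hϖ⟩ := IsDiscreteValuationRing.exists_irreducible (Localization.AtPrime P)
  obtain ⟨⟨a, s⟩, rfl⟩ : ∃ x : A × P.primeCompl, IsLocalization.mk' (Localization.AtPrime P) x.1 x.2 = ϖ := by
    obtain ⟨a, s, h⟩ := IsLocalization.exists_mk'_eq P.primeCompl ϖ
    exact ⟨⟨a, s⟩, h⟩
  refine ⟨a, ?_⟩
  have h := IsLocalization.mk'_spec (Localization.AtPrime P) a s
  show Irreducible (algebraMap A (Localization.AtPrime P) a)
  rw [← h]
  exact ((irreducible_mul_isUnit (IsLocalization.map_units _ s)).2 hϖ)

theorem Uni.mem {t : A} (ht : Uni P t) : t ∈ P := by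
  by_contra h
  exact ht.not_isUnit (IsLocalization.map_units (Localization.AtPrime P) (⟨t, h⟩ : P.primeCompl))

/-- The valuation at a height one prime, measured by a uniformiser. -/
def val (P : Ideal A) [P.IsPrime] (t x : A) : ℕ :=
  multiplicity (algebraMap A (Localization.AtPrime P) t) (algebraMap A (Localization.AtPrime P) x)

theorem loc_ne_zero {x : A} (hx : x ≠ 0) : algebraMap A (Localization.AtPrime P) x ≠ 0 := fun h =>
  hx (IsLocalization.injective (Localization.AtPrime P) (Ideal.primeCompl_le_nonZeroDivisors P)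
    (h.trans (map_zero _).symm))

theorem exists_val (hP : P.height = 1) {t : A} (ht : Uni P t) {x : A} (hx : x ≠ 0) :
    ∃ a s : A, a ∉ P ∧ s ∉ P ∧ x * s = a * t ^ val P t x := by
  haveI := Groth.S7125aux.isDVR_of_height_eq_one P hP
  let D := Localization.AtPrime P
  obtain ⟨m, u, hm⟩ := IsDiscreteValuationRing.eq_unit_mul_pow_irreducible (loc_ne_zero (P := P) hx) ht
  have hp : Prime (algebraMap A D t) := ht.prime
  have hv : val P t x = m := by
    rw [val, hm, mult_mul hp u.ne_zero (pow_ne_zero _ ht.ne_zero), multiplicity_pow_self_of_prime hp,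
      multiplicity_eq_zero.2 fun h => hp.not_isUnit (isUnit_of_dvd_unit h u.isUnit), zero_add]
  obtain ⟨a, s, hu⟩ := IsLocalization.exists_mk'_eq P.primeCompl (u : D)
  refine ⟨a, s, ?_, s.2, ?_⟩
  · intro ha
    have h1 : IsUnit (algebraMap A D a) := by
      rw [← IsLocalization.mk'_spec D a s, hu]
      exact u.isUnit.mul (IsLocalization.map_units _ s)
    exact (IsLocalization.AtPrime.isUnit_to_map_iff D P a).1 h1 ha
  · refine IsLocalization.injective D (Ideal.primeCompl_le_nonZeroDivisors P) ?_
    rw [map_mul, map_mul, map_pow, hv, hm, ← hu, mul_right_comm, IsLocalization.mk'_spec]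

variable (hP : P.height = 1) {t : A} (ht : Uni P t)
include hP ht

theorem val_mul {x y : A} (hx : x ≠ 0) (hy : y ≠ 0) : val P t (x * y) = val P t x + val P t y := by
  haveI := Groth.S7125aux.isDVR_of_height_eq_one P hP
  rw [val, map_mul]
  exact mult_mul ht.prime (loc_ne_zero hx) (loc_ne_zero hy)

theorem val_pow {x : A} (hx : x ≠ 0) (k : ℕ) : val P t (x ^ k) = k * val P t x := by
  haveI := Groth.S7125aux.isDVR_of_height_eq_one P hP
  rw [val, map_pow]
  exact mult_pow ht.prime (loc_ne_zero hx) k

theorem val_eq_zero {x : A} (hx : x ∉ P) : val P t x = 0 :=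
  multiplicity_eq_zero.2 fun h => ht.not_isUnit
    (isUnit_of_dvd_unit h (IsLocalization.map_units (Localization.AtPrime P) (⟨x, hx⟩ : P.primeCompl)))

/-- Multiplicities upstairs are multiples of the valuation. -/
theorem multiplicity_map {T : Type u} [CommRing T] [IsDomain T] [UniqueFactorizationMonoid T] (f : A →+* T)
    (hf : Function.Injective f) {q : T} (hq : Prime q) (hcomap : (Ideal.span {q}).comap f = P) {x : A} (hx : x ≠ 0) :
    multiplicity q (f x) = val P t x * multiplicity q (f t) := by
  obtain ⟨a, s, ha, hs, h⟩ := exists_val hP ht hx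
  have hne : ∀ {y : A}, y ≠ 0 → f y ≠ 0 := fun hy h0 => hy (hf (h0.trans (map_zero f).symm))
  have h0 : ∀ {y : A}, y ∉ P → multiplicity q (f y) = 0 := fun {y} hy => multiplicity_eq_zero.2 fun hd => hy (by
    rw [← hcomap, Ideal.mem_comap, Ideal.mem_span_singleton]; exact hd)
  have ha0 : a ≠ 0 := fun h' => ha (h' ▸ P.zero_mem)
  have hs0 : s ≠ 0 := fun h' => hs (h' ▸ P.zero_mem)
  have ht0 : t ≠ 0 := fun h' => ht.ne_zero (by rw [h', map_zero])
  have h' := congrArg (fun y => multiplicity q (f y)) h
  simp only [map_mul, map_pow] at h'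
  rwa [mult_mul hq (hne hx) (hne hs0), mult_mul hq (hne ha0) (pow_ne_zero _ (hne ht0)), mult_pow hq (hne ht0),
    h0 ha, h0 hs, add_zero, zero_add] at h'

end General

section Core

open Polynomial (coeToPowerSeries.ringHom)

attribute [local instance] Polynomial.algebra

variable {R : Type u} [CommRing R] [IsDomain R] [IsNoetherianRing R] [IsIntegrallyClosed R] [IsLocalRing R]
  {A : Type u} [CommRing A] [IsDomain A] [IsIntegrallyClosed A] [IsNoetherianRing A]
  [HenselianLocalRing A] [IsSepClosed (ResidueField A)]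
  [Algebra (Polynomial R) A] [Algebra.WeaklyEtale (Polynomial R) A]
  (ι : A →+* PowerSeries R) [IsLocalHom ι] (hι : ∀ p : Polynomial R, ι (algebraMap (Polynomial R) A p) = p)

/-- The constants. -/
def cst : R →+* A := (algebraMap (Polynomial R) A).comp Polynomial.C

theorem flat_cst : (cst (R := R) (A := A)).Flat := by
  refine RingHom.Flat.comp ?_ (RingHom.flat_algebraMap_iff.2 inferInstance)
  have : Module.Flat R (Polynomial R) := inferInstance
  exact RingHom.flat_algebraMap_iff.2 this

include hι

theorem ι_cst (r : R) : ι (cst r) = PowerSeries.C r := by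
  rw [cst, RingHom.comp_apply, hι, Polynomial.coe_C]

/-- Flatness of maps out of `A` is tested on polynomials. -/
theorem flat_comp {T : Type u} [CommRing T] (j : PowerSeries R →+* T)
    (hj : (j.comp coeToPowerSeries.ringHom).Flat) : (j.comp ι).Flat := by
  letI : Algebra A T := (j.comp ι).toAlgebra
  letI : Algebra (Polynomial R) T := (j.comp coeToPowerSeries.ringHom).toAlgebra
  haveI : IsScalarTower (Polynomial R) A T := IsScalarTower.of_algebraMap_eq fun p =>
    (congrArg j (hι p)).symm
  haveI : Module.Flat (Polynomial R) T := hj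
  exact Groth.L20.flat_of_flat_of_flat_lmul (R := Polynomial R) (T := A) (M := T)
    (Algebra.WeaklyEtale.flat_lmul' (Polynomial R) A)

theorem flat_ι : ι.Flat := by
  simpa using flat_comp ι hι (RingHom.id _) (by simpa using flat_powerSeries R)

theorem faithfullyFlat_ι : ι.FaithfullyFlat := by
  letI := ι.toAlgebra
  haveI : IsLocalHom (algebraMap A (PowerSeries R)) := ‹IsLocalHom ι›
  haveI : Module.Flat A (PowerSeries R) := flat_ι ι hι
  exact Module.FaithfullyFlat.of_flat_of_isLocalHom

theorem injective_ι : Function.Injective ι := by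
  letI := ι.toAlgebra
  haveI : Module.FaithfullyFlat A (PowerSeries R) := faithfullyFlat_ι ι hι
  exact FaithfulSMul.algebraMap_injective A (PowerSeries R)

theorem dvd_of_ι {a b : A} (h : ι a ∣ ι b) : a ∣ b := by
  letI := ι.toAlgebra
  haveI : Module.FaithfullyFlat A (PowerSeries R) := faithfullyFlat_ι ι hι
  rw [← Ideal.mem_span_singleton, ← Ideal.comap_map_eq_self_of_faithfullyFlat (B := PowerSeries R) (Ideal.span {a}),
    Ideal.mem_comap, Ideal.map_span, Set.image_singleton, Ideal.mem_span_singleton]
  exact h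

omit hι in
theorem flat_map_coe (S : Type u) [CommRing S] [Algebra R S] [IsNoetherianRing S] (M : Submonoid R)
    [IsLocalization M S] :
    ((PowerSeries.map (algebraMap R S)).comp (coeToPowerSeries.ringHom (R := R))).Flat := by
  have h : (PowerSeries.map (algebraMap R S)).comp (coeToPowerSeries.ringHom (R := R)) =
      (coeToPowerSeries.ringHom (R := S)).comp (Polynomial.mapRingHom (algebraMap R S)) :=
    RingHom.ext fun p => Polynomial.polynomial_map_coe.symm
  rw [h]
  refine RingHom.Flat.comp ?_ (flat_powerSeries S)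
  haveI : IsLocalization (M.map (Polynomial.C (R := R))) (Polynomial S) := Polynomial.isLocalization M S
  exact RingHom.flat_algebraMap_iff.2 (IsLocalization.flat (Polynomial S) (M.map (Polynomial.C (R := R))))

omit hι in
/-- Series with coefficients in a finitely generated ideal. -/
theorem mem_map_C_of_coeff {I : Ideal R} {f : PowerSeries R} (h : ∀ d, PowerSeries.coeff d f ∈ I) :
    f ∈ I.map (PowerSeries.C (R := R)) := by
  obtain ⟨s, hs⟩ := IsNoetherian.noetherian I
  have hc : ∀ d, PowerSeries.coeff d f ∈ Submodule.span R (Set.range fun t : s => (t : R)) := fun d => by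
    have h' := h d
    rw [← hs] at h'
    simpa using h'
  choose c hc using fun d => Submodule.mem_span_range_iff_exists_fun R |>.1 (hc d)
  have hf : f = ∑ t : s, PowerSeries.C (t : R) * PowerSeries.mk (fun d => c d t) := by
    ext d
    rw [map_sum, ← hc d]
    exact Finset.sum_congr rfl fun t _ => by
      rw [PowerSeries.coeff_C_mul, PowerSeries.coeff_mk, smul_eq_mul, mul_comm]
  rw [hf]
  exact Ideal.sum_mem _ fun t _ => Ideal.mul_mem_right _ _
    (Ideal.mem_map_of_mem _ (hs ▸ Submodule.subset_span t.2))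

variable {ℓ : ℕ} (hℓ : ℓ.Prime) (hu : IsUnit (ℓ : R)) (ζ : R) (hζ : IsPrimitiveRoot ζ ℓ)

/-- The hypothesis: up to units and powers, away from `g` in codimension one. -/
def LocPow (ℓ : ℕ) (c : A) (g : R) : Prop :=
  ∀ P : Ideal A, P.IsPrime → cst g ∉ P → P.height ≤ 1 →
    ∃ a b r s : A, a ∉ P ∧ b ∉ P ∧ r ≠ 0 ∧ s ≠ 0 ∧ c * b * s ^ ℓ = a * r ^ ℓ

theorem dvd_multiplicity_of_locPow {T : Type u} [CommRing T] [IsDomain T] [IsNoetherianRing T]
    [UniqueFactorizationMonoid T] (j : PowerSeries R →+* T) (hj : (j.comp coeToPowerSeries.ringHom).Flat)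
    (hinj : Function.Injective j) {c : A} (hc : c ≠ 0) {g : R} (H : LocPow ℓ c g) {q : T} (hq : Prime q)
    (hgq : ¬ q ∣ j (PowerSeries.C g)) : ℓ ∣ multiplicity q (j (ι c)) := by
  let f := j.comp ι
  have hf : Function.Injective f := hinj.comp (injective_ι ι hι)
  haveI : (Ideal.span {q}).IsPrime := (Ideal.span_singleton_prime hq.ne_zero).2 hq
  let P := (Ideal.span {q}).comap f
  haveI : P.IsPrime := Ideal.IsPrime.comap f
  have hmem : ∀ x, x ∈ P ↔ q ∣ f x := fun x => by rw [Ideal.mem_comap, Ideal.mem_span_singleton]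
  obtain ⟨a, b, r, s, ha, hb, hr, hs, h⟩ := H P ‹_›
    (fun hg => hgq (by have := (hmem _).1 hg; rwa [RingHom.comp_apply, ι_cst ι hι] at this))
    (height_comap_span_le f (flat_comp ι hι j hj) hq)
  have hne : ∀ {y : A}, y ≠ 0 → f y ≠ 0 := fun hy h0 => hy (hf (h0.trans (map_zero f).symm))
  have h0 : ∀ {y : A}, y ∉ P → multiplicity q (f y) = 0 := fun {y} hy => multiplicity_eq_zero.2 fun hd =>
    hy ((hmem y).2 hd)
  have ha0 : a ≠ 0 := fun h' => ha (h' ▸ P.zero_mem)
  have hb0 : b ≠ 0 := fun h' => hb (h' ▸ P.zero_mem)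
  have h' := congrArg (fun y => multiplicity q (f y)) h
  simp only [map_mul, map_pow] at h'
  rw [mult_mul hq (mul_ne_zero (hne hc) (hne hb0)) (pow_ne_zero _ (hne hs)), mult_mul hq (hne hc) (hne hb0),
    mult_mul hq (hne ha0) (pow_ne_zero _ (hne hr)), mult_pow hq (hne hs), mult_pow hq (hne hr), h0 ha, h0 hb,
    add_zero, zero_add] at h'
  show ℓ ∣ multiplicity q (f c)
  exact (Nat.dvd_add_left (Nat.dvd_mul_right ℓ _)).1 (h' ▸ Nat.dvd_mul_right ℓ _)

include hℓ hu hζ in
/-- After multiplying by a constant, a root in the formal series. -/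
theorem exists_series_root {c : A} (hc : c ≠ 0) {g : R} (hg : g ≠ 0) (H : LocPow ℓ c g) :
    ∃ (α : R) (z : PowerSeries R), α ≠ 0 ∧ ι (c * cst α ^ (ℓ - 1)) = z ^ ℓ := by
  have hc0 : ι c ≠ 0 := fun h => hc (injective_ι ι hι (h.trans (map_zero ι).symm))
  let α := lc (ι c)
  have hα : α ≠ 0 := lc_ne_zero hc0
  let c₁ := ι (c * cst α ^ (ℓ - 1))
  have hc₁ : c₁ = ι c * PowerSeries.C α ^ (ℓ - 1) := by
    show ι _ = _
    rw [map_mul, map_pow, ι_cst ι hι]
  have hlc : lc c₁ = α ^ ℓ := by
    rw [hc₁, map_mul, map_pow, lc_C, ← pow_succ', Nat.sub_add_cancel hℓ.one_le]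
  let K := FractionRing R
  let jK : PowerSeries R →+* PowerSeries K := PowerSeries.map (algebraMap R K)
  have hjK : Function.Injective jK := PowerSeries.map_injective _ (IsFractionRing.injective R K)
  have hζK : IsPrimitiveRoot (algebraMap R K ζ) ℓ := hζ.map_of_injective (IsFractionRing.injective R K)
  have huK : IsUnit (ℓ : K) := by simpa using hu.map (algebraMap R K)
  -- the root over the fraction field
  obtain ⟨z, hz⟩ : ∃ z : PowerSeries K, z ^ ℓ = jK c₁ := by
    obtain ⟨v, w, a, hv, hvw⟩ := exists_unit_mul_pow hℓ.ne_zero (PowerSeries.X : PowerSeries K) PowerSeries.X_prime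
      (c := jK (ι c)) (fun h => hc0 (hjK (h.trans (map_zero jK).symm))) fun q hq hqX =>
        dvd_multiplicity_of_locPow ι hι jK (flat_map_coe K (nonZeroDivisors R)) hjK hc H hq fun hd =>
          hq.not_isUnit (isUnit_of_dvd_unit hd (by
            rw [PowerSeries.map_C]
            exact ((isUnit_iff_ne_zero.2 fun h => hg (IsFractionRing.injective R K (h.trans (map_zero _).symm))).map
              (PowerSeries.C (R := K)))))
    have ha : ℓ ∣ a := by
      have h1 := dvd_multiplicity_of_locPow ι hι jK (flat_map_coe K (nonZeroDivisors R)) hjK hc H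
        (q := (PowerSeries.X : PowerSeries K)) PowerSeries.X_prime (by
          rw [PowerSeries.map_C, PowerSeries.X_dvd_iff, PowerSeries.constantCoeff_C]
          exact fun h => hg (IsFractionRing.injective R K (h.trans (map_zero _).symm)))
      have hw : w ≠ 0 := fun h => hc0 (hjK (by rw [hvw, h, zero_pow hℓ.ne_zero, mul_zero, map_zero]))
      rw [hvw, mult_mul PowerSeries.X_prime (mul_ne_zero hv.ne_zero (pow_ne_zero _ PowerSeries.X_ne_zero))
        (pow_ne_zero _ hw), mult_mul PowerSeries.X_prime hv.ne_zero (pow_ne_zero _ PowerSeries.X_ne_zero),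
        multiplicity_pow_self_of_prime PowerSeries.X_prime, mult_pow PowerSeries.X_prime hw,
        multiplicity_eq_zero.2 fun h => PowerSeries.X_prime.not_isUnit (isUnit_of_dvd_unit h hv), zero_add] at h1
      exact (Nat.dvd_add_left (Nat.dvd_mul_right ℓ _)).1 h1
    obtain ⟨a, rfl⟩ := ha
    refine exists_root_of_lc hℓ.ne_zero huK (u := v * jK (PowerSeries.C α ^ (ℓ - 1))) (w := PowerSeries.X ^ a * w)
      (hv.mul ?_) ?_ (α := algebraMap R K α) (fun h => hα (IsFractionRing.injective R K (h.trans (map_zero _).symm))) ?_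
    · rw [map_pow, PowerSeries.map_C]
      exact (((isUnit_iff_ne_zero.2 fun h => hα (IsFractionRing.injective R K (h.trans (map_zero _).symm))).map
        (PowerSeries.C (R := K)))).pow _
    · rw [hc₁, map_mul, hvw, mul_pow, ← pow_mul, mul_comm a ℓ]
      ring
    · rw [lc_map _ (IsFractionRing.injective R K), hlc, map_pow]
  -- its coefficients lie in all height one localisations
  obtain ⟨z₀, hz₀⟩ := mem_range_map z fun p _ hp => by
    haveI := Groth.S7125aux.isDVR_of_height_eq_one p hp
    let D := Localization.AtPrime p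
    let j : PowerSeries R →+* PowerSeries D := PowerSeries.map (algebraMap R D)
    have hD : Function.Injective (algebraMap R D) :=
      IsLocalization.injective D (Ideal.primeCompl_le_nonZeroDivisors p)
    have hj : Function.Injective j := PowerSeries.map_injective _ hD
    obtain ⟨ϖ, hϖ⟩ := IsDiscreteValuationRing.exists_irreducible D
    have hπ : Prime (PowerSeries.C ϖ : PowerSeries D) := by
      have h1 : (Ideal.span {(PowerSeries.C ϖ : PowerSeries D)}).IsPrime := by
        rw [← Set.image_singleton, ← Ideal.map_span]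
        have hm : (Ideal.span {ϖ}).IsPrime :=
          (Ideal.span_singleton_prime hϖ.ne_zero).2 hϖ.prime
        have he : (Ideal.span {ϖ}).map (PowerSeries.C (R := D)) =
            RingHom.ker (PowerSeries.map (Ideal.Quotient.mk (Ideal.span {ϖ}))) := by
          refine le_antisymm (Ideal.map_le_iff_le_comap.2 fun x hx => ?_) fun f hf => ?_
          · rw [Ideal.mem_comap, RingHom.mem_ker, PowerSeries.map_C, Ideal.Quotient.eq_zero_iff_mem.2 hx, map_zero]
          · refine mem_map_C_of_coeff fun d => Ideal.Quotient.eq_zero_iff_mem.1 ?_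
            rw [← PowerSeries.coeff_map, RingHom.mem_ker.1 hf, map_zero]
        rw [he]
        haveI : IsDomain (D ⧸ Ideal.span {ϖ}) := (Ideal.Quotient.isDomain_iff_prime _).2 hm
        exact RingHom.ker_isPrime _
      refine (Ideal.span_singleton_prime ?_).1 h1
      exact fun h => hϖ.ne_zero (PowerSeries.C_injective (h.trans (map_zero _).symm))
    have hflat := flat_map_coe (R := R) D p.primeCompl
    obtain ⟨v, w, a, hv, hvw⟩ := exists_unit_mul_pow hℓ.ne_zero (PowerSeries.C ϖ) hπ
      (c := j c₁) (fun h => by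
        have h' : c₁ = 0 := hj (h.trans (map_zero j).symm)
        rw [hc₁] at h'
        exact mul_ne_zero hc0 (pow_ne_zero _ fun h => hα (PowerSeries.C_injective (h.trans (map_zero _).symm))) h')
      fun q hq hqπ => by
        have hno : ∀ r : R, r ≠ 0 → ¬ q ∣ j (PowerSeries.C r) := fun r hr hd => hqπ (by
          rw [PowerSeries.map_C] at hd
          obtain ⟨m, u, hm⟩ := IsDiscreteValuationRing.eq_unit_mul_pow_irreducible
            (fun h => hr (hD (h.trans (map_zero _).symm))) hϖ
          rw [hm, map_mul, map_pow] at hd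
          rcases hq.dvd_or_dvd hd with h | h
          · exact (hq.not_isUnit (isUnit_of_dvd_unit h (u.isUnit.map _))).elim
          · exact hq.associated_of_dvd hπ (hq.dvd_of_dvd_pow h))
        have hC0 : j (PowerSeries.C α) ≠ 0 := fun h =>
          hα (PowerSeries.C_injective ((hj (h.trans (map_zero j).symm)).trans (map_zero _).symm))
        rw [hc₁, map_mul, map_pow, mult_mul hq (fun h => hc0 (hj (h.trans (map_zero j).symm)))
          (pow_ne_zero _ hC0), mult_pow hq hC0, multiplicity_eq_zero.2 (hno α hα), mul_zero, add_zero]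
        exact dvd_multiplicity_of_locPow ι hι j hflat hj hc H hq (hno g hg)
    have huD : IsUnit (ℓ : D) := by simpa using hu.map (algebraMap R D)
    have hlcj : lc (j c₁) = algebraMap R D α ^ ℓ := (lc_map _ hD c₁).trans (by rw [hlc, map_pow])
    have hw : lc w ≠ 0 := by
      intro h
      have := congrArg lc hvw
      rw [hlcj, map_mul, map_pow, h, zero_pow hℓ.ne_zero, mul_zero] at this
      exact pow_ne_zero ℓ (fun h => hα (hD (h.trans (map_zero _).symm))) this
    have ha : ℓ ∣ a := by
      have h1 := congrArg (fun f => multiplicity ϖ (lc f)) hvw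
      simp only [hlcj, map_mul, map_pow, lc_C] at h1
      have hv' : IsUnit (lc v) := by
        rw [lc_of_constantCoeff (hv.map (PowerSeries.constantCoeff (R := D))).ne_zero]
        exact hv.map _
      rw [mult_pow hϖ.prime (fun h => hα (hD (h.trans (map_zero _).symm))),
        mult_mul hϖ.prime (mul_ne_zero hv'.ne_zero (pow_ne_zero _ hϖ.ne_zero)) (pow_ne_zero _ hw),
        mult_mul hϖ.prime hv'.ne_zero (pow_ne_zero _ hϖ.ne_zero), multiplicity_pow_self_of_prime hϖ.prime,
        mult_pow hϖ.prime hw, multiplicity_eq_zero.2 fun h => hϖ.not_isUnit (isUnit_of_dvd_unit h hv'),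
        zero_add] at h1
      exact (Nat.dvd_add_left (Nat.dvd_mul_right ℓ _)).1 (h1 ▸ Nat.dvd_mul_right ℓ _)
    obtain ⟨a, rfl⟩ := ha
    obtain ⟨zp, hzp⟩ := exists_root_of_lc hℓ.ne_zero huD (f := j c₁) (u := v) (w := PowerSeries.C ϖ ^ a * w) hv
      (by rw [hvw, mul_pow, ← pow_mul, mul_comm a ℓ, mul_assoc]) (α := algebraMap R D α)
      (fun h => hα (hD (h.trans (map_zero _).symm))) hlcj
    have hDK : (PowerSeries.map (algebraMap D K)).comp j = jK := by
      rw [← PowerSeries.map_comp, ← IsScalarTower.algebraMap_eq]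
    have hzpow : (PowerSeries.map (algebraMap D K) zp) ^ ℓ = z ^ ℓ := by
      rw [← map_pow, hzp, hz, ← hDK, RingHom.comp_apply]
    have hζC : IsPrimitiveRoot (PowerSeries.C (algebraMap R K ζ)) ℓ := hζK.map_of_injective PowerSeries.C_injective
    obtain ⟨i, -, hi⟩ : ∃ i ∈ Finset.range ℓ, z =
        PowerSeries.C (algebraMap R K ζ) ^ i * PowerSeries.map (algebraMap D K) zp := by
      by_contra hne
      push Not at hne
      have hprod := congrArg (Polynomial.eval z)
        (X_pow_sub_C_eq_prod hζC hℓ.pos (a := (PowerSeries.map (algebraMap D K) zp) ^ ℓ) rfl)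
      rw [Polynomial.eval_sub, Polynomial.eval_pow, Polynomial.eval_X, Polynomial.eval_C, hzpow, sub_self,
        Polynomial.eval_prod] at hprod
      obtain ⟨i, hi, h0⟩ := Finset.prod_eq_zero_iff.1 hprod.symm
      rw [Polynomial.eval_sub, Polynomial.eval_X, Polynomial.eval_C, sub_eq_zero] at h0
      exact hne i hi h0
    refine ⟨PowerSeries.C (algebraMap R D ζ) ^ i * zp, ?_⟩
    rw [hi, map_mul, map_pow, PowerSeries.map_C, ← IsScalarTower.algebraMap_apply]
  refine ⟨α, z₀, hα, hjK ?_⟩
  rw [map_pow]
  exact (hz.symm.trans (congrArg (· ^ ℓ) hz₀.symm))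

omit hι in
/-- Divisibility in the series is tested on the fraction field and on height one localisations. -/
theorem dvd_of_forall {f h : PowerSeries R} (hf : f ≠ 0)
    (hK : PowerSeries.map (algebraMap R (FractionRing R)) f ∣ PowerSeries.map (algebraMap R (FractionRing R)) h)
    (hp : ∀ (p : Ideal R) [p.IsPrime], p.height = 1 →
      PowerSeries.map (algebraMap R (Localization.AtPrime p)) f ∣
        PowerSeries.map (algebraMap R (Localization.AtPrime p)) h) : f ∣ h := by
  let K := FractionRing R
  obtain ⟨e, he⟩ := hK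
  have hinj := PowerSeries.map_injective _ (IsFractionRing.injective R K)
  obtain ⟨e₀, rfl⟩ := mem_range_map e fun p _ hpp => by
    obtain ⟨ep, hep⟩ := hp p hpp
    refine ⟨ep, mul_left_cancel₀ (fun h0 => hf (hinj (h0.trans (map_zero _).symm))) ?_⟩
    rw [← he]
    have h2 := congrArg (PowerSeries.map (algebraMap (Localization.AtPrime p) K)) hep
    rw [map_mul] at h2
    simp only [← RingHom.comp_apply, ← PowerSeries.map_comp, ← IsScalarTower.algebraMap_eq] at h2
    exact h2.symm
  exact ⟨e₀, hinj (he.trans (map_mul _ _ _).symm)⟩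

theorem dvd_val (hℓ0 : ℓ ≠ 0) {c₁ : A} (hc₁ : c₁ ≠ 0) {z : PowerSeries R} (hz : ι c₁ = z ^ ℓ) {g : R} (hg : g ≠ 0)
    (H : LocPow ℓ c₁ g) {P : Ideal A} [P.IsPrime] (hP : P.height = 1) {t : A} (ht : Uni P t) :
    ℓ ∣ val P t c₁ := by
  have hz0 : z ≠ 0 := fun h => hc₁ (injective_ι ι hι (by rw [hz, h, map_zero, zero_pow hℓ0]))
  by_cases hgP : cst g ∈ P
  · let p := P.comap (cst (R := R) (A := A))
    haveI : p.IsPrime := Ideal.IsPrime.comap _
    have hp : p.height = 1 := height_eq_one (fun h => hg (by
      have : g ∈ p := hgP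
      rwa [h, Ideal.mem_bot] at this)) ((height_comap_le _ (flat_cst (R := R) (A := A)) P).trans hP.le)
    haveI := Groth.S7125aux.isDVR_of_height_eq_one p hp
    let D := Localization.AtPrime p
    have hD : Function.Injective (algebraMap R D) :=
      IsLocalization.injective D (Ideal.primeCompl_le_nonZeroDivisors p)
    obtain ⟨π, hπ⟩ := exists_uni hp
    let j : PowerSeries R →+* PowerSeries D := PowerSeries.map (algebraMap R D)
    let f := j.comp ι
    have hf : Function.Injective f := (PowerSeries.map_injective _ hD).comp (injective_ι ι hι)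
    let q : PowerSeries D := PowerSeries.C (algebraMap R D π)
    let ker := RingHom.ker (PowerSeries.map (residue D))
    have hdvd : ∀ y : PowerSeries D, q ∣ y ↔ y ∈ ker := fun y => by
      refine ⟨fun ⟨e, he⟩ => ?_, fun hy => ?_⟩
      · rw [RingHom.mem_ker, he, map_mul, PowerSeries.map_C, (residue_eq_zero_iff _).2 hπ.not_isUnit,
          map_zero, zero_mul]
      · rw [← Ideal.mem_span_singleton, ← Set.image_singleton, ← Ideal.map_span]
        refine mem_map_C_of_coeff fun d => ?_
        rw [← hπ.maximalIdeal_eq, ← residue_eq_zero_iff, ← PowerSeries.coeff_map, RingHom.mem_ker.1 hy, map_zero]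
    have hq0 : q ≠ 0 := fun h => hπ.ne_zero (PowerSeries.C_injective (h.trans (map_zero _).symm))
    have hq : Prime q := by
      refine (Ideal.span_singleton_prime hq0).1 ?_
      rw [show Ideal.span {q} = ker from Ideal.ext fun y => by rw [Ideal.mem_span_singleton, hdvd]]
      exact RingHom.ker_isPrime _
    haveI : (Ideal.span {q}).IsPrime := (Ideal.span_singleton_prime hq0).2 hq
    have hcomap : (Ideal.span {q}).comap f = P := by
      haveI : ((Ideal.span {q}).comap f).IsPrime := Ideal.IsPrime.comap f
      refine eq_of_le_of_height_le_one ?_ (fun x hx => ?_) hP.le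
      · refine Submodule.ne_bot_iff _ |>.2 ⟨cst g, ?_, fun h => hg ?_⟩
        · rw [Ideal.mem_comap, Ideal.mem_span_singleton, RingHom.comp_apply, ι_cst ι hι, hdvd, RingHom.mem_ker,
            PowerSeries.map_C, PowerSeries.map_C, (residue_eq_zero_iff _).2
              ((IsLocalization.AtPrime.to_map_mem_maximal_iff D p g).2 hgP), map_zero]
        · have := congrArg ι h
          rw [ι_cst ι hι, map_zero] at this
          exact PowerSeries.C_injective (this.trans (map_zero _).symm)
      · rw [Ideal.mem_comap, Ideal.mem_span_singleton, hdvd, RingHom.mem_ker] at hx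
        have hx' : ι x ∈ (p.map (cst (R := R) (A := A))).map ι := by
          have h1 : ι x ∈ p.map (PowerSeries.C (R := R)) := mem_map_C_of_coeff fun d => by
            have h2 := congrArg (PowerSeries.coeff d) hx
            rw [PowerSeries.coeff_map, map_zero, residue_eq_zero_iff, RingHom.comp_apply,
              PowerSeries.coeff_map] at h2
            exact (IsLocalization.AtPrime.to_map_mem_maximal_iff D p _).1 h2
          rwa [Ideal.map_map, show ι.comp (cst (R := R) (A := A)) = PowerSeries.C from
            RingHom.ext (ι_cst ι hι)]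
        letI := ι.toAlgebra
        haveI : Module.FaithfullyFlat A (PowerSeries R) := faithfullyFlat_ι ι hι
        have h3 : x ∈ ((p.map (cst (R := R) (A := A))).map (algebraMap A (PowerSeries R))).comap
            (algebraMap A (PowerSeries R)) := hx'
        rw [Ideal.comap_map_eq_self_of_faithfullyFlat] at h3
        exact (Ideal.map_le_iff_le_comap.2 le_rfl) h3
    have hπ0 : π ≠ 0 := fun h => hπ.ne_zero (by rw [h, map_zero])
    have hcπ : cst (A := A) π ≠ 0 := fun h => hπ0 (by
      have := congrArg ι h
      rw [ι_cst ι hι, map_zero] at this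
      exact PowerSeries.C_injective (this.trans (map_zero _).symm))
    have h1 := multiplicity_map hP ht f hf hq hcomap hcπ
    rw [show f (cst π) = q by rw [RingHom.comp_apply, ι_cst ι hι, PowerSeries.map_C],
      show multiplicity q q = 1 from (congrArg (multiplicity q) (pow_one q).symm).trans
        (multiplicity_pow_self_of_prime hq 1)] at h1
    have h2 := multiplicity_map hP ht f hf hq hcomap hc₁
    rw [(Nat.eq_one_of_mul_eq_one_left h1.symm), mul_one, RingHom.comp_apply, hz, map_pow,
      mult_pow hq (fun h => hz0 (PowerSeries.map_injective _ hD (h.trans (map_zero j).symm)))] at h2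
    exact h2 ▸ Nat.dvd_mul_right ℓ _
  · obtain ⟨a, b, r, s, ha, hb, hr, hs, h⟩ := H P ‹_› hgP hP.le
    have ha0 : a ≠ 0 := fun h' => ha (h' ▸ P.zero_mem)
    have hb0 : b ≠ 0 := fun h' => hb (h' ▸ P.zero_mem)
    have h' := congrArg (val P t) h
    rw [val_mul hP ht (mul_ne_zero hc₁ hb0) (pow_ne_zero _ hs), val_mul hP ht hc₁ hb0,
      val_mul hP ht ha0 (pow_ne_zero _ hr), val_pow hP ht hs, val_pow hP ht hr, val_eq_zero hP ht ha,
      val_eq_zero hP ht hb, add_zero, zero_add] at h'
    exact (Nat.dvd_add_left (Nat.dvd_mul_right ℓ _)).1 (h' ▸ Nat.dvd_mul_right ℓ _)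

end Core

end Groth.L27.SmoothLA
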