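import Groth.Agent.L27.SmoothLA.Lift
import Groth.Agent.L27.SmoothLA.Core
import Mathlib.RingTheory.PolynomialAlgebra
import Mathlib.RingTheory.PowerSeries.Inverse
import Mathlib.RingTheory.Henselian

/-! # Strictly local curves as algebras over strictly local bases, and their series expansions -/

set_option autoImplicit false
set_option linter.style.haveILetI false
set_option linter.unusedSectionVars false
set_option backward.isDefEq.respectTransparency.types false

universe u

open IsLocalRing
open scoped TensorProduct

noncomputable section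

namespace Groth.L27.SmoothLA

instance isPrecomplete_span_X (R : Type u) [CommRing R] :
    IsAdicComplete (Ideal.span {(PowerSeries.X : PowerSeries R)}) (PowerSeries R) :=
  inferInstance

/-- Power series over a henselian local ring are henselian. -/
theorem henselianLocalRing_powerSeries (R : Type u) [CommRing R] [HenselianLocalRing R] :
    HenselianLocalRing (PowerSeries R) := by
  haveI : IsLocalRing (PowerSeries R) := inferInstance
  let cc : PowerSeries R →+* R := PowerSeries.constantCoeff
  refine { is_henselian := fun f hf a₀ h1 h2 => ?_ }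
  have hmax : ∀ x : PowerSeries R, x ∈ maximalIdeal (PowerSeries R) ↔ cc x ∈ maximalIdeal R := fun x => by
    rw [mem_maximalIdeal, mem_maximalIdeal, mem_nonunits_iff, mem_nonunits_iff, PowerSeries.isUnit_iff_constantCoeff]
  obtain ⟨r, hr, hrm⟩ := HenselianLocalRing.is_henselian (f.map cc) (hf.map cc) (cc a₀)
    (by rw [Polynomial.eval_map, Polynomial.eval₂_at_apply]; exact (hmax _).1 h1)
    (by rw [Polynomial.derivative_map, Polynomial.eval_map, Polynomial.eval₂_at_apply]; exact h2.map cc)
  let I : Ideal (PowerSeries R) := Ideal.span {PowerSeries.X}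
  haveI : HenselianRing (PowerSeries R) I := IsAdicComplete.henselianRing _ I
  have hCr : f.eval (PowerSeries.C r) ∈ I := by
    rw [Ideal.mem_span_singleton, PowerSeries.X_dvd_iff]
    show cc (f.eval (PowerSeries.C r)) = 0
    rw [← Polynomial.eval₂_at_apply, ← Polynomial.eval_map]
    exact (congrArg (f.map cc).eval (PowerSeries.constantCoeff_C r)).trans hr
  have hd : IsUnit (f.derivative.eval (PowerSeries.C r)) := by
    rw [PowerSeries.isUnit_iff_constantCoeff]
    show IsUnit (cc _)
    rw [← Polynomial.eval₂_at_apply, ← Polynomial.eval_map, show cc (PowerSeries.C r) = r from PowerSeries.constantCoeff_C r]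
    refine (residue_ne_zero_iff_isUnit _).1 ?_
    have hres : residue R r = residue R (cc a₀) :=
      Ideal.Quotient.eq.2 hrm
    rw [← Polynomial.eval₂_at_apply, hres, Polynomial.eval₂_at_apply, residue_ne_zero_iff_isUnit, Polynomial.eval_map,
      Polynomial.eval₂_at_apply]
    exact h2.map cc
  obtain ⟨a, ha, ham⟩ := HenselianRing.is_henselian (I := I) f hf (PowerSeries.C r) hCr (hd.map _)
  refine ⟨a, ha, (hmax _).2 ?_⟩
  rw [Ideal.mem_span_singleton, PowerSeries.X_dvd_iff, map_sub, sub_eq_zero] at ham
  rw [map_sub, show cc a = r from ham.trans (PowerSeries.constantCoeff_C r)]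
  exact hrm

/-- Polynomial rings over weakly étale algebras. -/
theorem weaklyEtale_mapRingHom (N RN : Type u) [CommRing N] [CommRing RN] [Algebra N RN] [Algebra.WeaklyEtale N RN] :
    letI : Algebra (Polynomial N) (Polynomial RN) := (Polynomial.mapRingHom (algebraMap N RN)).toAlgebra
    Algebra.WeaklyEtale (Polynomial N) (Polynomial RN) := by
  letI : Algebra (Polynomial N) (Polynomial RN) := (Polynomial.mapRingHom (algebraMap N RN)).toAlgebra
  let e0 : Polynomial N ⊗[N] RN ≃+* Polynomial RN :=
    (Algebra.TensorProduct.comm N (Polynomial N) RN).toRingEquiv.trans (polyEquivTensor N RN).symm.toRingEquiv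
  let e : Polynomial N ⊗[N] RN ≃ₐ[Polynomial N] Polynomial RN :=
    { e0 with
      commutes' := fun p => by
        show (polyEquivTensor N RN).symm ((1 : RN) ⊗ₜ p) = p.map (algebraMap N RN)
        rw [polyEquivTensor_symm_apply_tmul_eq_smul, one_smul] }
  exact Groth.L27.Acyclic0.weaklyEtale_of_equiv e

variable {N : Type u} [CommRing N] {S : Type u} [CommRing S] [HenselianLocalRing S] [IsSepClosed (ResidueField S)]
  [Algebra (Polynomial N) S] [Algebra.WeaklyEtale (Polynomial N) S]
  {RN : Type u} [CommRing RN] [HenselianLocalRing RN] [IsSepClosed (ResidueField RN)]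
  [Algebra N RN] [Algebra.WeaklyEtale N RN]

/-- The strictly local curve over the strictly local base, with its expansion at the origin. -/
theorem exists_expansion (hX : algebraMap (Polynomial N) S Polynomial.X ∈ maximalIdeal S)
    (hc : ctr N RN = (ctr (Polynomial N) S).comap Polynomial.C) :
    ∃ (θ : RN →+* S) (ι : S →+* PowerSeries RN) (_ : IsLocalHom ι) (_ : IsLocalHom θ) (_ : Algebra (Polynomial RN) S),
      Algebra.WeaklyEtale (Polynomial RN) S ∧ (∀ r, cst (R := RN) (A := S) r = θ r) ∧
      (∀ n, θ (algebraMap N RN n) = algebraMap (Polynomial N) S (Polynomial.C n)) ∧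
      ∀ p : Polynomial RN, ι (algebraMap (Polynomial RN) S p) = p := by
  let f : N →+* S := (algebraMap (Polynomial N) S).comp Polynomial.C
  obtain ⟨σ, hσ⟩ := exists_residue_embedding (B := N) (S := RN) ((residue S).comp f) (fun n => by
    rw [hc, RingHom.comp_apply, residue_eq_zero_iff]; rfl)
  obtain ⟨θ, ⟨hθ, hθr⟩, -⟩ := existsUnique_lift (B := N) (S := RN) (T := S) f σ hσ
  haveI hθloc := isLocalHom_of_residue θ σ hθr
  -- the residue fields agree
  have hsurj : Function.Surjective σ := by
    have h : ∀ x, x ∈ σ.fieldRange := range_residue_le (B := Polynomial N) (RingHom.id (ResidueField S)) σ (fun p => by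
      rw [RingHom.id_apply]
      have hp : p = Polynomial.C (p.coeff 0) + Polynomial.X * p.divX := by
        conv_lhs => rw [← Polynomial.X_mul_divX_add p]
        rw [add_comm]
      rw [hp, map_add, map_add, map_mul, map_mul, (residue_eq_zero_iff _).2 hX, zero_mul, add_zero]
      exact ⟨_, hσ _⟩)
    exact fun x => h x
  let e : ResidueField RN ≃+* ResidueField S := RingEquiv.ofBijective σ ⟨σ.injective, hsurj⟩
  haveI := henselianLocalRing_powerSeries RN
  haveI : IsLocalHom (PowerSeries.C (R := RN)) := ⟨fun r hr => by
    simpa using PowerSeries.isUnit_iff_constantCoeff.1 hr⟩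
  let τ : ResidueField S →+* ResidueField (PowerSeries RN) :=
    (ResidueField.map (PowerSeries.C (R := RN))).comp e.symm.toRingHom
  let F : Polynomial N →+* PowerSeries RN :=
    Polynomial.coeToPowerSeries.ringHom.comp (Polynomial.mapRingHom (algebraMap N RN))
  have hresX : residue (PowerSeries RN) PowerSeries.X = 0 := by
    rw [residue_eq_zero_iff, mem_maximalIdeal, mem_nonunits_iff, PowerSeries.isUnit_iff_constantCoeff,
      PowerSeries.constantCoeff_X]
    exact not_isUnit_zero
  have hτσ : ∀ z, τ (σ z) = ResidueField.map (PowerSeries.C (R := RN)) z := fun z =>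
    congrArg (ResidueField.map (PowerSeries.C (R := RN))) (e.symm_apply_apply z)
  have hτ : ∀ p, τ (residue S (algebraMap (Polynomial N) S p)) = residue _ (F p) := by
    have h : (τ.comp (residue S)).comp (algebraMap (Polynomial N) S) = (residue _).comp F := by
      refine Polynomial.ringHom_ext (fun n => ?_) ?_
      · simp only [RingHom.comp_apply, F, Polynomial.coe_mapRingHom, Polynomial.map_C,
          Polynomial.coeToPowerSeries.ringHom_apply, Polynomial.coe_C]
        rw [← ResidueField.map_residue (PowerSeries.C (R := RN)), ← hτσ]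
        exact congrArg τ (hσ n).symm
      · simp only [RingHom.comp_apply, F, Polynomial.coe_mapRingHom, Polynomial.map_X,
          Polynomial.coeToPowerSeries.ringHom_apply, Polynomial.coe_X]
        rw [(residue_eq_zero_iff _).2 hX, map_zero, hresX]
    exact fun p => RingHom.congr_fun h p
  obtain ⟨ι, ⟨hι, hιr⟩, -⟩ := existsUnique_lift (B := Polynomial N) (S := S) (T := PowerSeries RN) F τ hτ
  haveI hιloc := isLocalHom_of_residue ι τ hιr
  have hιθ : ι.comp θ = PowerSeries.C := by
    have hC : ∀ n, ι (θ (algebraMap N RN n)) = PowerSeries.C (algebraMap N RN n) := fun n => by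
      rw [hθ]
      refine (hι _).trans ?_
      simp [F]
    obtain ⟨g, -, huniq⟩ := existsUnique_lift (B := N) (S := RN) (T := PowerSeries RN)
      ((PowerSeries.C (R := RN)).comp (algebraMap N RN)) (ResidueField.map (PowerSeries.C (R := RN)))
      (fun n => ResidueField.map_residue _ _)
    refine (huniq _ ⟨hC, fun x => ?_⟩).trans (huniq _ ⟨fun n => rfl, fun x => (ResidueField.map_residue _ _).symm⟩).symm
    rw [RingHom.comp_apply, hιr, hθr, hτσ]
  letI algRN : Algebra (Polynomial RN) S :=
    (Polynomial.eval₂RingHom θ (algebraMap (Polynomial N) S Polynomial.X)).toAlgebra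
  have hC' : ∀ r, algebraMap (Polynomial RN) S (Polynomial.C r) = θ r := fun r => Polynomial.eval₂_C _ _
  have hX' : algebraMap (Polynomial RN) S Polynomial.X = algebraMap (Polynomial N) S Polynomial.X :=
    Polynomial.eval₂_X _ _
  have hWE : Algebra.WeaklyEtale (Polynomial RN) S := by
    letI : Algebra (Polynomial N) (Polynomial RN) := (Polynomial.mapRingHom (algebraMap N RN)).toAlgebra
    haveI := weaklyEtale_mapRingHom N RN
    haveI : IsScalarTower (Polynomial N) (Polynomial RN) S := by
      refine IsScalarTower.of_algebraMap_eq' (Polynomial.ringHom_ext (fun n => ?_) ?_)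
      · rw [RingHom.comp_apply, RingHom.algebraMap_toAlgebra' (Polynomial.mapRingHom (algebraMap N RN)) _,
          Polynomial.coe_mapRingHom, Polynomial.map_C, hC', hθ]
        rfl
      · rw [RingHom.comp_apply, RingHom.algebraMap_toAlgebra' (Polynomial.mapRingHom (algebraMap N RN)) _,
          Polynomial.coe_mapRingHom, Polynomial.map_X, hX']
    obtain ⟨h1, h2⟩ := Groth.L20.TorAmp.weaklyEtale_cancel (Polynomial N) (Polynomial RN) S
    exact ⟨h1, h2⟩
  refine ⟨θ, ι, hιloc, hθloc, algRN, hWE, fun r => hC' r, hθ, ?_⟩
  have h : ι.comp (algebraMap (Polynomial RN) S) = Polynomial.coeToPowerSeries.ringHom := by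
    refine Polynomial.ringHom_ext (fun r => ?_) ?_
    · rw [RingHom.comp_apply, hC', Polynomial.coeToPowerSeries.ringHom_apply, Polynomial.coe_C]
      exact RingHom.congr_fun hιθ r
    · rw [RingHom.comp_apply, hX', hι]
      simp [F]
  exact fun p => RingHom.congr_fun h p

end Groth.L27.SmoothLA
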