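import Groth.Agent.L27.SmoothLA.Lift
import Groth.Agent.L27.SmoothLA.Core
import Groth.Agent.L07.FlatVal.NagataInt
import Mathlib.RingTheory.Polynomial.IsIntegral

/-! # Finitely generated models of weakly étale strictly henselian algebras -/

set_option autoImplicit false
set_option linter.style.haveILetI false
set_option linter.unusedSectionVars false
set_option backward.isDefEq.respectTransparency.types false

universe u

open IsLocalRing

noncomputable section

namespace Groth.L27.SmoothLA

variable {R' : Type u} [CommRing R'] {A' : Type u} [CommRing A'] [HenselianLocalRing A']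
  [IsSepClosed (ResidueField A')] [Algebra (Polynomial R') A']

/-- Polynomials over a subring, mapped to `A'`. -/
def toA (N : Subalgebra ℤ R') : Polynomial N →+* A' :=
  (algebraMap (Polynomial R') A').comp (Polynomial.mapRingHom N.val.toRingHom)

/-- A strictly henselian model over a subring. -/
structure Model (A' : Type u) [CommRing A'] [HenselianLocalRing A'] [IsSepClosed (ResidueField A')]
    [Algebra (Polynomial R') A'] (N : Subalgebra ℤ R') : Type (u + 1) where
  S : Type u
  [cr : CommRing S]
  [hens : HenselianLocalRing S]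
  [alg : Algebra (Polynomial N) S]
  [sep : IsSepClosed (ResidueField S)]
  [we : Algebra.WeaklyEtale (Polynomial N) S]
  γ : S →+* A'
  [loc : IsLocalHom γ]
  comp : ∀ p, γ (algebraMap (Polynomial N) S p) = toA N p

attribute [instance] Model.cr Model.hens Model.alg Model.sep Model.we Model.loc

theorem exists_model (N : Subalgebra ℤ R') : Nonempty (Model A' N) := by
  obtain ⟨S, iS, iH, iA, iSep, iW, hctr⟩ := exists_strictLoc (Polynomial N)
    ((maximalIdeal A').comap (toA N))
  obtain ⟨τ, hτ⟩ := exists_residue_embedding (B := Polynomial N) (S := S) ((residue A').comp (toA N))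
    (fun b => by rw [hctr, RingHom.comp_apply, residue_eq_zero_iff, Ideal.mem_comap])
  obtain ⟨g, ⟨hg, hgr⟩, -⟩ := existsUnique_lift (B := Polynomial N) (S := S) (T := A') (toA N) τ hτ
  haveI := isLocalHom_of_residue g τ hgr
  exact ⟨{ S := S, γ := g, comp := hg }⟩

variable {N M : Subalgebra ℤ R'}

theorem Model.ctr_eq (m : Model A' N) :
    ctr (Polynomial N) m.S = (maximalIdeal A').comap (toA N) := by
  ext p
  rw [Ideal.mem_comap, Ideal.mem_comap, mem_maximalIdeal, mem_maximalIdeal, mem_nonunits_iff, mem_nonunits_iff,
    ← m.comp, isUnit_map_iff m.γ]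

/-- Larger subrings have larger models. -/
theorem Model.range_le (h : N ≤ M) (m : Model A' N) (m' : Model A' M) :
    Set.range m.γ ⊆ Set.range m'.γ := by
  let incl : Polynomial N →+* Polynomial M := Polynomial.mapRingHom (Subalgebra.inclusion h).toRingHom
  have hincl : ∀ p, toA (A' := A') M (incl p) = toA N p := fun p => by
    simp only [toA, incl, RingHom.comp_apply, Polynomial.coe_mapRingHom, Polynomial.map_map]
    rfl
  let τ := ResidueField.map m.γ
  let τ' := ResidueField.map m'.γ
  have hτ : ∀ b, τ (residue m.S (algebraMap (Polynomial N) m.S b)) =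
      τ' (residue m'.S (algebraMap (Polynomial M) m'.S (incl b))) := fun b => by
    rw [ResidueField.map_residue, ResidueField.map_residue, m.comp, m'.comp, hincl]
  have hmem : ∀ x, τ x ∈ τ'.fieldRange :=
    range_residue_le (B := Polynomial N) τ τ' (fun b => ⟨_, (hτ b).symm⟩)
  let e : ResidueField m'.S ≃+* τ'.fieldRange := RingEquiv.ofBijective τ'.rangeRestrictField
    ⟨fun a b hab => τ'.injective (congrArg Subtype.val hab), (RingHom.rangeRestrictField_bijective τ').2⟩
  let σ : ResidueField m.S →+* ResidueField m'.S := e.symm.toRingHom.comp (τ.codRestrict _ hmem)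
  have hσ : ∀ x, τ' (σ x) = τ x := fun x => congrArg Subtype.val (e.apply_symm_apply ⟨τ x, hmem x⟩)
  obtain ⟨g, ⟨hg, hgr⟩, -⟩ := existsUnique_lift (B := Polynomial N) (S := m.S) (T := m'.S)
    ((algebraMap (Polynomial M) m'.S).comp incl) σ (fun b => τ'.injective ((hσ _).trans (hτ b)))
  obtain ⟨g₀, -, huniq⟩ := existsUnique_lift (B := Polynomial N) (S := m.S) (T := A') (toA N) τ
    (fun b => (ResidueField.map_residue _ _).trans (by rw [m.comp]))
  have h1 : m'.γ.comp g = g₀ := huniq _ ⟨fun b => by rw [RingHom.comp_apply, hg, RingHom.comp_apply, m'.comp, hincl],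
    fun x => by rw [RingHom.comp_apply, ← ResidueField.map_residue, hgr]; exact hσ _⟩
  have h2 : m.γ = g₀ := huniq _ ⟨m.comp, fun x => (ResidueField.map_residue _ _).symm⟩
  rintro _ ⟨x, rfl⟩
  exact ⟨g x, RingHom.congr_fun (h1.trans h2.symm) x⟩

section Domain

variable [IsDomain R'] [Algebra.WeaklyEtale (Polynomial R') A']

theorem injective_algebraMap_A' : Function.Injective (algebraMap (Polynomial R') A') := by
  rw [injective_iff_map_eq_zero]
  intro b hb
  by_contra hb0
  exact one_ne_zero (α := A') (Module.Flat.isSMulRegular_of_nonZeroDivisors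
    (mem_nonZeroDivisors_of_ne_zero hb0) (show b • (1 : A') = b • 0 by
      rw [Algebra.smul_def, hb, zero_mul, smul_zero]))

theorem injective_toA : Function.Injective (toA (A' := A') N) :=
  injective_algebraMap_A'.comp (Polynomial.map_injective _ Subtype.val_injective)

/-- Models over normal subrings are domains inside `A'`. -/
theorem Model.injective [IsIntegrallyClosed N] [IsNoetherianRing N] (m : Model A' N) :
    Function.Injective m.γ := by
  obtain ⟨hd, -, -⟩ := normal_noetherian (B := Polynomial N) (S := m.S)
  rw [injective_iff_map_eq_zero]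
  intro x hx
  by_contra hx0
  obtain ⟨b, hb, c, hc⟩ := exists_ne_zero_dvd (B := Polynomial N) hx0
  refine hb (injective_toA (A' := A') ?_)
  rw [map_zero, ← m.comp, hc, map_mul, hx, zero_mul]

end Domain

section Normal

variable [IsDomain R'] [IsIntegrallyClosed R']

/-- Finitely generated subrings sit in finitely generated normal ones. -/
theorem exists_normal (N₀ : Subalgebra ℤ R') (h : N₀.FG) :
    ∃ N : Subalgebra ℤ R', N₀ ≤ N ∧ IsIntegrallyClosed N ∧ IsNoetherianRing N := by
  haveI : Algebra.FiniteType ℤ N₀ := (Subalgebra.fg_iff_finiteType _).1 h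
  haveI : IsNoetherianRing N₀ := Algebra.FiniteType.isNoetherianRing ℤ N₀
  let F₀ := FractionRing N₀
  let K := FractionRing R'
  let I := integralClosure N₀ F₀
  haveI hfin : Module.Finite N₀ I := Groth.L07.FlatVal.isN1_of_finiteType_int N₀
  haveI : IsNoetherianRing I := isNoetherianRing_iff.2
    (isNoetherian_of_tower N₀ (inferInstance : IsNoetherian N₀ I))
  haveI : IsIntegrallyClosed I := integralClosure.isIntegrallyClosedOfFiniteExtension F₀
  let η : N₀ →+* K := (algebraMap R' K).comp N₀.val.toRingHom
  have hη : Function.Injective η := (IsFractionRing.injective R' K).comp Subtype.val_injective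
  let μ : F₀ →+* K := IsFractionRing.lift hη
  have hμ : ∀ n : N₀, μ (algebraMap N₀ F₀ n) = algebraMap R' K n := IsFractionRing.lift_algebraMap hη
  let μI : I →+* K := μ.comp I.val.toRingHom
  have hmem : ∀ x : I, ∃ r : R', algebraMap R' K r = μI x := fun x => by
    refine IsIntegrallyClosed.isIntegral_iff.1 ?_
    obtain ⟨p, hp, hpx⟩ := x.2
    refine ⟨p.map N₀.val.toRingHom, hp.map _, ?_⟩
    rw [Polynomial.eval₂_map]
    have := congrArg μ hpx
    rw [Polynomial.hom_eval₂, map_zero] at this
    rw [show (algebraMap R' K).comp N₀.val.toRingHom = μ.comp (algebraMap N₀ F₀) from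
      RingHom.ext fun n => (hμ n).symm]
    exact this
  choose ρ hρ using hmem
  let ρH : I →+* R' :=
    { toFun := ρ
      map_one' := IsFractionRing.injective R' K (by rw [hρ, map_one, map_one])
      map_mul' := fun a b => IsFractionRing.injective R' K (by rw [hρ, map_mul, map_mul, hρ, hρ])
      map_zero' := IsFractionRing.injective R' K (by rw [hρ, map_zero, map_zero])
      map_add' := fun a b => IsFractionRing.injective R' K (by rw [hρ, map_add, map_add, hρ, hρ]) }
  have hinj : Function.Injective ρH := fun a b hab => by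
    refine Subtype.ext (μ.injective ?_)
    exact (hρ a).symm.trans ((congrArg (algebraMap R' K) hab).trans (hρ b))
  let N : Subalgebra ℤ R' := subalgebraOfSubring ρH.range
  let e : I ≃+* N := RingEquiv.ofBijective (ρH.codRestrict N fun x => ⟨x, rfl⟩)
    ⟨fun a b hab => hinj (congrArg Subtype.val hab), fun ⟨_, x, hx⟩ => ⟨x, Subtype.ext hx⟩⟩
  refine ⟨N, fun n hn => ?_, IsIntegrallyClosed.of_equiv e, isNoetherianRing_of_ringEquiv I e⟩
  refine ⟨algebraMap N₀ I ⟨n, hn⟩, IsFractionRing.injective R' K ?_⟩
  exact (hρ _).trans (hμ ⟨n, hn⟩)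

end Normal

end Groth.L27.SmoothLA
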