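import Groth.Agent.L27.SmoothLA.Stage
import Groth.Agent.L27.SmoothLA.Models
import Groth.Agent.L27.SmoothLA.Expand
import Groth.Agent.L27.PBC.FieldVanish
import Groth.Agent.L27.KummerSNC.Cover
import Groth.Agent.S0646

/-! # Vanishing of degree one classes on generic fibres of strictly local curves -/

set_option autoImplicit false
set_option linter.style.haveILetI false
set_option linter.unusedSectionVars false
set_option backward.isDefEq.respectTransparency.types false

universe u

open CategoryTheory CategoryTheory.Limits AlgebraicGeometry Opposite IsLocalRing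

noncomputable section

namespace Groth.L27.SmoothLA

open Groth.L27.LimCoh Groth.L27.PBC

/-- Classes come from finitely generated subrings. -/
theorem subsingleton_of_subrings (T : Type u) [CommRing T] (n q : ℕ)
    (h : ∀ (T₀ : Type u) [CommRing T₀] (j : T₀ →+* T) (s : Finset T₀),
      Function.Injective j → Subring.closure (s : Set T₀) = ⊤ →
      ∀ [PreservesFiniteLimits (EtCoh.pull (Spec.map (CommRingCat.ofHom j)))]
        (η : EtCoh.H (Spec (CommRingCat.of T₀)) (EtCoh.const _ (ZMod n)) q),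
        pullC (Spec.map (CommRingCat.ofHom j)) n q η = 0) :
    Subsingleton (EtCoh.H (Spec (CommRingCat.of T)) (EtCoh.const _ (ZMod n)) q) := by
  classical
  let k := ULift.{u} ℤ
  letI : Algebra k T := ((Int.castRingHom T).comp ULift.ringEquiv.toRingHom).toAlgebra
  let Xs := subSpec k T
  let c := subCone k T
  haveI : ∀ a, PreservesFiniteLimits (EtCoh.pull (c.π.app a)) := fun _ => EtSite.preservesFiniteLimits_pull _
  haveI : ∀ ⦃a b : (FGSub k T)ᵒᵖ⦄ (h : a ⟶ b), PreservesFiniteLimits (EtCoh.pull (Xs.map h)) := fun _ _ _ =>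
    EtSite.preservesFiniteLimits_pull _
  have hqc : ∀ a, CompactSpace ↥(Xs.obj a) := fun a => inferInstanceAs (CompactSpace ↥(Spec _))
  have hqs : ∀ a, QuasiSeparatedSpace ↥(Xs.obj a) := fun a => inferInstanceAs (QuasiSeparatedSpace ↥(Spec _))
  let i₀ : FGSub k T := Classical.arbitrary _
  let F₀ : EtCoh.Ab (Xs.obj (op i₀)) := EtCoh.const _ (ZMod n)
  suffices h0 : ∀ ξ : EtCoh.H c.pt ((EtCoh.pull (c.π.app (op i₀))).obj F₀) q, ξ = 0 by
    let e := (EtCoh.HF c.pt q).map (EtCore.pullConst (c.π.app (op i₀)) (ZMod n)).hom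
    have he : Function.Bijective e := ConcreteCategory.bijective_of_isIso _
    refine ⟨fun x y => ?_⟩
    obtain ⟨x', rfl⟩ := he.2 x
    obtain ⟨y', rfl⟩ := he.2 y
    exact congrArg e ((h0 x').trans (h0 y').symm)
  intro ξ
  obtain ⟨j, hj, η, rfl⟩ := (Groth.Agent.S0646.result Xs (fun _ _ f => inferInstanceAs (IsAffineHom (Xs.map f)))
    hqc hqs c (isLimitSubCone k T) i₀ F₀ q).1 ξ
  let tr := Xs.map (homOfLE hj).op
  let g : c.pt ⟶ Xs.obj (op j) := c.π.app (op j)
  obtain ⟨s, hs⟩ := j.2
  have hgen : Subring.closure ((s.attach.image fun x : {x // x ∈ s} =>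
      (⟨(x : T), hs ▸ Algebra.subset_adjoin x.2⟩ : j.1)) : Set j.1) = ⊤ := by
    refine eq_top_iff.2 fun y _ => ?_
    suffices h' : (y : T) ∈ (Subring.closure _).map j.1.val.toRingHom by
      obtain ⟨z, hz, hzy⟩ := h'
      exact (Subtype.ext hzy : z = y) ▸ hz
    have hy' : (y : T) ∈ Algebra.adjoin k (s : Set T) := hs.symm ▸ y.2
    refine Algebra.adjoin_induction (fun x hx => ?_) (fun r => intCast_mem _ r.down)
      (fun _ _ _ _ hx hy => add_mem hx hy) (fun _ _ _ _ hx hy => mul_mem hx hy) hy'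
    exact ⟨⟨x, hs ▸ Algebra.subset_adjoin hx⟩, Subring.subset_closure (by simpa using hx), rfl⟩
  haveI : PreservesFiniteLimits (EtCoh.pull g) := EtSite.preservesFiniteLimits_pull _
  haveI : PreservesFiniteLimits (EtCoh.pull (Spec.map (CommRingCat.ofHom j.1.val.toRingHom))) :=
    EtSite.preservesFiniteLimits_pull _
  let η' : EtCoh.H (Xs.obj (op j)) (EtCoh.const _ (ZMod n)) q :=
    (EtCoh.HF _ q).map (EtCore.pullConst tr (ZMod n)).hom η
  have hη : pullC g n q η' = 0 := h j.1 j.1.val.toRingHom _ Subtype.val_injective hgen η'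
  rw [pullC_eq_zero_iff, Hpull_map] at hη
  have h2 : EtCore.Hpull g ((EtCoh.pull tr).obj F₀) q η = 0 :=
    (L28.EtTrace.HF_map_eq_zero_iff ((EtCoh.pull g).mapIso (EtCore.pullConst tr (ZMod n))) q _).1 hη
  let ψ := (EtCoh.HF c.pt q).map (((EtCore.pullComp (c.π.app (op j)) tr).symm ≪≫
    EtCore.pullCongr (c.w (homOfLE hj).op)).app F₀).hom
  exact Eq.trans (congrArg ψ.hom h2) (map_zero ψ.hom)

variable {R' : Type u} [CommRing R'] [IsDomain R'] [IsIntegrallyClosed R'] [HenselianLocalRing R']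
  {A' : Type u} [CommRing A'] [HenselianLocalRing A'] [IsSepClosed (ResidueField A')]
  [Algebra (Polynomial R') A'] [Algebra.WeaklyEtale (Polynomial R') A']
  [IsLocalHom (cst (R := R') (A := A'))]

/-- Every finite set of elements lives in a normal finitely generated model. -/
theorem exists_model_containing (hres : Function.Surjective ((residue A').comp (cst (R := R') (A := A'))))
    (s : Finset A') (r : Finset R') :
    ∃ (N : Subalgebra ℤ R') (m : Model A' N), IsIntegrallyClosed N ∧ IsNoetherianRing N ∧ ↑r ⊆ (N : Set R') ∧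
      ↑s ⊆ Set.range m.γ := by
  classical
  let P : A' → Prop := fun a =>
    ∃ N : Subalgebra ℤ R', N.FG ∧ ∀ N', N ≤ N' → ∀ m : Model A' N', a ∈ Set.range m.γ
  have hcomb : ∀ t : Finset A', (∀ a ∈ t, P a) →
      ∃ N : Subalgebra ℤ R', N.FG ∧ ∀ a ∈ t, ∀ N', N ≤ N' → ∀ m : Model A' N', a ∈ Set.range m.γ := by
    intro t
    induction t using Finset.induction with
    | empty => exact fun _ => ⟨⊥, Subalgebra.fg_bot, fun a ha => absurd ha (Finset.notMem_empty a)⟩
    | insert a t _ ih =>
      intro h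
      obtain ⟨N₁, hN₁, h₁⟩ := h a (Finset.mem_insert_self a t)
      obtain ⟨N₂, hN₂, h₂⟩ := ih fun b hb => h b (Finset.mem_insert_of_mem hb)
      refine ⟨N₁ ⊔ N₂, hN₁.sup hN₂, fun b hb N' hle m => ?_⟩
      rcases Finset.mem_insert.1 hb with rfl | hb
      · exact h₁ N' (le_sup_left.trans hle) m
      · exact h₂ b hb N' (le_sup_right.trans hle) m
  have hpoly : ∀ p : Polynomial R', P (algebraMap (Polynomial R') A' p) := fun p => by
    refine ⟨Algebra.adjoin ℤ (p.coeffs : Set R'), Subalgebra.fg_adjoin_finset _, fun N' hle m => ?_⟩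
    have hl : p ∈ Polynomial.lifts N'.val.toRingHom := (Polynomial.lifts_iff_coeff_lifts p).2 fun i => by
      rcases eq_or_ne (p.coeff i) 0 with h0 | h0
      · exact ⟨0, by rw [h0, map_zero]⟩
      · exact ⟨⟨_, hle (Algebra.subset_adjoin (Polynomial.coeff_mem_coeffs h0))⟩, rfl⟩
    obtain ⟨q, hq⟩ := (Polynomial.mem_lifts p).1 hl
    exact ⟨algebraMap _ _ q, by rw [m.comp, toA, RingHom.comp_apply, Polynomial.coe_mapRingHom, hq]⟩
  have hfin : ∀ (t : Finset A') (a : A'), (∀ b ∈ t, P b) →
      (∀ (N : Subalgebra ℤ R') (m : Model A' N), (∀ b ∈ t, b ∈ Set.range m.γ) → a ∈ Set.range m.γ) → P a := by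
    intro t a ht h
    obtain ⟨N, hN, hN'⟩ := hcomb t ht
    exact ⟨N, hN, fun N' hle m => h N' m fun b hb => hN' b hb N' hle m⟩
  let 𝔸 : Subring A' :=
    { carrier := {a | P a}
      one_mem' := hfin ∅ 1 (by simp) fun N m _ => ⟨1, map_one _⟩
      zero_mem' := hfin ∅ 0 (by simp) fun N m _ => ⟨0, map_zero _⟩
      neg_mem' := fun {a} ha => hfin {a} _ (by simpa using ha) fun N m h => by
        obtain ⟨x, hx⟩ := h a (Finset.mem_singleton_self a)
        exact ⟨-x, by rw [map_neg, hx]⟩
      add_mem' := fun {a b} ha hb => hfin {a, b} _ (by simp [show P a from ha, show P b from hb]) fun N m h => by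
        obtain ⟨x, hx⟩ := h a (by simp); obtain ⟨y, hy⟩ := h b (by simp)
        exact ⟨x + y, by rw [map_add, hx, hy]⟩
      mul_mem' := fun {a b} ha hb => hfin {a, b} _ (by simp [show P a from ha, show P b from hb]) fun N m h => by
        obtain ⟨x, hx⟩ := h a (by simp); obtain ⟨y, hy⟩ := h b (by simp)
        exact ⟨x * y, by rw [map_mul, hx, hy]⟩ }
  have hunit : ∀ a : 𝔸, IsUnit (a : A') → IsUnit a := fun a ha => by
    refine isUnit_iff_exists_inv.2 ⟨⟨↑ha.unit⁻¹, hfin {(a : A')} _ (fun b hb => (Finset.mem_singleton.1 hb) ▸ a.2) fun N m h => ?_⟩,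
      Subtype.ext ha.mul_val_inv⟩
    obtain ⟨x, hx⟩ := h (a : A') (Finset.mem_singleton_self _)
    have hxu : IsUnit x := isUnit_of_map_unit m.γ x (hx ▸ ha)
    refine ⟨↑hxu.unit⁻¹, ha.mul_right_injective ?_⟩
    show (a : A') * _ = (a : A') * _
    rw [ha.mul_val_inv, ← hx, ← map_mul, hxu.mul_val_inv, map_one]
  haveI : Nontrivial 𝔸 := ⟨⟨0, 1, fun h => zero_ne_one (α := A') (congrArg Subtype.val h)⟩⟩
  haveI : IsLocalRing 𝔸 := IsLocalRing.of_nonunits_add fun {a b} ha hb => fun hab => by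
    have hab' := hab.map 𝔸.subtype
    rcases IsLocalRing.isUnit_or_isUnit_of_isUnit_add (a := (a : A')) (b := (b : A')) hab' with h | h
    · exact ha (hunit a h)
    · exact hb (hunit b h)
  haveI hloc : IsLocalHom 𝔸.subtype := ⟨hunit⟩
  haveI : HenselianLocalRing 𝔸 := by
    refine { is_henselian := fun f hf a₀ h1 h2 => ?_ }
    obtain ⟨N, hN, hN'⟩ := hcomb (insert (a₀ : A') (f.coeffs.image fun c : 𝔸 => (c : A'))) (fun b hb => by
      rcases Finset.mem_insert.1 hb with rfl | hb
      · exact a₀.2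
      · obtain ⟨c, -, rfl⟩ := Finset.mem_image.1 hb
        exact c.2)
    obtain ⟨m⟩ := exists_model (A' := A') N
    obtain ⟨x₀, hx₀⟩ := hN' a₀ (Finset.mem_insert_self _ _) N le_rfl m
    have hl : f.map 𝔸.subtype ∈ Polynomial.lifts m.γ := (Polynomial.lifts_iff_coeff_lifts _).2 fun i => by
      rw [Polynomial.coeff_map]
      rcases eq_or_ne (f.coeff i) 0 with h0 | h0
      · exact ⟨0, by rw [h0, map_zero, map_zero]⟩
      · exact hN' _ (Finset.mem_insert_of_mem (Finset.mem_image.2 ⟨_, Polynomial.coeff_mem_coeffs h0, rfl⟩)) N le_rfl m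
    obtain ⟨q, hq, -, hqm⟩ := Polynomial.lifts_and_degree_eq_and_monic hl (hf.map _)
    have heval : ∀ (p : Polynomial 𝔸) (p' : Polynomial m.S), p'.map m.γ = p.map 𝔸.subtype →
        ∀ (a : 𝔸) (x : m.S), m.γ x = a → m.γ (p'.eval x) = ((p.eval a : 𝔸) : A') := fun p p' h a x hx => by
      rw [← Polynomial.eval₂_at_apply, ← Polynomial.eval_map, h, hx]
      exact Polynomial.eval_map_apply 𝔸.subtype a
    have hmem : q.eval x₀ ∈ maximalIdeal m.S := by
      rw [mem_maximalIdeal, mem_nonunits_iff]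
      intro hu
      refine (mem_maximalIdeal _).1 h1 (hunit _ ?_)
      rw [← heval f q hq a₀ x₀ hx₀]
      exact hu.map m.γ
    have hd : IsUnit (q.derivative.eval x₀) := by
      refine isUnit_of_map_unit m.γ _ ?_
      rw [heval f.derivative q.derivative (by rw [← Polynomial.derivative_map, hq, Polynomial.derivative_map]) a₀ x₀ hx₀]
      exact h2.map 𝔸.subtype
    obtain ⟨x, hx, hxm⟩ := HenselianLocalRing.is_henselian q hqm x₀ hmem hd
    have hmx : P (m.γ x) := ⟨N ⊔ ⊥, hN.sup Subalgebra.fg_bot, fun N' hle m' =>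
      m.range_le (le_sup_left.trans hle) m' ⟨x, rfl⟩⟩
    refine ⟨⟨m.γ x, hmx⟩, Subtype.ext ?_, ?_⟩
    · rw [← heval f q hq ⟨m.γ x, hmx⟩ x rfl, hx, map_zero]
      rfl
    · rw [mem_maximalIdeal, mem_nonunits_iff]
      intro hu
      refine (mem_maximalIdeal _).1 hxm (isUnit_of_map_unit m.γ _ ?_)
      rw [map_sub, hx₀]
      exact hu.map 𝔸.subtype
  have hall : ∀ a : A', P a := by
    have hsurj : Function.Surjective (ResidueField.map 𝔸.subtype) := fun z => by
      obtain ⟨b, rfl⟩ := hres z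
      exact ⟨residue 𝔸 ⟨cst b, hpoly (Polynomial.C b)⟩, ResidueField.map_residue _ _⟩
    let e : ResidueField 𝔸 ≃+* ResidueField A' :=
      RingEquiv.ofBijective (ResidueField.map 𝔸.subtype) ⟨(ResidueField.map 𝔸.subtype).injective, hsurj⟩
    let f : Polynomial R' →+* 𝔸 := (algebraMap (Polynomial R') A').codRestrict 𝔸 hpoly
    obtain ⟨g, ⟨hg, hgr⟩, -⟩ := existsUnique_lift (B := Polynomial R') (S := A') (T := 𝔸) f e.symm.toRingHom
      (fun p => e.injective ((e.apply_symm_apply _).trans (ResidueField.map_residue 𝔸.subtype (f p)).symm))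
    obtain ⟨g₀, -, huniq⟩ := existsUnique_lift (B := Polynomial R') (S := A') (T := A')
      (algebraMap (Polynomial R') A') (RingHom.id _) (fun p => rfl)
    have h := (huniq (𝔸.subtype.comp g) ⟨fun p => congrArg Subtype.val (hg p), fun x => by
      rw [RingHom.comp_apply, ← ResidueField.map_residue, hgr]
      exact e.apply_symm_apply _⟩).trans (huniq (RingHom.id A') ⟨fun _ => rfl, fun _ => rfl⟩).symm
    intro a
    have ha : P (g a : A') := (g a).2
    rwa [show ((g a : 𝔸) : A') = a from RingHom.congr_fun h a] at ha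
  obtain ⟨N₀, hN₀, h₀⟩ := hcomb s fun a _ => hall a
  obtain ⟨N, hle, h1, h2⟩ := exists_normal (N₀ ⊔ Algebra.adjoin ℤ (r : Set R')) (hN₀.sup (Subalgebra.fg_adjoin_finset _))
  obtain ⟨m⟩ := exists_model (A' := A') N
  exact ⟨N, m, h1, h2, fun x hx => hle ((le_sup_right (a := N₀)) (Algebra.subset_adjoin hx)),
    fun a ha => h₀ a ha N (le_sup_left.trans hle) m⟩

/-- Degree one vanishing on the generic fibre of a strictly local curve. -/
theorem subsingleton_H1 (hX : algebraMap (Polynomial R') A' Polynomial.X ∈ maximalIdeal A')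
    (hres : Function.Surjective ((residue A').comp (cst (R := R') (A := A'))))
    {T : Type u} [CommRing T] (j : A' →+* T) (hj : Function.Injective j)
    (hfrac : ∀ t : T, ∃ (b : R') (a : A'), b ≠ 0 ∧ j (cst b) * t = j a)
    (hunit : ∀ b : R', b ≠ 0 → IsUnit (j (cst b)))
    {ℓ : ℕ} (hℓ : ℓ.Prime) (hu : IsUnit (ℓ : R'))
    (hroot : ∀ b : R', b ≠ 0 → ∃ v : Tˣ, (v : T) ^ ℓ = j (cst b)) :
    Subsingleton (EtCoh.H (Spec (CommRingCat.of T)) (EtCoh.const _ (ZMod ℓ)) 1) := by
  classical
  haveI : NeZero ℓ := ⟨hℓ.ne_zero⟩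
  refine subsingleton_of_subrings T ℓ 1 fun T₀ _ j₀ s hj₀ hs _ η => ?_
  choose b a hb hba using fun t : T₀ => hfrac (j₀ t)
  obtain ⟨N, m, hN1, hN2, hbN, haN⟩ := exists_model_containing hres (s.image a) (s.image b)
  haveI := hN1
  haveI := hN2
  haveI hctr : ((maximalIdeal R').comap N.val.toRingHom).IsPrime := Ideal.IsPrime.comap _
  obtain ⟨RN, iR, iH, iA, iSep, iW, hRN⟩ := exists_strictLoc N ((maximalIdeal R').comap N.val.toRingHom)
  obtain ⟨hd, hic, hno⟩ := normal_noetherian (B := Polynomial N) (S := m.S)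
  obtain ⟨hdR, hicR, hnoR⟩ := normal_noetherian (B := N) (S := RN)
  have hXm : algebraMap (Polynomial N) m.S Polynomial.X ∈ maximalIdeal m.S := by
    rw [mem_maximalIdeal, mem_nonunits_iff, ← isUnit_map_iff m.γ, m.comp, toA, RingHom.comp_apply,
      Polynomial.coe_mapRingHom, Polynomial.map_X]
    exact (mem_maximalIdeal _).1 hX
  have hcC : ctr N RN = (ctr (Polynomial N) m.S).comap Polynomial.C := by
    rw [hRN, m.ctr_eq, Ideal.comap_comap]
    ext n
    simp only [Ideal.mem_comap, toA, RingHom.comp_apply, Polynomial.coe_mapRingHom, Polynomial.map_C, mem_maximalIdeal,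
      mem_nonunits_iff]
    exact not_congr (isUnit_map_iff (cst (R := R') (A := A')) _).symm
  obtain ⟨θ, ι, iι, iθ, iAlg, iWE, hcst, hθN, hι⟩ := exists_expansion (S := m.S) (RN := RN) hXm hcC
  let f : N →+* R' := N.val.toRingHom
  -- the comparison of the bases
  let eres : ResidueField R' ≃+* ResidueField A' := RingEquiv.ofBijective (ResidueField.map (cst (R := R') (A := A')))
    ⟨(ResidueField.map _).injective, fun z => by
      obtain ⟨b, rfl⟩ := hres z
      exact ⟨residue R' b, ResidueField.map_residue _ _⟩⟩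
  have hγθ : ∀ n, m.γ (θ (algebraMap N RN n)) = cst (f n) := fun n => by
    rw [hθN, m.comp, toA, RingHom.comp_apply, Polynomial.coe_mapRingHom, Polynomial.map_C]
    rfl
  haveI : IsLocalHom (m.γ.comp θ) := RingHom.isLocalHom_comp _ _
  let τβ : ResidueField RN →+* ResidueField R' := eres.symm.toRingHom.comp (ResidueField.map (m.γ.comp θ))
  have hτβ : ∀ n, τβ (residue RN (algebraMap N RN n)) = residue R' (f n) := fun n => eres.injective (by
    refine (eres.apply_symm_apply _).trans ((ResidueField.map_residue _ _).trans ?_)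
    rw [RingHom.comp_apply, hγθ]
    exact (ResidueField.map_residue _ _).symm)
  obtain ⟨β, ⟨hβ, hβr⟩, -⟩ := existsUnique_lift (B := N) (S := RN) (T := R') f τβ hτβ
  have hβθ : ∀ r, cst (β r) = m.γ (θ r) := by
    obtain ⟨g, -, huniq⟩ := existsUnique_lift (B := N) (S := RN) (T := A') ((cst (R := R') (A := A')).comp f)
      (ResidueField.map (m.γ.comp θ)) (fun n => by rw [ResidueField.map_residue, RingHom.comp_apply, hγθ]; rfl)
    have h := (huniq ((cst (R := R') (A := A')).comp β) ⟨fun n => by rw [RingHom.comp_apply, hβ]; rfl, fun x => by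
      rw [RingHom.comp_apply, ← ResidueField.map_residue, hβr]
      exact eres.apply_symm_apply _⟩).trans
      (huniq (m.γ.comp θ) ⟨fun n => hγθ n, fun x => (ResidueField.map_residue _ _).symm⟩).symm
    exact fun r => RingHom.congr_fun h r
  have hβinj : Function.Injective β := by
    rw [injective_iff_map_eq_zero]
    intro x hx
    by_contra hx0
    obtain ⟨n, hn, c, hc⟩ := exists_ne_zero_dvd (B := N) hx0
    refine hn (Subtype.val_injective ?_)
    show f n = 0
    rw [← hβ, hc, map_mul, hx, zero_mul]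
  have huN : IsUnit (ℓ : RN) := by
    have h : algebraMap N RN (ℓ : N) = (ℓ : RN) := map_natCast _ _
    refine notMem_maximalIdeal.1 fun hh => ?_
    rw [← h, ← Ideal.mem_comap] at hh
    change (ℓ : N) ∈ ctr N RN at hh
    rw [hRN, Ideal.mem_comap, map_natCast] at hh
    exact (mem_maximalIdeal _).1 hh hu
  obtain ⟨ζ, hζ1, hζ2⟩ := KummerSNC.exists_primitiveRoot RN ℓ hℓ.one_le huN
  have hζ : IsPrimitiveRoot ζ ℓ := (IsPrimitiveRoot.iff hℓ.pos).2 ⟨hζ1, fun l hl hlt h => by
    have := hζ2 l hl hlt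
    rw [h, sub_self] at this
    exact not_isUnit_zero this⟩
  -- the common denominator
  let g₀ : N := ∏ t ∈ s.attach, (⟨b t, hbN (Finset.mem_image_of_mem b t.2)⟩ : N)
  have hg₀ : (g₀ : R') ≠ 0 := by
    show N.val g₀ ≠ 0
    rw [map_prod]
    exact Finset.prod_ne_zero_iff.2 fun t _ => hb _
  have hβg : β (algebraMap N RN g₀) = (g₀ : R') := hβ g₀
  have hgR : algebraMap N RN g₀ ≠ 0 := fun h => hg₀ (by rw [← hβg, h, map_zero])
  let L := Localization.Away (cst (R := RN) (A := m.S) (algebraMap N RN g₀))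
  let jγ : m.S →+* T := j.comp m.γ
  have hjg : jγ (cst (R := RN) (A := m.S) (algebraMap N RN g₀)) = j (cst (g₀ : R')) := by
    rw [RingHom.comp_apply, hcst, ← hβθ, hβg]
  let jL : L →+* T := IsLocalization.Away.lift (cst (R := RN) (A := m.S) (algebraMap N RN g₀))
    (g := jγ) (by rw [hjg]; exact hunit _ hg₀)
  have hjL : ∀ x, jL (algebraMap m.S L x) = jγ x := fun x => IsLocalization.Away.lift_eq _ _ x
  have hjLinj : Function.Injective jL := by
    rw [injective_iff_map_eq_zero]
    intro z hz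
    obtain ⟨x, k, rfl⟩ := IsLocalization.exists_mk'_eq
      (Submonoid.powers (cst (R := RN) (A := m.S) (algebraMap N RN g₀))) z
    have h := congrArg jL (IsLocalization.mk'_spec L x k)
    rw [map_mul, hz, zero_mul, hjL] at h
    have hx : x = 0 := (hj.comp m.injective) (h.symm.trans (map_zero (j.comp m.γ)).symm)
    rw [hx, IsLocalization.mk'_zero]
  -- the class comes from the model
  have hrange : ∀ t, j₀ t ∈ jL.range := by
    have h : Subring.closure (s : Set T₀) ≤ jL.range.comap j₀ := by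
      rw [Subring.closure_le]
      intro t ht
      obtain ⟨x, hx⟩ := haN (Finset.mem_image_of_mem a ht)
      let rest : N := ∏ u ∈ s.attach.erase ⟨t, ht⟩, (⟨b u, hbN (Finset.mem_image_of_mem b u.2)⟩ : N)
      refine ⟨algebraMap m.S L (x * θ (algebraMap N RN rest)) *
        IsLocalization.Away.invSelf (cst (R := RN) (A := m.S) (algebraMap N RN g₀)), ?_⟩
      have hg : (g₀ : R') = b t * (rest : R') := by
        show N.val g₀ = b t * N.val rest
        rw [show g₀ = ⟨b t, hbN (Finset.mem_image_of_mem b ht)⟩ * rest from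
          (Finset.mul_prod_erase s.attach _ (Finset.mem_attach _ ⟨t, ht⟩)).symm, map_mul]
        rfl
      refine ((hunit _ hg₀).mul_right_injective ?_)
      have hinv := congrArg jL (IsLocalization.Away.mul_invSelf (S := L)
        (cst (R := RN) (A := m.S) (algebraMap N RN g₀)))
      rw [map_mul, hjL, hjg, map_one] at hinv
      show j (cst (g₀ : R')) * jL (_ * _) = j (cst (g₀ : R')) * j₀ t
      rw [map_mul, mul_left_comm, hinv, mul_one, hjL, RingHom.comp_apply, map_mul, ← hβθ, hβ, map_mul, hx]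
      rw [hg, map_mul, map_mul, ← hba, show f rest = (rest : R') from rfl]
      ring
    intro t
    exact h (hs.symm ▸ Subring.mem_top t)
  let e : L ≃+* jL.range := RingEquiv.ofBijective jL.rangeRestrict
    ⟨fun x y h => hjLinj (congrArg Subtype.val h), jL.rangeRestrict_surjective⟩
  let χ : T₀ →+* L := e.symm.toRingHom.comp (j₀.codRestrict jL.range hrange)
  have hχ : jL.comp χ = j₀ := RingHom.ext fun t => congrArg Subtype.val (e.apply_symm_apply ⟨j₀ t, hrange t⟩)
  let fχ := Spec.map (CommRingCat.ofHom χ)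
  let fL := Spec.map (CommRingCat.ofHom jL)
  haveI := EtSite.preservesFiniteLimits_pull fχ
  haveI := EtSite.preservesFiniteLimits_pull fL
  have hcomp : fL ≫ fχ = Spec.map (CommRingCat.ofHom j₀) := by
    rw [← Spec.map_comp, ← CommRingCat.ofHom_comp, hχ]
  obtain ⟨α, hα, hkill⟩ := exists_const ι hι hℓ huN ζ hζ hgR (pullC fχ ℓ 1 η)
  rw [← pullC_comp fL fχ hcomp ℓ 1 η]
  obtain ⟨v, hv⟩ := hroot (β α) fun h => hα (hβinj (h.trans (map_zero β).symm))
  refine hkill T jL v ?_
  rw [hv, hjL, RingHom.comp_apply, hcst, hβθ]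

end Groth.L27.SmoothLA
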