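import Groth.Agent.L27.SmoothLA.Line
import Groth.Agent.L27.Acyclic0.Smooth
import Groth.Agent.L27.XV.Transfer
import Groth.Agent.L20.WeaklyEtale
import Groth.Agent.L27.StalkBC.Criterion
import Groth.Agent.L05.CurveNorm.Scheme
import Mathlib.AlgebraicGeometry.Morphisms.WeaklyEtale
import Mathlib.AlgebraicGeometry.Morphisms.Smooth
import Mathlib.FieldTheory.IsAlgClosed.AlgebraicClosure

/-! # The geometric fibres of the line on strict localisations are acyclic -/

set_option autoImplicit false
set_option linter.style.haveILetI false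
set_option linter.unusedSectionVars false
set_option backward.isDefEq.respectTransparency.types false

universe u

open CategoryTheory CategoryTheory.Limits AlgebraicGeometry Opposite IsLocalRing
open scoped TensorProduct

noncomputable section

namespace Groth.L27.SmoothLA

/-- The line over an affine scheme. -/
abbrev lineProj (R : Type u) [CommRing R] :
    Spec (CommRingCat.of (Polynomial R)) ⟶ Spec (CommRingCat.of R) :=
  Spec.map (CommRingCat.ofHom Polynomial.C)

theorem weaklyEtale_preimage {A B : Type u} [CommRing A] [CommRing B] (a : Spec (CommRingCat.of B) ⟶ Spec (CommRingCat.of A))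
    [WeaklyEtale a] : letI := (Spec.preimage a).hom.toAlgebra; Algebra.WeaklyEtale A B := by
  refine (Groth.L20.weaklyEtale_specMap_iff (Spec.preimage a)).1 ?_
  rw [Spec.map_preimage]
  infer_instance

/-- Evaluation at a point. -/
def evalPt (O : Type u) [CommRing O] (y : Spec (CommRingCat.of O)) : O →+* (Spec (CommRingCat.of O)).residueField y :=
  ((Scheme.Spec.residueFieldIso (CommRingCat.of O) y).inv.hom).comp (algebraMap O y.asIdeal.ResidueField)

theorem specMap_evalPt (O : Type u) [CommRing O] (y : Spec (CommRingCat.of O)) :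
    Spec.map (CommRingCat.ofHom (evalPt O y)) = (Spec (CommRingCat.of O)).fromSpecResidueField y := by
  show Spec.map (CommRingCat.ofHom (algebraMap O y.asIdeal.ResidueField) ≫
    (Scheme.Spec.residueFieldIso (CommRingCat.of O) y).inv) = _
  rw [Spec.map_comp, Scheme.Spec.map_residueFieldIso_inv_eq_fromSpecResidueField]

theorem exists_clear (O : Type u) [CommRing O] (y : Spec (CommRingCat.of O))
    (q : Polynomial ((Spec (CommRingCat.of O)).residueField y)) :
    ∃ (b : O) (p : Polynomial O), evalPt O y b ≠ 0 ∧ p.map (evalPt O y) = Polynomial.C (evalPt O y b) * q := by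
  induction q using Polynomial.induction_on' with
  | add p q hp hq =>
    obtain ⟨b, p', hb, hp'⟩ := hp
    obtain ⟨c, q', hc, hq'⟩ := hq
    refine ⟨b * c, Polynomial.C c * p' + Polynomial.C b * q', by rw [map_mul]; exact mul_ne_zero hb hc, ?_⟩
    rw [Polynomial.map_add, Polynomial.map_mul, Polynomial.map_mul, Polynomial.map_C, Polynomial.map_C, hp', hq',
      map_mul, Polynomial.C_mul]
    ring
  | monomial n z =>
    obtain ⟨a, b, hb, hab⟩ := IsFractionRing.div_surjective (O ⧸ y.asIdeal)
      ((Scheme.Spec.residueFieldIso (CommRingCat.of O) y).hom.hom z)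
    obtain ⟨a, rfl⟩ := Ideal.Quotient.mk_surjective a
    obtain ⟨b, rfl⟩ := Ideal.Quotient.mk_surjective b
    have hb0 : algebraMap O y.asIdeal.ResidueField b ≠ 0 := by
      rw [IsScalarTower.algebraMap_apply O (O ⧸ y.asIdeal) y.asIdeal.ResidueField]
      exact IsFractionRing.to_map_ne_zero_of_mem_nonZeroDivisors hb
    have hb' : evalPt O y b ≠ 0 := fun h => hb0
      ((map_eq_zero (Scheme.Spec.residueFieldIso (CommRingCat.of O) y).inv.hom).1 h)
    refine ⟨b, Polynomial.monomial n a, hb', ?_⟩
    rw [Polynomial.map_monomial, Polynomial.C_mul_monomial]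
    congr 1
    have hz : z = (Scheme.Spec.residueFieldIso (CommRingCat.of O) y).inv.hom
        ((Scheme.Spec.residueFieldIso (CommRingCat.of O) y).hom.hom z) :=
      (ConcreteCategory.congr_hom (Scheme.Spec.residueFieldIso (CommRingCat.of O) y).hom_inv_id z).symm
    rw [hz, ← hab, show evalPt O y b = (Scheme.Spec.residueFieldIso (CommRingCat.of O) y).inv.hom
      (algebraMap O y.asIdeal.ResidueField b) from rfl, ← map_mul, evalPt, RingHom.comp_apply]
    congr 1
    show algebraMap O y.asIdeal.ResidueField a = algebraMap O y.asIdeal.ResidueField b *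
      (algebraMap (O ⧸ y.asIdeal) y.asIdeal.ResidueField (algebraMap O (O ⧸ y.asIdeal) a) /
        algebraMap (O ⧸ y.asIdeal) y.asIdeal.ResidueField (algebraMap O (O ⧸ y.asIdeal) b))
    rw [← IsScalarTower.algebraMap_apply, ← IsScalarTower.algebraMap_apply, mul_div_cancel₀ _ hb0]

/-- The geometric fibres on strict localisations of the line are acyclic. -/
theorem geomFibres_line (R : Type u) [CommRing R] (L : Set ℕ) (hL : ∀ ℓ ∈ L, ℓ.Prime → IsUnit (ℓ : R)) (n : ℕ) :
    EtAcyc.OnStrictLocalizations (lineProj R) (fun _ _ h => EtAcyc.GeomFibresAcyclicN L n h) := by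
  intro x RY RX _ _ _ _ _ _ _ _ _ _ _ _ hc y Ω _ _ algΩ halg
  obtain ⟨_, _⟩ := StalkBC.henselian_strict x RX
  obtain ⟨_, _⟩ := StalkBC.henselian_strict (X := Spec (CommRingCat.of R)) ((lineProj R).base x) RY
  let φ := algebraMap RY RX
  let a := Hens2.specOf (Spec (CommRingCat.of R)) ((lineProj R).base x) RY
  let b := Hens2.specOf (Spec (CommRingCat.of (Polynomial R))) x RX
  haveI : WeaklyEtale a := Acyclic0.weaklyEtale_fromStrict _ RY
  haveI : WeaklyEtale b := Acyclic0.weaklyEtale_fromStrict x RX
  let ρY : R →+* RY := (Spec.preimage a).hom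
  let ρX : Polynomial R →+* RX := (Spec.preimage b).hom
  have hρ : ∀ r, ρX (Polynomial.C r) = φ (ρY r) := by
    have h : CommRingCat.ofHom Polynomial.C ≫ Spec.preimage b = Spec.preimage a ≫ CommRingCat.ofHom φ := by
      apply Spec.map_injective
      rw [Spec.map_comp, Spec.map_comp, Spec.map_preimage, Spec.map_preimage]
      exact (StalkBC.specOf_comp (lineProj R) x RY RX φ hc).symm
    exact fun r => RingHom.congr_fun (congrArg CommRingCat.Hom.hom h) r
  -- `RX` over the line over `RY`
  letI algX : Algebra (Polynomial RY) RX := (Polynomial.eval₂RingHom φ (ρX Polynomial.X)).toAlgebra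
  have hCX : ∀ r, algebraMap (Polynomial RY) RX (Polynomial.C r) = φ r := fun r => Polynomial.eval₂_C _ _
  haveI : IsScalarTower RY (Polynomial RY) RX := IsScalarTower.of_algebraMap_eq fun r => (hCX r).symm
  haveI : Algebra.WeaklyEtale (Polynomial RY) RX := by
    letI : Algebra R RY := ρY.toAlgebra
    letI : Algebra (Polynomial R) RX := ρX.toAlgebra
    haveI : Algebra.WeaklyEtale R RY := weaklyEtale_preimage a
    haveI : Algebra.WeaklyEtale (Polynomial R) RX := weaklyEtale_preimage b
    letI : Algebra (Polynomial R) (Polynomial RY) := (Polynomial.mapRingHom (algebraMap R RY)).toAlgebra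
    haveI := weaklyEtale_mapRingHom R RY
    haveI : IsScalarTower (Polynomial R) (Polynomial RY) RX := by
      refine IsScalarTower.of_algebraMap_eq' ?_
      refine Polynomial.ringHom_ext (fun r => ?_) ?_
      · show ρX (Polynomial.C r) = algebraMap (Polynomial RY) RX ((Polynomial.C r).map (algebraMap R RY))
        rw [Polynomial.map_C, hCX, hρ]
        rfl
      · show ρX Polynomial.X = algebraMap (Polynomial RY) RX ((Polynomial.X : Polynomial R).map (algebraMap R RY))
        rw [Polynomial.map_X]
        exact (Polynomial.eval₂_X _ _).symm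
    obtain ⟨h1, h2⟩ := Groth.L20.TorAmp.weaklyEtale_cancel (Polynomial R) (Polynomial RY) RX
    exact ⟨h1, h2⟩
  have hp : (ctr (Polynomial RY) RX).comap Polynomial.C = maximalIdeal RY := by
    ext r
    rw [Ideal.mem_comap, Ideal.mem_comap, hCX, mem_maximalIdeal, mem_maximalIdeal, mem_nonunits_iff, mem_nonunits_iff,
      isUnit_map_iff φ]
  -- pass to an algebraic closure
  let K := AlgebraicClosure Ω
  let ψ : RY →+* Ω := (algebraMap ((Spec (CommRingCat.of RY)).residueField y) Ω).comp (evalPt RY y)
  letI : Algebra RY K := ((algebraMap Ω K).comp ψ).toAlgebra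
  have hK : ∀ z : K, ∃ p : Polynomial RY, p.map (algebraMap RY K) ≠ 0 ∧ Polynomial.aeval z p = 0 := fun z => by
    haveI : IsScalarTower ((Spec (CommRingCat.of RY)).residueField y) Ω K := inferInstance
    haveI : Algebra.IsAlgebraic ((Spec (CommRingCat.of RY)).residueField y) K :=
      Algebra.IsAlgebraic.trans _ Ω K
    obtain ⟨q, hq0, hq⟩ := Algebra.IsAlgebraic.isAlgebraic (R := (Spec (CommRingCat.of RY)).residueField y) z
    obtain ⟨d, p, hd, hp'⟩ := exists_clear RY y q
    have hmap : p.map (algebraMap RY K) =
        (Polynomial.C (evalPt RY y d) * q).map (algebraMap ((Spec (CommRingCat.of RY)).residueField y) K) := by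
      rw [← hp', Polynomial.map_map]
      rfl
    refine ⟨p, ?_, ?_⟩
    · rw [hmap]
      exact (Polynomial.map_ne_zero_iff (algebraMap ((Spec (CommRingCat.of RY)).residueField y) K).injective).2
        (mul_ne_zero (Polynomial.C_ne_zero.2 hd) hq0)
    · rw [Polynomial.aeval_def, ← Polynomial.eval_map, hmap, Polynomial.eval_map, ← Polynomial.aeval_def, map_mul, hq,
        mul_zero]
  let h := Spec.map (CommRingCat.ofHom φ)
  let s := EtAcyc.geomPt (Spec (CommRingCat.of RY)) y Ω
  let r : Spec (CommRingCat.of K) ⟶ Spec (CommRingCat.of Ω) := Spec.map (CommRingCat.ofHom (algebraMap Ω K))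
  haveI : IsPurelyInseparable Ω K := Groth.L05.isPurelyInseparable_of_isSepClosed_base Ω K
  haveI : IsIntegralHom r := IsIntegralHom.SpecMap_iff.mpr (algebraMap_isIntegral_iff.mpr inferInstance)
  haveI : UniversallyInjective r := Groth.L05.CurveNorm.universallyInjective_ext Ω K
  haveI : Surjective r := ⟨fun z => ⟨closedPoint K, Subsingleton.elim _ _⟩⟩
  have hrs : r ≫ s = Spec.map (CommRingCat.ofHom (algebraMap RY K)) := by
    show r ≫ Spec.map _ ≫ (Spec (CommRingCat.of RY)).fromSpecResidueField y = _
    rw [← specMap_evalPt, ← Spec.map_comp, ← Spec.map_comp]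
    rfl
  let X₁ := pullback (pullback.snd h s) r
  let π : X₁ ⟶ pullback h s := pullback.fst (pullback.snd h s) r
  haveI : IsIntegralHom π := MorphismProperty.pullback_fst (P := @IsIntegralHom) _ _ inferInstance
  haveI : UniversallyInjective π := MorphismProperty.pullback_fst (P := @UniversallyInjective) _ _ inferInstance
  haveI : Surjective π := MorphismProperty.pullback_fst (P := @Surjective) _ _ inferInstance
  let ε : X₁ ≅ pullback h (r ≫ s) := pullbackLeftPullbackSndIso h s r
  haveI : Smooth (lineProj R) := by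
    rw [HasRingHomProperty.Spec_iff (P := @Smooth)]
    show (algebraMap R (Polynomial R)).Smooth
    exact RingHom.smooth_algebraMap.2 ⟨inferInstance, inferInstance⟩
  haveI hconn₁ : ConnectedSpace ↥X₁ := by
    haveI : ConnectedSpace ↥(pullback h (r ≫ s)) :=
      Acyclic0.shConnected_of_smooth (lineProj R) x RY RX φ hc K (r ≫ s)
    exact ε.inv.homeomorph.surjective.connectedSpace ε.inv.homeomorph.continuous
  have hconn : ConnectedSpace ↥(pullback h s) := π.surjective.connectedSpace π.continuous
  refine ⟨hconn.toNonempty, hconn, fun ℓ hℓ hℓL q hq1 _ => ?_⟩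
  have hu : IsUnit (ℓ : RY) := by simpa using (hL ℓ hℓL hℓ).map ρY
  have hS := subsingleton_pos (O := RY) K RX hℓ hp hK hu (q := q) hq1
  refine subsingleton_const_of_univHomeo π ℓ q (subsingleton_const_of_iso ε.symm ℓ q ?_)
  exact subsingleton_const_of_iso ((pullbackSpecIso RY RX K).symm ≪≫ pullback.congrHom rfl hrs.symm) ℓ q hS

end Groth.L27.SmoothLA
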