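import Groth.Agent.L27.SmoothLA.FieldExt
import Groth.Agent.L27.SmoothLA.BaseChange

/-! # Base change along field extensions -/

set_option autoImplicit false
set_option linter.style.haveILetI false
set_option linter.unusedSectionVars false
set_option backward.isDefEq.respectTransparency.types false

universe u

open CategoryTheory CategoryTheory.Limits AlgebraicGeometry Opposite

noncomputable section

namespace Groth.L27.SmoothLA

theorem baseChange_fieldExt {K L : Type u} [Field K] [Field L] (φ : K →+* L)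
    {T S T' S' : Scheme.{u}} (b : S ⟶ Spec (CommRingCat.of K)) (g : T ⟶ S) [QuasiCompact g] [QuasiSeparated g]
    (p : S' ⟶ S) (b' : S' ⟶ Spec (CommRingCat.of L)) (hS : IsPullback p b' b (Spec.map (CommRingCat.ofHom φ)))
    (g' : T' ⟶ S') (p' : T' ⟶ T) (hT : IsPullback p' g' g p)
    (F : EtCoh.Ab T) (hF : EtPBC.IsTorsionInvertibleOn (Spec (CommRingCat.of K)) F) (q : ℕ) :
    Nonempty ((EtCoh.pull p).obj ((EtCoh.Rpush g q).obj F) ≅ (EtCoh.Rpush g' q).obj ((EtCoh.pull p').obj F)) ∧
      IsIso (EtCoh.baseChange0 g p g' p' hT.w F) := by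
  letI : Algebra K L := φ.toAlgebra
  haveI := EtSite.preservesFiniteLimits_pull p
  haveI := EtSite.preservesFiniteLimits_pull p'
  let P := EtAcyc.primesInvertibleOn (Spec (CommRingCat.of K))
  have H : ∀ k, IsIso (EtBC.bcQ g p g' p' hT.w k F) := fun k =>
    ubc_fieldExt K L P k (fun ℓ hℓ hp => natCast_ne_zero_of_ne_ringChar hp (ne_ringChar_of_primesInvertible hℓ).2)
      p b' b hS.flip g g' p' hT F (isLTorsion_of_invertible (g ≫ b) hF) k le_rfl
  refine ⟨⟨@asIso _ _ _ _ _ (H q)⟩, ?_⟩
  haveI := H 0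
  exact CompTransfer.isIso_baseChange0_of_bcQ p g p' g' hT.w F

end Groth.L27.SmoothLA
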