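import Groth.Agent.L27.SmoothLA.Apps
import Groth.Agent.L05.Hensel.IntegralDomain
import Groth.Agent.L05.Henselization.UnibranchIff
import Groth.Agent.L05.StrictGalois.Union
import Groth.Agent.L20.WeaklyEtale
import Mathlib.RingTheory.TensorProduct.Basic
import Mathlib.AlgebraicGeometry.Pullbacks

/-! # The geometric fibres of the henselian line are acyclic -/

set_option autoImplicit false
set_option linter.style.haveILetI false
set_option linter.unusedSectionVars false
set_option backward.isDefEq.respectTransparency.types false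

universe u

open CategoryTheory CategoryTheory.Limits AlgebraicGeometry Opposite IsLocalRing
open scoped TensorProduct

noncomputable section

namespace Groth.L27.SmoothLA

theorem smooth_lineProj (R : Type u) [CommRing R] : Smooth (lineProj R) := by
  rw [HasRingHomProperty.Spec_iff (P := @Smooth)]
  show (algebraMap R (Polynomial R)).Smooth
  exact RingHom.smooth_algebraMap.2 ⟨inferInstance, inferInstance⟩

/-- An acyclic scheme over a purely inseparable extension of the ground field descends. -/
theorem isAcyclicScheme_of_univHomeo {L : Set ℕ} {n : ℕ} {U V : Scheme.{u}} (π : U ⟶ V) [IsIntegralHom π]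
    [UniversallyInjective π] [Surjective π] (h : EtAcyc.IsAcyclicSchemeN L n U) :
    EtAcyc.IsAcyclicSchemeN L n V := by
  obtain ⟨h1, h2, h3⟩ := h
  refine ⟨⟨π (Classical.arbitrary U)⟩, π.surjective.connectedSpace π.continuous, fun ℓ hℓ hℓL q hq hqn => ?_⟩
  haveI := h3 ℓ hℓ hℓL q hq hqn
  exact subsingleton_const_of_univHomeo π ℓ q inferInstance

/-- The geometric fibres of a henselian line over a henselian ring are acyclic. -/
theorem geomFibres_hensLine (A B : Type u) [CommRing A] [HenselianLocalRing A] [CommRing B] [HenselianLocalRing B]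
    [Algebra A B] [IsLocalHom (algebraMap A B)] [Algebra (Polynomial A) B] [IsScalarTower A (Polynomial A) B]
    [Algebra.WeaklyEtale (Polynomial A) B] (hres : ∀ b : B, ∃ a : A, b - algebraMap A B a ∈ maximalIdeal B)
    (L : Set ℕ) (hu : ∀ ℓ ∈ L, ℓ.Prime → IsUnit (ℓ : A)) (hL : ∃ ℓ ∈ L, ℓ.Prime) (n : ℕ)
    (Ω : Type u) [Field Ω] [IsSepClosed Ω] [Algebra A Ω] :
    EtAcyc.IsAcyclicSchemeN L n (pullback (Spec.map (CommRingCat.ofHom (algebraMap A B)))
      (Spec.map (CommRingCat.ofHom (algebraMap A Ω)))) := by
  obtain ⟨RY, _, _, _, _, hRY⟩ := L05.Henselization.exists_isStrictHenselization A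
  haveI : HenselianLocalRing RY := Hensel.IsStrictHenselization.henselian (R := A)
  haveI : IsSepClosed (ResidueField RY) :=
    (Hensel.IsStrictHenselization.isSepClosure (R := A) (S := RY)).sep_closed
  haveI : Algebra.IsIntegral A RY := L05.StrictGalois.isIntegral_strict (hS := hRY)
  haveI : Algebra.WeaklyEtale A RY :=
    L27.IndEtale.weaklyEtale A RY (L05.Henselization.isIndEtale_of_isStrictHenselization A RY)
  haveI : Module.Flat A RY := Algebra.WeaklyEtale.flat
  haveI : Module.FaithfullyFlat A RY := Module.FaithfullyFlat.of_flat_of_isLocalHom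
  -- the base change of the line
  let B' := B ⊗[A] RY
  letI : Algebra RY B' := Algebra.TensorProduct.rightAlgebra
  let iB : B →+* B' := Algebra.TensorProduct.includeLeftRingHom
  let iR : RY →+* B' := algebraMap RY B'
  have hiR : ∀ r, iR r = (1 : B) ⊗ₜ[A] r := fun r => rfl
  haveI : Algebra.IsIntegral B B' := inferInstance
  haveI : Nontrivial B' := inferInstance
  let J : Ideal B' := (maximalIdeal B).map iB ⊔ (maximalIdeal RY).map iR
  have hJ : ∀ M : Ideal B', M.IsMaximal → J ≤ M := by
    intro M hM
    have h1 : M.comap iB = maximalIdeal B := eq_maximalIdeal (Ideal.isMaximal_comap_of_isIntegral_of_isMaximal M)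
    have h2 : (M.comap iR).comap (algebraMap A RY) = maximalIdeal A := by
      rw [Ideal.comap_comap]
      have : iR.comp (algebraMap A RY) = iB.comp (algebraMap A B) := by
        ext a
        show (1 : B) ⊗ₜ[A] (algebraMap A RY a) = (algebraMap A B a) ⊗ₜ[A] (1 : RY)
        rw [Algebra.algebraMap_eq_smul_one, Algebra.algebraMap_eq_smul_one, TensorProduct.smul_tmul]
      rw [this, ← Ideal.comap_comap, h1]
      exact ((IsLocalRing.local_hom_TFAE (algebraMap A B)).out 0 4).1 ‹_›
    haveI : (M.comap iR).IsPrime := Ideal.comap_isPrime _ _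
    have h3 : M.comap iR = maximalIdeal RY := eq_maximalIdeal
      (Ideal.isMaximal_of_isIntegral_of_isMaximal_comap (R := A) _ (by rw [h2]; exact maximalIdeal.isMaximal A))
    exact sup_le (Ideal.map_le_iff_le_comap.2 h1.ge) (Ideal.map_le_iff_le_comap.2 h3.ge)
  have hgen : ∀ z : B', ∃ r : RY, z - iR r ∈ J := by
    intro z
    induction z using TensorProduct.induction_on with
    | zero => exact ⟨0, by simp⟩
    | tmul b r =>
      obtain ⟨a, ha⟩ := hres b
      refine ⟨a • r, ?_⟩
      have : b ⊗ₜ[A] r - iR (a • r) = iB (b - algebraMap A B a) * iR r := by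
        show b ⊗ₜ[A] r - (1 : B) ⊗ₜ[A] (a • r) = ((b - algebraMap A B a) ⊗ₜ[A] (1 : RY)) * ((1 : B) ⊗ₜ[A] r)
        rw [Algebra.TensorProduct.tmul_mul_tmul, mul_one, one_mul, TensorProduct.sub_tmul,
          Algebra.algebraMap_eq_smul_one, TensorProduct.smul_tmul]
      rw [this]
      exact J.mul_mem_right _ (Ideal.mem_sup_left (Ideal.mem_map_of_mem iB ha))
    | add x y hx hy =>
      obtain ⟨r, hr⟩ := hx
      obtain ⟨s, hs⟩ := hy
      refine ⟨r + s, ?_⟩
      rw [map_add, add_sub_add_comm]
      exact J.add_mem hr hs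
  have hmax : ∀ M : Ideal B', M.IsMaximal → M = J := by
    intro M hM
    refine le_antisymm (fun z hz => ?_) (hJ M hM)
    obtain ⟨r, hr⟩ := hgen z
    have hrM : iR r ∈ M := by simpa using M.sub_mem hz (hJ M hM hr)
    have hr' : r ∈ maximalIdeal RY := by
      by_contra hc
      exact hM.ne_top (M.eq_top_of_isUnit_mem hrM ((notMem_maximalIdeal.1 hc).map iR))
    have := J.add_mem hr (Ideal.mem_sup_right (Ideal.mem_map_of_mem iR hr'))
    simpa using this
  obtain ⟨M₀, hM₀⟩ := Ideal.exists_maximal B'
  haveI : IsLocalRing B' := IsLocalRing.of_unique_max_ideal ⟨M₀, hM₀, fun M hM => (hmax M hM).trans (hmax M₀ hM₀).symm⟩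
  haveI := L05.henselianLocalRing_of_integral (A := B) B'
  haveI hlocR : IsLocalHom (algebraMap RY B') := by
    refine ((IsLocalRing.local_hom_TFAE (algebraMap RY B')).out 0 2).2 ?_
    exact le_trans le_sup_right (hJ _ (maximalIdeal.isMaximal B'))
  let τ : ResidueField RY →+* ResidueField B' := ResidueField.map (algebraMap RY B')
  have hτ : Function.Surjective τ := fun w => by
    obtain ⟨z, rfl⟩ := IsLocalRing.residue_surjective w
    obtain ⟨r, hr⟩ := hgen z
    refine ⟨residue RY r, ?_⟩
    refine (ResidueField.map_residue _ _).trans ((Ideal.Quotient.eq).2 ?_).symm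
    exact hJ _ (maximalIdeal.isMaximal B') hr
  haveI : IsSepClosed (ResidueField B') := by
    letI : Algebra (ResidueField RY) (ResidueField B') := τ.toAlgebra
    haveI : Algebra.IsIntegral (ResidueField RY) (ResidueField B') :=
      algebraMap_isIntegral_iff.1 (RingHom.isIntegral_of_surjective _ hτ)
    haveI : Algebra.IsAlgebraic (ResidueField RY) (ResidueField B') := Algebra.IsIntegral.isAlgebraic
    exact L05.isSepClosed_of_algebraic (ResidueField RY) (ResidueField B')
  -- weakly étale over the line over the strict henselization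
  letI algX : Algebra (Polynomial RY) B' :=
    (Polynomial.eval₂RingHom iR (iB (algebraMap (Polynomial A) B Polynomial.X))).toAlgebra
  have hCX : ∀ r, algebraMap (Polynomial RY) B' (Polynomial.C r) = iR r := fun r => Polynomial.eval₂_C _ _
  haveI : Algebra.WeaklyEtale (Polynomial RY) B' := by
    letI : Algebra (Polynomial A) (Polynomial RY) := (Polynomial.mapRingHom (algebraMap A RY)).toAlgebra
    haveI := weaklyEtale_mapRingHom A RY
    haveI : Algebra.WeaklyEtale B B' := inferInstance
    haveI : Algebra.WeaklyEtale (Polynomial A) B' := Algebra.WeaklyEtale.trans (Polynomial A) B B'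
    haveI : IsScalarTower (Polynomial A) (Polynomial RY) B' := by
      refine IsScalarTower.of_algebraMap_eq' ?_
      refine Polynomial.ringHom_ext (fun a => ?_) ?_
      · show iB (algebraMap (Polynomial A) B (Polynomial.C a)) =
          algebraMap (Polynomial RY) B' ((Polynomial.C a).map (algebraMap A RY))
        rw [Polynomial.map_C, hCX, ← Polynomial.algebraMap_eq, ← IsScalarTower.algebraMap_apply]
        show (algebraMap A B a) ⊗ₜ[A] (1 : RY) = (1 : B) ⊗ₜ[A] (algebraMap A RY a)
        rw [Algebra.algebraMap_eq_smul_one, Algebra.algebraMap_eq_smul_one, TensorProduct.smul_tmul]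
      · show iB (algebraMap (Polynomial A) B Polynomial.X) =
          algebraMap (Polynomial RY) B' ((Polynomial.X : Polynomial A).map (algebraMap A RY))
        rw [Polynomial.map_X]
        exact (Polynomial.eval₂_X _ _).symm
    obtain ⟨h1, h2⟩ := Groth.L20.TorAmp.weaklyEtale_cancel (Polynomial A) (Polynomial RY) B'
    exact ⟨h1, h2⟩
  let b := Spec.map (CommRingCat.ofHom (algebraMap (Polynomial RY) B'))
  haveI : WeaklyEtale b := (L20.weaklyEtale_specMap_iff _).2 (by
    convert (inferInstance : Algebra.WeaklyEtale (Polynomial RY) B') using 1)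
  let h' := Spec.map (CommRingCat.ofHom (algebraMap RY B'))
  have hb : b ≫ lineProj RY = h' := by
    rw [← Spec.map_comp, ← CommRingCat.ofHom_comp]
    congr 2
    exact RingHom.ext hCX
  haveI := smooth_lineProj RY
  have hu' : ∀ ℓ ∈ L, ℓ.Prime → ∀ y : Spec (CommRingCat.of RY), (ℓ : (Spec (CommRingCat.of RY)).residueField y) ≠ 0 := by
    intro ℓ hℓ hp y h0
    have h1 := (((hu ℓ hℓ hp).map (algebraMap A RY)).map (evalPt RY y)).ne_zero
    rw [map_natCast, map_natCast] at h1
    exact h1 h0
  have hU : EtAcyc.IsULocAcyclicN h' L n := by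
    rw [← hb]
    exact ULA.isULocAcyclicN_weaklyEtale b (isULocAcyclicN_smooth _ L hu' n)
  haveI : WeaklyEtale (𝟙 (Spec (CommRingCat.of RY))) := inferInstance
  have hA : EtAcyc.IsAcyclicN h' L n := XV.acyclic_of_loc (lineProj RY) L n
    (isULocAcyclicN_smooth _ L hu' n (lineProj RY) (𝟙 _) (𝟙 _)
      (IsPullback.of_horiz_isIso ⟨(Category.id_comp _).trans (Category.comp_id _).symm⟩))
    RY B' (𝟙 _) b (by rw [Category.comp_id, hb])
  -- a point over the geometric point
  let C := Ω ⊗[A] RY
  haveI : Nontrivial C := inferInstance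
  haveI : Algebra.IsIntegral Ω C := inferInstance
  obtain ⟨M, hM⟩ := Ideal.exists_maximal C
  letI : Field (C ⧸ M) := Ideal.Quotient.field M
  let κ := C ⧸ M
  letI : Algebra RY κ := ((Ideal.Quotient.mk M).comp (Algebra.TensorProduct.includeRight (R := A) (A := Ω)).toRingHom).toAlgebra
  haveI : Algebra.IsIntegral Ω κ := inferInstance
  haveI : Algebra.IsAlgebraic Ω κ := Algebra.IsIntegral.isAlgebraic
  haveI : IsSepClosed κ := L05.isSepClosed_of_algebraic Ω κ
  haveI : IsPurelyInseparable Ω κ := L05.isPurelyInseparable_of_isSepClosed_base Ω κ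
  let hφ := Spec.map (CommRingCat.ofHom (algebraMap A B))
  let s := Spec.map (CommRingCat.ofHom (algebraMap A Ω))
  let r := Spec.map (CommRingCat.ofHom (algebraMap Ω κ))
  let a := Spec.map (CommRingCat.ofHom (algebraMap A RY))
  let t := Spec.map (CommRingCat.ofHom (algebraMap RY κ))
  have hrs : t ≫ a = r ≫ s := by
    rw [← Spec.map_comp, ← Spec.map_comp, ← CommRingCat.ofHom_comp, ← CommRingCat.ofHom_comp]
    congr 2
    ext x
    show Ideal.Quotient.mk M ((1 : Ω) ⊗ₜ[A] (algebraMap A RY x)) =
      Ideal.Quotient.mk M ((algebraMap A Ω x) ⊗ₜ[A] (1 : RY))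
    rw [Algebra.algebraMap_eq_smul_one, Algebra.algebraMap_eq_smul_one, TensorProduct.smul_tmul]
  have cB : IsPullback (Spec.map (CommRingCat.ofHom iB)) h' hφ a := by
    refine IsPullback.of_iso (IsPullback.of_hasPullback hφ a) (pullbackSpecIso A B RY) (Iso.refl _) (Iso.refl _) (Iso.refl _)
      ?_ ?_ (by simp [hφ]) (by simp [a])
    · rw [Iso.refl_hom, Category.comp_id]
      exact (Iso.inv_comp_eq _).1 (pullbackSpecIso_inv_fst A B RY)
    · rw [Iso.refl_hom, Category.comp_id]
      exact (Iso.inv_comp_eq _).1 (pullbackSpecIso_inv_snd A B RY)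
  haveI : IsIntegralHom r := IsIntegralHom.SpecMap_iff.mpr (algebraMap_isIntegral_iff.mpr inferInstance)
  haveI : UniversallyInjective r := L05.CurveNorm.universallyInjective_ext Ω κ
  haveI : Surjective r := L05.CurveNorm.surjective_ext Ω κ
  let X₁ := pullback (pullback.snd hφ s) r
  let π : X₁ ⟶ pullback hφ s := pullback.fst (pullback.snd hφ s) r
  haveI : IsIntegralHom π := MorphismProperty.pullback_fst (P := @IsIntegralHom) _ _ inferInstance
  haveI : UniversallyInjective π := MorphismProperty.pullback_fst (P := @UniversallyInjective) _ _ inferInstance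
  haveI : Surjective π := MorphismProperty.pullback_fst (P := @Surjective) _ _ inferInstance
  refine isAcyclicScheme_of_univHomeo π (XV.isAcyclicScheme_of_iso
    ((pullbackLeftPullbackSndIso hφ s r) ≪≫ pullback.congrHom rfl hrs.symm).hom ?_)
  have hfib := ULA.isAcyclicScheme_fibre h' hU hA κ hL
  exact XV.isAcyclicScheme_of_iso
    (((IsPullback.of_hasPullback h' t).paste_horiz cB).isoPullback.inv) hfib

end Groth.L27.SmoothLA
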