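import Groth.Agent.L27.SmoothLA.HensLine
import Groth.Agent.L20.WeaklyEtaleStalk
import Mathlib.RingTheory.Localization.AtPrime.Basic
import Mathlib.RingTheory.Etale.Basic

/-! # The henselization of the affine line at the origin of the closed fibre -/

set_option autoImplicit false
set_option linter.style.haveILetI false
set_option linter.unusedSectionVars false
set_option backward.isDefEq.respectTransparency.types false

universe u

open CategoryTheory CategoryTheory.Limits AlgebraicGeometry Opposite IsLocalRing

noncomputable section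

namespace Groth.L27.SmoothLA

theorem geomFibres_henselization_line (A : Type u) [CommRing A] [HenselianLocalRing A]
    (P : Ideal (Polynomial A)) (hP : P = (maximalIdeal A).map Polynomial.C ⊔ Ideal.span {Polynomial.X})
    [P.IsPrime] (B : Type u) [CommRing B] [IsLocalRing B] [Algebra (Localization.AtPrime P) B]
    [IsLocalHom (algebraMap (Localization.AtPrime P) B)] [Hensel.IsHenselization (Localization.AtPrime P) B]
    (φ : A →+* B) (hφ : φ = (algebraMap (Localization.AtPrime P) B).comp
      ((algebraMap (Polynomial A) (Localization.AtPrime P)).comp Polynomial.C)) (n : ℕ)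
    (y : Spec (CommRingCat.of A)) (Ω : Type u) [Field Ω] [IsSepClosed Ω]
    [Algebra ((Spec (CommRingCat.of A)).residueField y) Ω] :
    EtAcyc.IsAcyclicSchemeN {ℓ | ℓ.Prime ∧ (ℓ : ResidueField A) ≠ 0} n
      (pullback (Spec.map (CommRingCat.ofHom φ)) (EtAcyc.geomPt (Spec (CommRingCat.of A)) y Ω)) := by
  let R := Localization.AtPrime P
  haveI : HenselianLocalRing B := Hensel.IsHenselization.henselian (R := R)
  letI : Algebra (Polynomial A) B := ((algebraMap R B).comp (algebraMap (Polynomial A) R)).toAlgebra
  haveI : IsScalarTower (Polynomial A) R B := IsScalarTower.of_algebraMap_eq' rfl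
  letI : Algebra A B := φ.toAlgebra
  haveI : IsScalarTower A (Polynomial A) B := IsScalarTower.of_algebraMap_eq' hφ
  haveI : Algebra.WeaklyEtale R B := L05.Henselization.Branches.weaklyEtale_hens
  haveI : Algebra.WeaklyEtale (Polynomial A) R := Groth.L20.weaklyEtale_isLocalization P.primeCompl R
  haveI : Algebra.WeaklyEtale (Polynomial A) B := Algebra.WeaklyEtale.trans (Polynomial A) R B
  have hev : ∀ p : Polynomial A, p - Polynomial.C (p.eval 0) ∈ P := by
    intro p
    rw [hP]
    refine Ideal.mem_sup_right (Ideal.mem_span_singleton.2 ?_)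
    exact Polynomial.X_dvd_iff.2 (by simp [Polynomial.coeff_zero_eq_eval_zero])
  have hC : ∀ a ∈ maximalIdeal A, Polynomial.C a ∈ P := fun a ha => by
    rw [hP]
    exact Ideal.mem_sup_left (Ideal.mem_map_of_mem _ ha)
  have hm : ∀ p ∈ P, algebraMap (Polynomial A) B p ∈ maximalIdeal B := fun p hp => by
    refine (IsLocalRing.mem_maximalIdeal _).2 fun hu => ?_
    exact (IsLocalization.AtPrime.to_map_mem_maximal_iff R P p).2 hp
      |> fun h => (IsLocalRing.mem_maximalIdeal _).1 h (IsUnit.of_map (algebraMap R B) _ hu)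
  haveI : IsLocalHom (algebraMap A B) := ⟨fun a ha => by
    by_contra h
    refine (IsLocalRing.mem_maximalIdeal _).1 (hm _ (hC a h)) ?_
    rwa [← Polynomial.algebraMap_eq, ← IsScalarTower.algebraMap_apply]⟩
  have hres : ∀ b : B, ∃ a : A, b - algebraMap A B a ∈ maximalIdeal B := by
    intro b
    obtain ⟨z, hz⟩ := L05.Henselization.Branches.residue_surjective_hens (R := R) b
    obtain ⟨p, q, hpq⟩ := IsLocalization.exists_mk'_eq P.primeCompl z
    have hq : IsUnit ((q : Polynomial A).eval 0) := by
      by_contra h
      exact q.2 (by simpa using P.add_mem (hev q) (hC _ h))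
    refine ⟨p.eval 0 * ↑hq.unit⁻¹, ?_⟩
    have hqB : IsUnit (algebraMap (Polynomial A) B (q : Polynomial A)) :=
      (IsLocalization.map_units R q).map (algebraMap R B)
    have key : algebraMap (Polynomial A) B p -
        algebraMap (Polynomial A) B q * algebraMap A B (p.eval 0 * ↑hq.unit⁻¹) ∈ maximalIdeal B := by
      rw [IsScalarTower.algebraMap_apply A (Polynomial A) B, ← map_mul, ← map_sub]
      refine hm _ ?_
      have e : p - (q : Polynomial A) * Polynomial.C (p.eval 0 * ↑hq.unit⁻¹) =
          (p - Polynomial.C (p.eval 0)) -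
            ((q : Polynomial A) - Polynomial.C ((q : Polynomial A).eval 0)) * Polynomial.C (p.eval 0 * ↑hq.unit⁻¹) := by
        rw [sub_mul, ← Polynomial.C_mul, mul_left_comm, IsUnit.mul_val_inv, mul_one]
        ring
      rw [show algebraMap A (Polynomial A) = Polynomial.C from rfl, e]
      exact P.sub_mem (hev p) (P.mul_mem_right _ (hev _))
    have hzp : algebraMap (Polynomial A) B q * algebraMap R B z = algebraMap (Polynomial A) B p := by
      rw [IsScalarTower.algebraMap_apply (Polynomial A) R B, IsScalarTower.algebraMap_apply (Polynomial A) R B,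
        ← map_mul, ← hpq, IsLocalization.mk'_spec']
    have h2 : algebraMap (Polynomial A) B q * (algebraMap R B z - algebraMap A B (p.eval 0 * ↑hq.unit⁻¹)) ∈
        maximalIdeal B := by
      rwa [mul_sub, hzp]
    have h3 := (Ideal.unit_mul_mem_iff_mem _ hqB).1 h2
    simpa using (maximalIdeal B).add_mem hz h3
  letI : Algebra A Ω := ((algebraMap ((Spec (CommRingCat.of A)).residueField y) Ω).comp (evalPt A y)).toAlgebra
  have hs : EtAcyc.geomPt (Spec (CommRingCat.of A)) y Ω = Spec.map (CommRingCat.ofHom (algebraMap A Ω)) := by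
    show Spec.map _ ≫ (Spec (CommRingCat.of A)).fromSpecResidueField y = _
    rw [← specMap_evalPt, ← Spec.map_comp]
    rfl
  obtain ⟨l, hl, hln⟩ : ∃ l : ℕ, l.Prime ∧ (l : ResidueField A) ≠ 0 := by
    rcases eq_or_ne (2 : ResidueField A) 0 with h2 | h2
    · exact ⟨3, Nat.prime_three, fun h3 => one_ne_zero (α := ResidueField A) (by
        push_cast at h3; linear_combination h3 - h2)⟩
    · exact ⟨2, Nat.prime_two, by exact_mod_cast h2⟩
  refine XV.isAcyclicScheme_of_iso (pullback.congrHom rfl hs).hom ?_
  exact geomFibres_hensLine A B hres {ℓ | ℓ.Prime ∧ (ℓ : ResidueField A) ≠ 0}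
    (fun ℓ hℓ _ => (residue_ne_zero_iff_isUnit _).1 (by rw [map_natCast]; exact hℓ.2))
    ⟨l, ⟨hl, hln⟩, hl⟩ n Ω

end Groth.L27.SmoothLA
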