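import Groth.Agent.L27.SmoothLA.LineCd
import Groth.Agent.L27.PBC.JacobsonZero
import Groth.Agent.L28.DimFun.Basic
import Mathlib.RingTheory.Jacobson.Ring

/-! # Acyclicity of the fibres of the affine line over a strictly local base -/

set_option autoImplicit false
set_option linter.style.haveILetI false
set_option linter.unusedSectionVars false
set_option backward.isDefEq.respectTransparency.types false

universe u

open CategoryTheory CategoryTheory.Limits AlgebraicGeometry Opposite IsLocalRing
open scoped TensorProduct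

noncomputable section

namespace Groth.L27.SmoothLA

open Groth.L28

theorem eq_bot_of_isPrime' {F : Type u} [Field F] (I : Ideal F) [I.IsPrime] : I = ⊥ :=
  (Ideal.eq_bot_or_top I).resolve_right ‹I.IsPrime›.ne_top

/-- The point under the geometric point of a local algebra. -/
theorem bPt_asIdeal (B T : Type u) [CommRing B] [CommRing T] [IsLocalRing T] [Algebra B T]
    [IsSepClosed (ResidueField T)] :
    (show PrimeSpectrum B from
      (StalkRpush.bPt B (𝟙 (Spec (CommRingCat.of B))) (ResidueField T)).base default).asIdeal = ctr B T := by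
  show ((show PrimeSpectrum (ResidueField T) from (default : Spec (CommRingCat.of (ResidueField T))))).asIdeal.comap
    (algebraMap B (ResidueField T)) = _
  rw [eq_bot_of_isPrime' (show PrimeSpectrum (ResidueField T) from
    (default : Spec (CommRingCat.of (ResidueField T)))).asIdeal]
  ext z
  rw [Ideal.mem_comap, Ideal.mem_bot, Ideal.mem_comap, ← residue_eq_zero_iff]
  rfl

variable {O : Type u} [CommRing O] (K : Type u) [Field K] [Algebra O K]
  (S : Type u) [CommRing S] [Algebra (Polynomial O) S] [Algebra O S] [IsScalarTower O (Polynomial O) S]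
  [HenselianLocalRing S] [IsSepClosed (ResidueField S)] [Algebra.WeaklyEtale (Polynomial O) S]
  [IsAlgClosed K] {ℓ : ℕ} (hℓ : ℓ.Prime)

variable [HenselianLocalRing O] [IsSepClosed (ResidueField O)]

include hℓ in
/-- Positive degrees. -/
theorem subsingleton_pos (hp : (ctr (Polynomial O) S).comap Polynomial.C = maximalIdeal O)
    (hK : ∀ x : K, ∃ p : Polynomial O, p.map (algebraMap O K) ≠ 0 ∧ Polynomial.aeval x p = 0)
    (hu : IsUnit (ℓ : O)) {q : ℕ} (hq : 0 < q) :
    Subsingleton (EtCoh.H (Spec (CommRingCat.of (S ⊗[O] K))) (EtCoh.const _ (ZMod ℓ)) q) := by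
  rcases Nat.lt_or_ge 1 q with h | h
  · exact subsingleton_ge_two K S hℓ h
  obtain rfl : q = 1 := by omega
  let k := ResidueField O
  let red : Polynomial O →+* Polynomial k := Polynomial.mapRingHom (residue O)
  have hred : Function.Surjective red := Polynomial.map_surjective _ residue_surjective
  let i : Spec (CommRingCat.of (Polynomial k)) ⟶ Spec (CommRingCat.of (Polynomial O)) :=
    Spec.map (CommRingCat.ofHom red)
  let F := (EtCoh.Rpush (lineMap (O := O) K) 1).obj (EtCoh.const _ (ZMod ℓ))
  haveI : IsJacobsonRing (Polynomial k) := inferInstance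
  have hzero : IsZero ((EtCoh.pull i).obj F) := by
    refine PBC.isZero_of_closed_stalks _ fun c hc => ?_
    obtain ⟨Ω, _, _, ξ, hξ⟩ := EtSite.exists_geometric_point c
    refine ⟨Ω, inferInstance, inferInstance, ξ, hξ, IsZero.of_iso ?_ ((EtSite.stalkPullIso i ξ).app F)⟩
    let x : Ideal (Polynomial O) := c.asIdeal.comap red
    haveI hcmax : c.asIdeal.IsMaximal := (PrimeSpectrum.isClosed_singleton_iff_isMaximal c).1 hc
    haveI hxmax : x.IsMaximal := Ideal.comap_isMaximal_of_surjective red hred
    obtain ⟨T, iT, iH, iA, iSep, iW, hctr⟩ := exists_strictLoc (Polynomial O) x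
    haveI := iSep
    haveI := iW
    letI : Algebra O T := ((algebraMap (Polynomial O) T).comp Polynomial.C).toAlgebra
    haveI : IsScalarTower O (Polynomial O) T := IsScalarTower.of_algebraMap_eq' rfl
    have hxC : x.comap Polynomial.C = maximalIdeal O := by
      refine ((maximalIdeal.isMaximal O).eq_of_le (Ideal.comap_ne_top _ hxmax.ne_top) fun r hr => ?_).symm
      show red (Polynomial.C r) ∈ c.asIdeal
      rw [Polynomial.coe_mapRingHom, Polynomial.map_C, (residue_eq_zero_iff r).2 hr, map_zero]
      exact zero_mem _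
    have h1 := subsingleton_H1_line (O := O) (S := T) (K := K) (by rw [hctr]; exact hxmax) (by rw [hctr]; exact hxC)
      hK hℓ hu
    refine DimFun.isZero_stalk_of_base _ (ξ ≫ i) ?_ ((isZero_stalk_iff K T ℓ 1).2 h1)
    refine (Scheme.Hom.comp_apply _ _ _).trans ((congrArg i hξ).trans ?_)
    refine PrimeSpectrum.ext ?_
    exact ((bPt_asIdeal (Polynomial O) T).trans hctr).symm
  refine (isZero_stalk_iff K S ℓ 1).1 ?_
  have hle : RingHom.ker red ≤ ctr (Polynomial O) S := fun f hf => by
    have hC : ∀ r ∈ maximalIdeal O, Polynomial.C r ∈ ctr (Polynomial O) S := fun r hr => by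
      rw [← Ideal.mem_comap, hp]; exact hr
    rw [RingHom.mem_ker, Polynomial.coe_mapRingHom] at hf
    rw [← Polynomial.sum_monomial_eq f]
    refine Submodule.sum_mem _ fun j _ => ?_
    show Polynomial.monomial j (f.coeff j) ∈ _
    rw [← Polynomial.C_mul_X_pow_eq_monomial]
    refine Ideal.mul_mem_right _ _ (hC _ ((residue_eq_zero_iff _).1 ?_))
    rw [← Polynomial.coeff_map, hf, Polynomial.coeff_zero]
  let P : Ideal (Polynomial k) := (ctr (Polynomial O) S).map red
  haveI : P.IsPrime := Ideal.map_isPrime_of_surjective hred hle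
  let c : Spec (CommRingCat.of (Polynomial k)) := ⟨P, inferInstance⟩
  obtain ⟨Ω, _, _, ξ, hξ⟩ := EtSite.exists_geometric_point c
  have h2 : IsZero ((EtCoh.stalk (ξ ≫ i)).obj F) :=
    ((EtCoh.stalk ξ).map_isZero hzero).of_iso ((EtSite.stalkPullIso i ξ).app F).symm
  refine DimFun.isZero_stalk_of_base (ξ ≫ i) _ ?_ h2
  refine Eq.trans ?_ ((Scheme.Hom.comp_apply _ _ _).trans (congrArg i hξ)).symm
  refine PrimeSpectrum.ext ?_
  show _ = P.comap red
  rw [Ideal.comap_map_of_surjective red hred, ← RingHom.ker_eq_comap_bot, sup_eq_left.2 hle]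
  exact bPt_asIdeal (Polynomial O) S

end Groth.L27.SmoothLA
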