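import Groth.Agent.L27.SmoothLA.Reduce
import Groth.Agent.L27.FinBC.Local
import Groth.Agent.L27.StalkRpush.Final

/-! # The higher direct images along the line of a geometric fibre -/

set_option autoImplicit false
set_option linter.style.haveILetI false
set_option linter.unusedSectionVars false
set_option backward.isDefEq.respectTransparency.types false

universe u

open CategoryTheory CategoryTheory.Limits AlgebraicGeometry Opposite IsLocalRing
open scoped TensorProduct

noncomputable section

namespace Groth.L27.SmoothLA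

/-- Constant cohomology and universal homeomorphisms. -/
theorem subsingleton_const_of_univHomeo {Y X : Scheme.{u}} (π : Y ⟶ X) [IsIntegralHom π] [UniversallyInjective π]
    [Surjective π] (n q : ℕ) (h : Subsingleton (EtCoh.H Y (EtCoh.const Y (ZMod n)) q)) :
    Subsingleton (EtCoh.H X (EtCoh.const X (ZMod n)) q) := by
  haveI := EtSite.preservesFiniteLimits_pull π
  haveI : Subsingleton ((EtCoh.HF Y q).obj (EtCoh.const Y (ZMod n))) := h
  haveI : Subsingleton ((EtCoh.HF Y q).obj ((EtCoh.pull π).obj (EtCoh.const X (ZMod n)))) :=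
    (ConcreteCategory.bijective_of_isIso ((EtCoh.HF Y q).map (EtCore.pullConst π (ZMod n)).hom)).1.subsingleton
  exact @Function.Injective.subsingleton _ _ _ (FinBC.bijective_Hpull_univHomeo π (EtCoh.const X (ZMod n)) q).1 this

theorem subsingleton_const_of_iso {Y X : Scheme.{u}} (e : Y ≅ X) (n q : ℕ)
    (h : Subsingleton (EtCoh.H Y (EtCoh.const Y (ZMod n)) q)) :
    Subsingleton (EtCoh.H X (EtCoh.const X (ZMod n)) q) :=
  subsingleton_const_of_univHomeo e.hom n q h

variable {O : Type u} [CommRing O] (K : Type u) [Field K] [Algebra O K]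

/-- The line of the geometric fibre over the line. -/
def lineMap : Spec (CommRingCat.of (Polynomial K)) ⟶ Spec (CommRingCat.of (Polynomial O)) :=
  Spec.map (CommRingCat.ofHom (Polynomial.mapRingHom (algebraMap O K)))

instance : QuasiCompact (lineMap (O := O) K) := by unfold lineMap; infer_instance
instance : QuasiSeparated (lineMap (O := O) K) := by unfold lineMap; infer_instance

variable (S : Type u) [CommRing S] [Algebra (Polynomial O) S] [Algebra O S] [IsScalarTower O (Polynomial O) S]

/-- The base change to an algebra over the line. -/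
theorem nonempty_pullback_lineMap :
    Nonempty (pullback (lineMap (O := O) K) (StalkRpush.toBase (Polynomial O) S ≫ 𝟙 _) ≅
      Spec (CommRingCat.of (S ⊗[O] K))) := by
  letI alg : Algebra (Polynomial O) (Polynomial K) := (Polynomial.mapRingHom (algebraMap O K)).toAlgebra
  let e0 : Polynomial O ⊗[O] K ≃+* Polynomial K :=
    (Algebra.TensorProduct.comm O (Polynomial O) K).toRingEquiv.trans (polyEquivTensor O K).symm.toRingEquiv
  let e : Polynomial O ⊗[O] K ≃ₐ[Polynomial O] Polynomial K :=
    { e0 with
      commutes' := fun p => by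
        show (polyEquivTensor O K).symm ((1 : K) ⊗ₜ p) = p.map (algebraMap O K)
        rw [polyEquivTensor_symm_apply_tmul_eq_smul, one_smul] }
  let e1 : Polynomial K ⊗[Polynomial O] S ≃+* S ⊗[O] K :=
    (((Algebra.TensorProduct.congr e.symm (AlgEquiv.refl (A₁ := S))).toRingEquiv).trans
      (Algebra.TensorProduct.comm (Polynomial O) (Polynomial O ⊗[O] K) S).toRingEquiv).trans
      (Algebra.TensorProduct.cancelBaseChange O (Polynomial O) S S K).toRingEquiv
  exact ⟨pullback.congrHom rfl (Category.comp_id _) ≪≫ pullbackSpecIso (Polynomial O) (Polynomial K) S ≪≫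
    (Scheme.Spec.mapIso e1.toCommRingCatIso.symm.op :)⟩

variable [HenselianLocalRing S] [IsSepClosed (ResidueField S)] [Algebra.WeaklyEtale (Polynomial O) S]

theorem exists_col_equiv :
    ∃ e : Groth.L05.Henselization.Col (Polynomial O) (ResidueField S) ≃ₐ[Polynomial O] S, True := by
  letI := locAlgebra (B := Polynomial O) (S := S)
  haveI := isStrict_loc (B := Polynomial O) (S := S)
  haveI := isLocalHom_loc (B := Polynomial O) (S := S)
  obtain ⟨e, -⟩ := StalkRpush.exists_algEquiv (Polynomial O) (ctr (Polynomial O) S)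
    (Localization.AtPrime (ctr (Polynomial O) S)) S
  exact ⟨e, trivial⟩

/-- The stalks of the higher direct images are the cohomology of the fibres. -/
theorem isZero_stalk_iff (n q : ℕ) :
    IsZero ((EtCoh.stalk (StalkRpush.bPt (Polynomial O) (𝟙 (Spec (CommRingCat.of (Polynomial O)))) (ResidueField S))).obj
        ((EtCoh.Rpush (lineMap (O := O) K) q).obj (EtCoh.const _ (ZMod n)))) ↔
      Subsingleton (EtCoh.H (Spec (CommRingCat.of (S ⊗[O] K))) (EtCoh.const _ (ZMod n)) q) := by
  obtain ⟨e, -⟩ := exists_col_equiv (O := O) S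
  obtain ⟨E⟩ := StalkRpush.nonempty_natIso_chart (lineMap (O := O) K) (Polynomial O) (𝟙 _) (ResidueField S) S e q
    _ rfl _ rfl
  obtain ⟨ε⟩ := nonempty_pullback_lineMap (O := O) K S
  let P := pullback (lineMap (O := O) K) (StalkRpush.toBase (Polynomial O) S ≫ 𝟙 _)
  let p₁ := pullback.fst (lineMap (O := O) K) (StalkRpush.toBase (Polynomial O) S ≫ 𝟙 _)
  constructor
  · intro h
    haveI : Subsingleton ((EtCoh.HF P q).obj ((EtCoh.pull p₁).obj (EtCoh.const _ (ZMod n)))) :=
      AddCommGrpCat.subsingleton_of_isZero (h.of_iso (E.app _).symm)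
    exact subsingleton_const_of_iso ε n q
      (ConcreteCategory.bijective_of_isIso ((EtCoh.HF P q).map (EtCore.pullConst p₁ (ZMod n)).hom)).2.subsingleton
  · intro h
    haveI : Subsingleton ((EtCoh.HF P q).obj (EtCoh.const P (ZMod n))) :=
      subsingleton_const_of_iso ε.symm n q h
    haveI : Subsingleton ((EtCoh.HF P q).obj ((EtCoh.pull p₁).obj (EtCoh.const _ (ZMod n)))) :=
      (ConcreteCategory.bijective_of_isIso ((EtCoh.HF P q).map (EtCore.pullConst p₁ (ZMod n)).hom)).1.subsingleton
    exact (@AddCommGrpCat.isZero_of_subsingleton ((EtCoh.HF P q).obj ((EtCoh.pull p₁).obj (EtCoh.const _ (ZMod n)))) this).of_iso (E.app _)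

end Groth.L27.SmoothLA
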