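import Groth.Agent.L27.SmoothLA.LineBase
import Groth.Agent.L28.AffLef.Main
import Groth.Agent.L28.DimFun.Basic

/-! # Degrees at least two on the fibres of the line -/

set_option autoImplicit false
set_option linter.style.haveILetI false
set_option linter.unusedSectionVars false
set_option backward.isDefEq.respectTransparency.types false

universe u

open CategoryTheory CategoryTheory.Limits AlgebraicGeometry Opposite IsLocalRing
open scoped TensorProduct

noncomputable section

namespace Groth.L27.SmoothLA

open Groth.L28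

variable {O : Type u} [CommRing O] (K : Type u) [Field K] [Algebra O K]
  (S : Type u) [CommRing S] [Algebra (Polynomial O) S] [Algebra O S] [IsScalarTower O (Polynomial O) S]
  [HenselianLocalRing S] [IsSepClosed (ResidueField S)] [Algebra.WeaklyEtale (Polynomial O) S]

variable [IsAlgClosed K] {ℓ : ℕ} (hℓ : ℓ.Prime)

include hℓ in
/-- Degrees at least two. -/
theorem subsingleton_ge_two {q : ℕ} (hq : 1 < q) :
    Subsingleton (EtCoh.H (Spec (CommRingCat.of (S ⊗[O] K))) (EtCoh.const _ (ZMod ℓ)) q) := by
  obtain ⟨e, -⟩ := exists_col_equiv (O := O) S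
  obtain ⟨ε⟩ := nonempty_pullback_lineMap (O := O) K S
  let B := Polynomial O
  let L := ResidueField S
  let f := lineMap (O := O) K
  refine subsingleton_const_of_iso ε ℓ q ?_
  refine AffLef.cdLE_of_stages f B (𝟙 _) L S e (ℓ := ℓ) (d := 1) (fun i => ?_) _ ?_ q hq
  · have hK : FieldTower.CdLE ℓ (Spec (CommRingCat.of K)) 0 := fun G _ r hr => by
      obtain ⟨i, rfl⟩ : ∃ i, r = i + 1 := ⟨r - 1, by omega⟩
      exact CurveCd.subsingleton_H_sepClosed _ G i
    haveI : IsAffineHom f := isAffineHom_of_isAffine _
    let τ := StalkRpush.tt f B (𝟙 _) L i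
    haveI : IsAffine ((StalkRpush.D f B (𝟙 (Spec (CommRingCat.of B))) L).obj i) := by
      show IsAffine (pullback ((StalkRpush.nb B (𝟙 _) L).obj i).hom f)
      haveI : IsAffine ((𝟭 Scheme.{u}).obj ((StalkRpush.nb B (𝟙 (Spec (CommRingCat.of B))) L).obj i).left) :=
        inferInstanceAs (IsAffine (Spec (CommRingCat.of i.unop.R)))
      exact @isAffine_of_isAffineHom _ _ (pullback.fst ((StalkRpush.nb B (𝟙 _) L).obj i).hom f)
        (MorphismProperty.pullback_fst (P := @IsAffineHom) _ f inferInstance) inferInstance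
    haveI : AlgebraicGeometry.Etale τ := inferInstanceAs (AlgebraicGeometry.Etale (StalkRpush.tt f B (𝟙 _) L i))
    haveI : IsNoetherianRing (Polynomial K) := inferInstance
    let sk : Spec (CommRingCat.of (Polynomial K)) ⟶ Spec (CommRingCat.of K) :=
      Spec.map (CommRingCat.ofHom (algebraMap K (Polynomial K)))
    haveI : LocallyOfFiniteType sk := by
      rw [HasRingHomProperty.Spec_iff (P := @LocallyOfFiniteType)]
      exact RingHom.finiteType_algebraMap.mpr inferInstance
    haveI : LocallyOfFiniteType (τ ≫ sk) :=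
      MorphismProperty.comp_mem @LocallyOfFiniteType τ sk inferInstance inferInstance
    have hd : topologicalKrullDim (Spec (CommRingCat.of (Polynomial K))) ≤ (1 : ℕ) := by
      refine (PrimeSpectrum.topologicalKrullDim_eq_ringKrullDim (Polynomial K)).trans_le ?_
      rw [Polynomial.ringKrullDim_of_isNoetherianRing, ringKrullDim_eq_zero_of_field]
      norm_num
    have := AffLef.affBound hℓ 1 K 0 hK _ (τ ≫ sk) (AffLef.topologicalKrullDim_le_of_etale τ hd)
    rwa [zero_add] at this
  · refine DerBC.Killed.isLTorsion ⟨ℓ, ⟨hℓ.pos, fun p hp hd => (Nat.prime_dvd_prime_iff_eq hp hℓ).1 hd⟩, ?_⟩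
    haveI : NeZero ℓ := ⟨hℓ.ne_zero⟩
    have h0 := AffineEfface.nsmul_id_const (StalkRpush.Xbar f B (𝟙 _) S) (ZMod ℓ)
    rwa [Nat.card_zmod] at h0

end Groth.L27.SmoothLA
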