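import Groth.Agent.L27.SmoothLA.ModSmooth
import Groth.Agent.L27.SmoothLA.AffineAcyclic

/-! # Homotopy invariance for unbounded complexes of modules -/

universe u

open CategoryTheory CategoryTheory.Limits AlgebraicGeometry Opposite CategoryTheory.Abelian CochainComplex
open Groth.L10.EtLocalBC (unitC bijective_homotopy_transpose)

attribute [local instance] HasDerivedCategory.standard

set_option autoImplicit false
set_option backward.defeqAttrib.useBackward true
set_option backward.isDefEq.respectTransparency false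
set_option backward.isDefEq.respectTransparency.types false
set_option linter.style.haveILetI false
set_option linter.unusedSectionVars false
set_option maxHeartbeats 800000
set_option synthInstance.maxHeartbeats 100000

noncomputable section

namespace Groth.L27.SmoothLA.ModA

open Groth.L27.PBC
open Groth.L27.PBC.ModU (U Acyc acyc_injective)

variable {X S : Scheme.{u}} {Λ : Type (u + 1)} [CommRing Λ]

/-- Acyclicity of affine space with an arbitrary finite index type. -/
theorem acyclic_affineSpace' (Y : Scheme.{u}) (ι : Type u) [Finite ι] (n : ℕ) (hn : IsUnit (n : Γ(Y, ⊤)))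
    (F : EtCoh.Ab Y) (hF : EtCoh.KilledBy n F) :
    IsIso ((EtCoh.pullPushAdj (𝔸(ι; Y) ↘ Y)).unit.app F) ∧
      ∀ q : ℕ, 0 < q → IsZero ((EtCoh.Rpush (𝔸(ι; Y) ↘ Y) q).obj ((EtCoh.pull (𝔸(ι; Y) ↘ Y)).obj F)) := by
  let p := 𝔸(ι; Y) ↘ Y
  let L := EtAcyc.primesInvertibleOn Y
  haveI : IsAffineHom p := inferInstance
  haveI : Smooth p := SecChart.smooth_over _ _
  have hFL : EtAcyc.IsLTorsion L F := isLTorsion_of_invertible (𝟙 Y) fun U s x =>
    ⟨U, 𝟙 U, n, ⟨x, rfl⟩, hn, hF U _⟩
  by_cases hp : ∃ ℓ ∈ L, ℓ.Prime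
  · have hL : ∀ ℓ ∈ L, ℓ.Prime → ∀ y : Y, (ℓ : Y.residueField y) ≠ 0 := fun ℓ hℓ _ => hℓ.2
    obtain ⟨m, ⟨e⟩⟩ := Finite.exists_equiv_fin ι
    let e' : ι ≃ ULift.{u} (Fin m) := e.trans Equiv.ulift.symm
    let r : 𝔸(ι; Y) ≅ 𝔸(ULift.{u} (Fin m); Y) :=
      { hom := AffineSpace.reindex e'.symm Y
        inv := AffineSpace.reindex e' Y
        hom_inv_id := AffineSpace.hom_ext (by simp) (fun i => by simp)
        inv_hom_id := AffineSpace.hom_ext (by simp) (fun i => by simp) }
    have hg : ∀ q, EtAcyc.GeomFibresAcyclicN L q p := fun q y Ω _ _ _ _ => by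
      haveI : IsIso r.hom := r.isIso_hom
      exact XV.isAcyclicScheme_of_iso (pullback.map p (EtAcyc.geomPt Y y Ω) (𝔸(ULift.{u} (Fin m); Y) ↘ Y)
        (EtAcyc.geomPt Y y Ω) r.hom (𝟙 _) (𝟙 _) ((Category.comp_id _).trans (AffineSpace.reindex_over _ _).symm)
        ((Category.comp_id _).trans (Category.id_comp _).symm)) (geomFibres_affineSpace Y m L hp hL q y Ω)
    exact ⟨(unit_of_smooth_fibres p L hp hL 0 (hg 0) F hFL).1,
      fun q hq => (unit_of_smooth_fibres p L hp hL q (hg q) F hFL).2 q hq le_rfl⟩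
  · push Not at hp
    have hz := XV.isZero_of_no_prime hp hFL
    have hA := (EtCoh.pull p).map_isZero hz
    haveI : (EtCoh.push p).Additive := (EtCoh.pullPushAdj p).right_adjoint_additive
    exact ⟨⟨0, hz.eq_of_src _ _, ((EtCoh.push p).map_isZero hA).eq_of_src _ _⟩,
      fun q _ => (EtCoh.Rpush p q).map_isZero hA⟩

theorem killedBy_forget {n : ℕ} (hΛ : (n : Λ) = 0) (M : EtModW.Mod Λ X) :
    EtCoh.KilledBy n ((EtModD.forgetToAb Λ X).obj M) := by
  intro U y
  change ↥(M.obj.obj (op U)) at y
  show n • y = 0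
  rw [← Nat.cast_smul_eq_nsmul Λ n y, hΛ]
  exact zero_smul _ y

/-- A morphism of bijections on homs between quasi-isomorphic K-injective complexes. -/
theorem isIso_of_quasiIso {A : Type (u + 2)} [Category.{u + 1} A] [Abelian A] {I J : L10.KInjDerived.KI A}
    (θ : I.obj ⟶ J.obj) (hθ : HomotopyCategory.quasiIso A (ComplexShape.up ℤ) θ) : IsIso θ := by
  obtain ⟨g, hg⟩ := (L10.KInjDerived.precomp_bijective θ hθ I).2 (𝟙 _)
  change θ ≫ g = 𝟙 _ at hg
  exact ⟨g, hg, (L10.KInjDerived.precomp_bijective θ hθ J).1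
    (show θ ≫ g ≫ θ = θ ≫ 𝟙 _ by rw [← Category.assoc, hg, Category.id_comp, Category.comp_id])⟩

variable (p : X ⟶ S) [QuasiCompact p] [QuasiSeparated p] [PreservesFiniteLimits (EtModW.pull Λ p)]
  [EtBC.HasRpushMod Λ p] [PreservesColimitsOfShape (Discrete ℕ) (EtBC.RpushModD Λ p)]

/-- Acyclicity of a morphism gives full faithfulness of the derived inverse image. -/
theorem fullyFaithful_pullModD
    (hunit : ∀ M : EtModW.Mod Λ S, IsIso ((EtSix.pullPushModAdj Λ p).unit.app M))
    (hacyc : ∀ M : EtModW.Mod Λ S, Acyc Λ p ((EtModW.pull Λ p).obj M)) :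
    (EtBC.pullModD Λ p).Full ∧ (EtBC.pullModD Λ p).Faithful := by
  haveI : PreservesFiniteColimits (EtModW.pull Λ p) :=
    haveI := (EtSix.pullPushModAdj Λ p).leftAdjoint_preservesColimits
    inferInstance
  have main : ∀ K L : EtModD.D Λ S, Function.Bijective
      ((EtBC.pullModD Λ p).map : (K ⟶ L) → _) := by
    intro K L
    obtain ⟨I, j, hI, hj, -⟩ := L10.KInjTransfer.exists_resolution.{u + 1} (DerivedCategory.Qh.objPreimage L).as
    let qS := HomotopyCategory.quotient (EtModW.Mod Λ S) (ComplexShape.up ℤ)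
    let qX := HomotopyCategory.quotient (EtModW.Mod Λ X) (ComplexShape.up ℤ)
    let A := DerivedCategory.Qh.objPreimage K
    let B := qS.obj I
    let eK : DerivedCategory.Qh.obj A ≅ K := DerivedCategory.Qh.objObjPreimageIso K
    let eL : DerivedCategory.Qh.obj B ≅ L :=
      haveI : IsIso (DerivedCategory.Qh.map (qS.map j)) :=
        Localization.inverts DerivedCategory.Qh (HomotopyCategory.quasiIso _ (ComplexShape.up ℤ)) _
          ((HomotopyCategory.quotient_map_mem_quasiIso_iff j).2 ((HomologicalComplex.mem_quasiIso_iff _).2 hj))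
      (asIso (DerivedCategory.Qh.map (qS.map j))).symm ≪≫ DerivedCategory.Qh.objObjPreimageIso L
    suffices h : Function.Bijective
        ((EtBC.pullModD Λ p).map : (DerivedCategory.Qh.obj A ⟶ DerivedCategory.Qh.obj B) → _) by
      have e : ((EtBC.pullModD Λ p).map : (K ⟶ L) → _) =
          ((EtBC.pullModD Λ p).mapIso eK).homCongr ((EtBC.pullModD Λ p).mapIso eL) ∘
            (EtBC.pullModD Λ p).map ∘ (eK.homCongr eL).symm := by
        funext x
        simp
      rw [e]
      exact (Equiv.bijective _).comp (h.comp (Equiv.bijective _))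
    let PI := ((EtModW.pull Λ p).mapHomologicalComplex (ComplexShape.up ℤ)).obj I
    obtain ⟨J, t, hJ, ht, -⟩ := L10.KInjTransfer.exists_resolution.{u + 1} PI
    haveI : IsIso (DerivedCategory.Qh.map (qX.map t)) :=
      Localization.inverts DerivedCategory.Qh (HomotopyCategory.quasiIso _ (ComplexShape.up ℤ)) _
        ((HomotopyCategory.quotient_map_mem_quasiIso_iff t).2 ((HomologicalComplex.mem_quasiIso_iff _).2 ht))
    let adj := EtSix.pullPushModAdj Λ p
    haveI : CochainComplex.IsKInjective (((EtModW.push Λ p).mapHomologicalComplex _).obj J) :=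
      L10.KInjTransfer.isKInjective_map adj J
    let θ : B ⟶ ((EtModW.push Λ p).mapHomotopyCategory _).obj (qX.obj J) :=
      qS.map (unitC adj I) ≫ ((EtModW.push Λ p).mapHomotopyCategory _).map (qX.map t)
    haveI : IsIso θ := by
      refine isIso_of_quasiIso (I := ⟨B, hI⟩) (J := ⟨_, this⟩) θ ?_
      haveI : IsIso (unitC adj I) :=
        haveI : ∀ m, IsIso ((unitC adj I).f m) := fun m => hunit (I.X m)
        HomologicalComplex.Hom.isIso_of_components _
      haveI h1 : IsIso ((U (Λ := Λ) p).app (qX.obj PI)) := ModS.isIso_unit p PI fun i => hacyc (I.X i)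
      haveI h2 : IsIso ((U (Λ := Λ) p).app (qX.obj J)) := L10.KInjDerived.isIso_app_quotient _ J
      haveI h3 : IsIso ((EtBC.pushModKh Λ p).map (qX.map t)) := by
        haveI h4 : IsIso ((EtBC.pushModKh Λ p).map (qX.map t) ≫ (U (Λ := Λ) p).app (qX.obj J)) :=
          (congrArg IsIso ((U (Λ := Λ) p).naturality (qX.map t))).mpr
            (IsIso.comp_isIso' h1 (inferInstanceAs (IsIso ((EtBC.RpushModD Λ p).map (DerivedCategory.Qh.map (qX.map t))))))
        exact IsIso.of_isIso_comp_right _ ((U (Λ := Λ) p).app (qX.obj J))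
      have h5 : IsIso (DerivedCategory.Qh.map θ) := by
        rw [Functor.map_comp]
        exact IsIso.comp_isIso' inferInstance h3
      exact (DerivedCategory.isIso_Qh_map_iff θ).1 h5
    have hψ : Function.Bijective (fun ψ : A ⟶ B =>
        ((EtModW.pull Λ p).mapHomotopyCategory (ComplexShape.up ℤ)).map ψ ≫ qX.map t) := by
      refine ((bijective_homotopy_transpose adj A.as J).of_comp_iff' _).1 ?_
      convert ((Iso.homToEquiv (asIso θ)).bijective : Function.Bijective (fun ψ : A ⟶ B => ψ ≫ θ)) using 1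
      funext ψ
      obtain ⟨φ, rfl⟩ := qS.map_surjective (X := A.as) (Y := I) ψ
      have hn : φ ≫ unitC adj I = unitC adj A.as ≫ ((EtModW.push Λ p).mapHomologicalComplex _).map
          (((EtModW.pull Λ p).mapHomologicalComplex _).map φ) :=
        HomologicalComplex.hom_ext _ _ fun m => adj.unit.naturality (φ.f m)
      simp only [Function.comp_apply, θ]
      erw [Functor.map_comp]
      refine Eq.trans ?_ (Category.assoc (qS.map φ) (qS.map (unitC adj I))
        (((EtModW.push Λ p).mapHomotopyCategory _).map (qX.map t)))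
      refine (Category.assoc _ _ _).symm.trans ?_
      refine congrArg (· ≫ ((EtModW.push Λ p).mapHomotopyCategory _).map (qX.map t)) ?_
      erw [← Functor.map_comp, ← Functor.map_comp]
      exact congrArg qS.map hn.symm
    let fac := (EtModW.pull Λ p).mapDerivedCategoryFactorsh
    let c : (EtBC.pullModD Λ p).obj (DerivedCategory.Qh.obj B) ≅ DerivedCategory.Qh.obj (qX.obj J) :=
      fac.app B ≪≫ asIso (DerivedCategory.Qh.map (qX.map t))
    refine (((fac.app A).homCongr c).bijective.of_comp_iff' _).1 ?_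
    refine (Function.Bijective.of_comp_iff _ (L10.KInjDerived.qh_bijective A ⟨B, hI⟩)).1 ?_
    convert (L10.KInjDerived.qh_bijective _ ⟨qX.obj J, hJ⟩).comp hψ using 1
    funext ψ
    simp only [Function.comp_apply, Iso.homCongr_apply, c, Iso.trans_hom, asIso_hom, Iso.app_hom, Iso.app_inv,
      Functor.map_comp]
    have hnat := fac.hom.naturality ψ
    simp only [Functor.comp_map] at hnat
    erw [reassoc_of% hnat, Iso.inv_hom_id_app_assoc]
  exact ⟨⟨fun {K L} => (main K L).2⟩, ⟨fun {K L} _ _ h => (main K L).1 h⟩⟩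

/-- The units on modules are those on abelian sheaves. -/
theorem unit_acyc_of_ab (M : EtModW.Mod Λ S) (h1 : IsIso ((EtCoh.pullPushAdj p).unit.app ((EtModD.forgetToAb Λ S).obj M)))
    (h2 : ∀ q : ℕ, 0 < q → IsZero ((EtCoh.Rpush p q).obj ((EtCoh.pull p).obj ((EtModD.forgetToAb Λ S).obj M)))) :
    IsIso ((EtSix.pullPushModAdj Λ p).unit.app M) ∧ Acyc Λ p ((EtModW.pull Λ p).obj M) := by
  refine ⟨?_, fun q hq => (h2 q hq).of_iso ((EtCoh.Rpush p q).mapIso ((ModPull.pullIso Λ p).app M).symm)⟩
  haveI : IsIso ((EtModD.forgetToAb Λ S).map ((EtSix.pullPushModAdj Λ p).unit.app M)) := by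
    rw [← ModPull.unit_pullIso Λ p M]
    exact IsIso.comp_isIso' h1 inferInstance
  exact isIso_of_reflects_iso _ (EtModD.forgetToAb Λ S)

end Groth.L27.SmoothLA.ModA

end
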