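import Groth.Agent.L27.SmoothLA.Main
import Groth.Agent.L27.SmoothLA.AcycGen
import Groth.Agent.L27.ULA.Main
import Groth.Agent.L27.PBC.ModUnbdd
import Groth.Agent.L27.PBC.ModCoprod
import Groth.Agent.L27.BigSets.FlatConn
import Groth.Agent.L27.Acyclic0.Smooth

/-! # Unbounded smooth base change for modules over torsion rings -/

universe u

open CategoryTheory CategoryTheory.Limits AlgebraicGeometry Opposite CategoryTheory.Abelian CochainComplex
open Groth.L10.EtLocalBC (unitC bijective_homotopy_transpose)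

attribute [local instance] HasDerivedCategory.standard

set_option autoImplicit false
set_option backward.defeqAttrib.useBackward true
set_option backward.isDefEq.respectTransparency false
set_option backward.isDefEq.respectTransparency.types false
set_option linter.style.haveILetI false
set_option linter.unusedSectionVars false
set_option maxHeartbeats 800000
set_option synthInstance.maxHeartbeats 100000

noncomputable section

namespace Groth.L27.SmoothLA.ModS

open Groth.L27.PBC
open Groth.L27.PBC.ModU (U Acyc acyc_injective mapHomotopyCategoryCompIso_refl_inv_app)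

variable {X S X' S' : Scheme.{u}} {Λ : Type (u + 1)} [CommRing Λ]

/-- A positive integer vanishing in the coefficients kills the modules. -/
theorem isLTorsion_forget {n : ℕ} (hn : 0 < n) (hΛ : (n : Λ) = 0) (hS : IsUnit (n : Γ(S, ⊤)))
    (M : EtModW.Mod Λ X) : EtAcyc.IsLTorsion (EtAcyc.primesInvertibleOn S) ((EtModD.forgetToAb Λ X).obj M) := by
  refine DerBC.Killed.isLTorsion ⟨n, ⟨hn, fun p hp hd => ⟨hp, fun s h0 => ?_⟩⟩, ?_⟩
  · have h1 : IsUnit ((p : Γ(S, ⊤))) := by
      obtain ⟨c, hc⟩ := hd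
      rw [hc, Nat.cast_mul] at hS
      exact isUnit_of_mul_isUnit_left hS
    have h2 := ((h1.map (S.presheaf.germ ⊤ s trivial).hom).map (S.residue s).hom).ne_zero
    rw [map_natCast, map_natCast] at h2
    exact h2 h0
  · refine ObjectProperty.hom_ext _ (NatTrans.ext (funext fun V => ?_))
    refine AddCommGrpCat.hom_ext (AddMonoidHom.ext fun y => ?_)
    change ↥(M.obj.obj V) at y
    show n • y = 0
    rw [← Nat.cast_smul_eq_nsmul Λ n y, hΛ]
    exact zero_smul _ y

variable {f : X ⟶ S} {g : S' ⟶ S} {f' : X' ⟶ S'} {g' : X' ⟶ X}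

/-- Smooth base change in degree zero for sheaves of modules. -/
theorem isIso_baseChange0Mod [QuasiCompact f] [QuasiSeparated f] [Smooth g] (h : IsPullback g' f' f g)
    (F : EtModW.Mod Λ X) : IsIso (EtSix.baseChange0Mod Λ f g f' g' h.w F) := by
  haveI := BigSets.isIso_baseChange0_of_shConnected h (Acyclic0.shConnected_of_smooth g)
    ((EtModD.forgetToAb Λ X).obj F)
  haveI : IsIso ((ModPull.pullIso Λ g).hom.app ((EtModW.push Λ f).obj F) ≫
      (EtModD.forgetToAb Λ S').map (EtSix.baseChange0Mod Λ f g f' g' h.w F)) := by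
    rw [ModPull.forget_baseChange0Mod Λ f g f' g' h.w F]
    exact IsIso.comp_isIso' inferInstance inferInstance
  haveI := IsIso.of_isIso_comp_left ((ModPull.pullIso Λ g).hom.app ((EtModW.push Λ f).obj F))
    ((EtModD.forgetToAb Λ S').map (EtSix.baseChange0Mod Λ f g f' g' h.w F))
  exact isIso_of_reflects_iso _ (EtModD.forgetToAb Λ S')

/-- Acyclicity is stable under smooth base change. -/
theorem acyc_pull [QuasiCompact f] [QuasiSeparated f] [Smooth g] (h : IsPullback g' f' f g) {n : ℕ} (hn : 0 < n)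
    (hΛ : (n : Λ) = 0) (hS : IsUnit (n : Γ(S, ⊤))) {M : EtModW.Mod Λ X} (hM : Acyc Λ f M) :
    Acyc Λ f' ((EtModW.pull Λ g').obj M) := fun q hq => by
  haveI := EtSite.preservesFiniteLimits_pull g'
  haveI := ULA.isIso_bcQ_of_uLoc f g f' g' h
    (isULocAcyclicN_smooth g _ (fun ℓ hℓ _ y => hℓ.2 y) q) _ (isLTorsion_forget hn hΛ hS M) q le_rfl
  exact (((EtCoh.pull g).map_isZero (hM q hq)).of_iso
    (asIso (EtBC.bcQ f g f' g' h.w q ((EtModD.forgetToAb Λ X).obj M))).symm).of_iso
      ((EtCoh.Rpush f' q).mapIso ((ModPull.pullIso Λ g').app M).symm)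

/-- Acyclic underlying sheaves give acyclic modules. -/
theorem rAcyclic_push (f : X ⟶ S) [QuasiCompact f] [QuasiSeparated f] {M : EtModW.Mod Λ X} (hM : Acyc Λ f M) :
    L17.GrothSS.RAcyclic (EtModW.push Λ f) M := fun q hq => by
  let I := injectiveResolution M
  let Fo := EtModD.forgetToAb Λ X
  haveI : Fo.PreservesHomology := inferInstance
  let aug := RDer.mapAug Fo I.ι
  haveI : QuasiIso aug := by
    haveI := HomologicalComplex.quasiIso_map_of_preservesHomology I.ι Fo
    dsimp only [aug, RDer.mapAug]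
    infer_instance
  obtain ⟨a⟩ := nonempty_homology_iso_rightDerived (EtCoh.push f) (Fo.obj M)
    ((Fo.mapHomologicalComplex _).obj I.cocomplex) aug
    (fun n => haveI := I.injective n; acyc_injective f (I.cocomplex.X n)) q
  let P := ((EtModW.push Λ f).mapHomologicalComplex (ComplexShape.up ℕ)).obj I.cocomplex
  haveI : (EtModD.forgetToAb Λ S).PreservesHomology := inferInstance
  have h0 : IsZero (P.homology q) := by
    refine (IsZero.iff_id_eq_zero _).2 ((EtModD.forgetToAb Λ S).map_injective ?_)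
    have hz : IsZero ((EtModD.forgetToAb Λ S).obj (P.homology q)) := by
      refine IsZero.of_iso ?_ ((P.sc q).mapHomologyIso (EtModD.forgetToAb Λ S)).symm
      exact (hM q hq).of_iso a
    exact hz.eq_of_src _ _
  exact h0.of_iso (I.isoRightDerivedObj (EtModW.push Λ f) q)

/-- Complexes of acyclic modules compute direct images preserving countable sums. -/
theorem isIso_unit (f : X ⟶ S) [QuasiCompact f] [QuasiSeparated f] [EtBC.HasRpushMod Λ f]
    [PreservesColimitsOfShape (Discrete ℕ) (EtBC.RpushModD Λ f)]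
    (K : CochainComplex (EtModW.Mod Λ X) ℤ) (hK : ∀ i, Acyc Λ f (K.X i)) :
    IsIso ((U (Λ := Λ) f).app ((HomotopyCategory.quotient _ _).obj K)) := by
  haveI := ModU.preservesCoproducts_pushMod (Λ := Λ) f (ULift.{u + 1} ℕ)
  haveI : PreservesColimitsOfShape (Discrete ℕ) (EtModW.push Λ f) :=
    preservesColimitsOfShape_of_equiv (Discrete.equivalence Equiv.ulift) _
  haveI : PreservesFiniteLimits (EtModW.push Λ f) :=
    haveI : PreservesLimitsOfSize.{0, 0} (EtModW.push Λ f) :=
      (EtSix.pullPushModAdj Λ f).rightAdjoint_preservesLimits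
    PreservesLimitsOfSize.preservesFiniteLimits _
  haveI : HasCoproductsOfShape (ULift.{u + 1} ℕ) (DerivedCategory (EtModW.Mod Λ X)) :=
    Groth.L10.DerivedProd.hasCoproductsOfShape
  haveI : HasColimitsOfShape (Discrete ℕ) (DerivedCategory (EtModW.Mod Λ X)) :=
    hasColimitsOfShape_of_equivalence (Discrete.equivalence (Equiv.ulift.{u + 1} : ULift.{u + 1} ℕ ≃ ℕ))
  exact AcycGen.isIso_unit (EtModW.push Λ f) (U (Λ := Λ) f) K fun i => rAcyclic_push f (hK i)

variable (f g f' g') in
/-- Unbounded derived smooth base change for modules over torsion rings. -/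
theorem isIso_bcMapModD [QuasiCompact f] [QuasiSeparated f] [Smooth g] (h : IsPullback g' f' f g) {n : ℕ} (hn : 0 < n)
    (hΛ : (n : Λ) = 0) (hS : IsUnit (n : Γ(S, ⊤)))
    [PreservesFiniteLimits (EtModW.pull Λ g)] [PreservesFiniteLimits (EtModW.pull Λ g')]
    [EtBC.HasRpushMod Λ f] [EtBC.HasRpushMod Λ f'] [EtBC.HasRpushMod Λ g]
    [PreservesColimitsOfShape (Discrete ℕ) (EtBC.RpushModD Λ f')]
    (adj : EtBC.pullModD Λ g ⊣ EtBC.RpushModD Λ g) (K : EtModD.D Λ X) :
    IsIso (EtBC.bcMapModD Λ f g f' g' h.w adj K) := by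
  haveI : QuasiCompact f' := MorphismProperty.of_isPullback (P := @QuasiCompact) h ‹QuasiCompact f›
  haveI : QuasiSeparated f' := MorphismProperty.of_isPullback (P := @QuasiSeparated) h ‹QuasiSeparated f›
  let T : EtBC.RpushModD Λ f ⋙ EtBC.pullModD Λ g ⟶ EtBC.pullModD Λ g' ⋙ EtBC.RpushModD Λ f' :=
    Functor.whiskerRight (EtBC.bcAdjModD Λ f g f' g' h.w) _ ≫ (Functor.associator _ _ _).hom ≫
      Functor.whiskerLeft _ ((Functor.associator _ _ _).hom ≫ Functor.whiskerLeft _ adj.counit ≫
        (Functor.rightUnitor _).hom)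
  have hT : ∀ M, EtBC.bcMapModD Λ f g f' g' h.w adj M = T.app M := fun M => by
    simp [T, EtBC.bcMapModD, Adjunction.homEquiv_counit]
  obtain ⟨I, j, hI, hj, hinj⟩ := L10.KInjTransfer.exists_resolution.{u + 1}
    (DerivedCategory.Qh.objPreimage K).as
  let A := (HomotopyCategory.quotient (EtModW.Mod Λ X) (ComplexShape.up ℤ)).obj I
  let eA : DerivedCategory.Qh.obj A ≅ K :=
    haveI : IsIso (DerivedCategory.Qh.map ((HomotopyCategory.quotient _ _).map j)) :=
      Localization.inverts DerivedCategory.Qh (HomotopyCategory.quasiIso _ (ComplexShape.up ℤ)) _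
        ((HomotopyCategory.quotient_map_mem_quasiIso_iff j).2 ((HomologicalComplex.mem_quasiIso_iff _).2 hj))
    (asIso (DerivedCategory.Qh.map ((HomotopyCategory.quotient _ _).map j))).symm ≪≫
      DerivedCategory.Qh.objObjPreimageIso K
  rw [hT, ← NatTrans.isIso_app_iff_of_iso T eA, ← hT]
  haveI hUf : IsIso ((U (Λ := Λ) f).app A) := L10.KInjDerived.isIso_app_quotient _ I
  let PA := ((EtModW.pull Λ g').mapHomotopyCategory (ComplexShape.up ℤ)).obj A
  haveI hUf' : IsIso ((U (Λ := Λ) f').app PA) := isIso_unit f'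
    (((EtModW.pull Λ g').mapHomologicalComplex (ComplexShape.up ℤ)).obj I)
    fun i => haveI := hinj i; acyc_pull h hn hΛ hS (acyc_injective f (I.X i))
  let P := ((EtModW.push Λ f').mapHomotopyCategory (ComplexShape.up ℤ)).obj PA
  let e := (U (Λ := Λ) f').app PA ≫
    (EtBC.RpushModD Λ f').map ((EtModW.pull Λ g').mapDerivedCategoryFactorsh.inv.app A)
  haveI : IsIso e := inferInstance
  let θ := EtSix.pushToPushPullMod Λ f g f' g' h.w
  let θA := (HomotopyCategory.quotient (EtModW.Mod Λ S) (ComplexShape.up ℤ)).map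
    ((NatTrans.mapHomologicalComplex θ (ComplexShape.up ℤ)).app I)
  have hfac : (U (Λ := Λ) f).app A ≫ (EtBC.bcAdjModD Λ f g f' g' h.w).app (DerivedCategory.Qh.obj A) =
      DerivedCategory.Qh.map θA ≫ (U (Λ := Λ) g).app P ≫ (EtBC.RpushModD Λ g).map e := by
    refine ((EtBC.RpushModD Λ f).rightDerived_fac_app (U (Λ := Λ) f)
      (HomotopyCategory.quasiIso (EtModW.Mod Λ X) (ComplexShape.up ℤ)) _ _ A).trans ?_
    simp only [e, θA, θ, EtBC.bcUnitMod, Functor.map_comp, NatTrans.comp_app, Functor.whiskerRight_app,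
      Functor.whiskerLeft_app, Functor.associator_hom_app, Functor.associator_inv_app, Category.comp_id,
      Category.id_comp, Category.assoc]
    rw [mapHomotopyCategoryCompIso_refl_inv_app, mapHomotopyCategoryCompIso_refl_inv_app]
    refine congrArg₂ (· ≫ ·) rfl ?_
    erw [CategoryTheory.Functor.map_id]
    exact (Category.id_comp _).trans (Category.id_comp _)
  rw [isIso_iff_coyoneda_map_bijective]
  intro M
  obtain ⟨D, k, hD, hk, -⟩ := L10.KInjTransfer.exists_resolution.{u + 1} (DerivedCategory.Qh.objPreimage M).as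
  let B := (HomotopyCategory.quotient (EtModW.Mod Λ S') (ComplexShape.up ℤ)).obj D
  let eM : DerivedCategory.Qh.obj B ≅ M :=
    haveI : IsIso (DerivedCategory.Qh.map ((HomotopyCategory.quotient _ _).map k)) :=
      Localization.inverts DerivedCategory.Qh (HomotopyCategory.quasiIso _ (ComplexShape.up ℤ)) _
        ((HomotopyCategory.quotient_map_mem_quasiIso_iff k).2 ((HomologicalComplex.mem_quasiIso_iff _).2 hk))
    (asIso (DerivedCategory.Qh.map ((HomotopyCategory.quotient _ _).map k))).symm ≪≫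
      DerivedCategory.Qh.objObjPreimageIso M
  haveI hUg : IsIso ((U (Λ := Λ) g).app B) := L10.KInjDerived.isIso_app_quotient _ D
  haveI : PreservesFiniteColimits (EtModW.pull Λ g) :=
    haveI := (EtSix.pullPushModAdj Λ g).leftAdjoint_preservesColimits
    inferInstance
  haveI hgD : CochainComplex.IsKInjective (((EtModW.push Λ g).mapHomologicalComplex _).obj D) :=
    L10.KInjTransfer.isKInjective_map (EtSix.pullPushModAdj Λ g) D
  let Γ : (P ⟶ B) → (((EtModW.push Λ f).mapHomotopyCategory _).obj A ⟶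
      ((EtModW.push Λ g).mapHomotopyCategory _).obj B) := fun ψ =>
    θA ≫ ((EtModW.push Λ g).mapHomotopyCategory (ComplexShape.up ℤ)).map ψ
  have hΓ : Function.Bijective Γ := by
    haveI : IsIso (ModBc.bcC f g f' g' h.w I) :=
      haveI : ∀ m, IsIso ((ModBc.bcC f g f' g' h.w I).f m) := fun m =>
        isIso_baseChange0Mod h (I.X m)
      HomologicalComplex.Hom.isIso_of_components _
    have e' : Γ = (fun x => (HomotopyCategory.quotient _ _).map
          (unitC (EtSix.pullPushModAdj Λ g) (((EtModW.push Λ f).mapHomologicalComplex _).obj I)) ≫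
            ((EtModW.push Λ g).mapHomotopyCategory _).map x) ∘
        (fun ψ => (HomotopyCategory.quotient _ _).map (ModBc.bcC f g f' g' h.w I) ≫ ψ) := by
      funext ψ
      refine (congrArg (· ≫ _) ((congrArg _ (ModBc.unitC_comp_bcC f g f' g' h.w I).symm).trans
        ((HomotopyCategory.quotient _ _).map_comp _ _))).trans ((Category.assoc _ _ _).trans ?_)
      exact congrArg (_ ≫ ·) (((EtModW.push Λ g).mapHomotopyCategory (ComplexShape.up ℤ)).map_comp
        ((HomotopyCategory.quotient _ _).map (ModBc.bcC f g f' g' h.w I)) ψ).symm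
    rw [e']
    exact (bijective_homotopy_transpose _ _ _).comp
      (Iso.homFromEquiv (asIso ((HomotopyCategory.quotient _ _).map (ModBc.bcC f g f' g' h.w I))).symm).bijective
  let Rg := EtBC.RpushModD Λ g
  let Φ' : (((EtModW.push Λ f).mapHomotopyCategory _).obj A ⟶ ((EtModW.push Λ g).mapHomotopyCategory _).obj B) →
      ((EtBC.RpushModD Λ f).obj (DerivedCategory.Qh.obj A) ⟶ Rg.obj M) := fun x =>
    inv ((U (Λ := Λ) f).app A) ≫ DerivedCategory.Qh.map x ≫ (U (Λ := Λ) g).app B ≫ Rg.map eM.hom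
  have hΦ : Function.Bijective Φ' :=
    (Iso.homFromEquiv (asIso ((U (Λ := Λ) f).app A))).bijective.comp
      ((Iso.homToEquiv (asIso ((U (Λ := Λ) g).app B ≫ Rg.map eM.hom))).bijective.comp
        (L10.KInjDerived.qh_bijective _ ⟨((EtModW.push Λ g).mapHomotopyCategory _).obj B, hgD⟩))
  have hQ : Function.Bijective (fun ψ : P ⟶ B => inv e ≫ DerivedCategory.Qh.map ψ ≫ eM.hom) :=
    (Iso.homFromEquiv (asIso e)).bijective.comp
      ((Iso.homToEquiv eM).bijective.comp (L10.KInjDerived.qh_bijective P ⟨B, hD⟩))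
  have key : ∀ ψ, (EtBC.bcAdjModD Λ f g f' g' h.w).app (DerivedCategory.Qh.obj A) ≫
      Rg.map (inv e ≫ DerivedCategory.Qh.map ψ ≫ eM.hom) = Φ' (Γ ψ) := by
    intro ψ
    rw [← cancel_epi ((U (Λ := Λ) f).app A)]
    simp only [Φ', IsIso.hom_inv_id_assoc]
    rw [reassoc_of% hfac]
    erw [← Functor.map_comp Rg e, IsIso.hom_inv_id_assoc]
    simp only [Γ, Functor.map_comp, Category.assoc]
    refine congrArg (DerivedCategory.Qh.map θA ≫ ·) ?_
    exact ((U (Λ := Λ) g).naturality_assoc ψ (Rg.map eM.hom)).symm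
  have hb : Function.Bijective (fun φ : (EtBC.RpushModD Λ f').obj
      ((EtBC.pullModD Λ g').obj (DerivedCategory.Qh.obj A)) ⟶ M =>
      (EtBC.bcAdjModD Λ f g f' g' h.w).app (DerivedCategory.Qh.obj A) ≫ Rg.map φ) := by
    refine (Function.Bijective.of_comp_iff _ hQ).1 ?_
    rw [show (fun φ : (EtBC.RpushModD Λ f').obj ((EtBC.pullModD Λ g').obj (DerivedCategory.Qh.obj A)) ⟶ M =>
      (EtBC.bcAdjModD Λ f g f' g' h.w).app (DerivedCategory.Qh.obj A) ≫ Rg.map φ) ∘
      (fun ψ : P ⟶ B => inv e ≫ DerivedCategory.Qh.map ψ ≫ eM.hom) = Φ' ∘ Γ from funext key]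
    exact hΦ.comp hΓ
  have heq : (fun φ => EtBC.bcMapModD Λ f g f' g' h.w adj (DerivedCategory.Qh.obj A) ≫ φ) =
      (adj.homEquiv _ M).symm ∘
      (fun φ => (EtBC.bcAdjModD Λ f g f' g' h.w).app (DerivedCategory.Qh.obj A) ≫ Rg.map φ) :=
    funext fun φ => (adj.homEquiv_naturality_right_symm _ φ).symm
  show Function.Bijective (fun φ => EtBC.bcMapModD Λ f g f' g' h.w adj (DerivedCategory.Qh.obj A) ≫ φ)
  rw [heq]
  exact (Equiv.bijective _).comp hb

end Groth.L27.SmoothLA.ModS
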