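import Groth.Agent.L27.SmoothLA.Apps
import Groth.Prelude.Def_SGA7I

/-! # Nearby cycles at smooth points are trivial -/

set_option autoImplicit false
set_option linter.style.haveILetI false
set_option linter.unusedSectionVars false
set_option backward.isDefEq.respectTransparency.types false

universe u

open CategoryTheory CategoryTheory.Limits AlgebraicGeometry Opposite IsLocalRing

noncomputable section

namespace Groth.L27.SmoothLA

theorem nearby_smooth {V : Type u} [CommRing V] [HenselianLocalRing V] [IsSepClosed (ResidueField V)]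
    (Ω : Type u) [Field Ω] [IsSepClosed Ω] [Algebra V Ω] (m : ℕ) (hm : (m : ResidueField V) ≠ 0)
    {X : Scheme.{u}} (f : X ⟶ Spec (CommRingCat.of V)) (x : ↥X) (hx : f.base x = closedPoint V)
    (U : X.Opens) (hxU : x ∈ U) [Smooth (U.ι ≫ f)] (Osh : Type u) [CommRing Osh] [IsLocalRing Osh]
    [Algebra ↑(X.presheaf.stalk x) Osh] [IsLocalHom (algebraMap ↑(X.presheaf.stalk x) Osh)]
    [Hensel.IsStrictHenselization ↑(X.presheaf.stalk x) Osh] :
    ConnectedSpace ↥(SGA7.nearbyFibre f x Osh Ω) ∧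
      ∀ i : ℕ, 0 < i → Subsingleton (EtCoh.H (SGA7.nearbyFibre f x Osh Ω)
        (EtCoh.const (SGA7.nearbyFibre f x Osh Ω) (ZMod m)) i) := by
  obtain ⟨_, _⟩ := StalkBC.henselian_strict x Osh
  let η := Hens2.specOf X x Osh
  haveI : WeaklyEtale η := Acyclic0.weaklyEtale_fromStrict x Osh
  have hη : η (closedPoint Osh) = x := LimBC.specOf_closedPoint x Osh
  have hr : Set.range η ⊆ Set.range U.ι := by
    rw [Scheme.Opens.range_ι]
    rintro _ ⟨z, rfl⟩
    have := Scheme.preimage_eq_top_of_closedPoint_mem η (hη.symm ▸ hxU)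
    exact (this.ge (Set.mem_univ z) : z ∈ η ⁻¹ᵁ U)
  let η' := IsOpenImmersion.lift U.ι η hr
  have hη' : η' ≫ U.ι = η := IsOpenImmersion.lift_fac _ _ _
  haveI : WeaklyEtale (η' ≫ U.ι) := by rw [hη']; infer_instance
  haveI : WeaklyEtale η' := WeaklyEtale.of_comp η' U.ι
  let h := Spec.map (CommRingCat.ofHom (algebraMap ↑(X.presheaf.stalk x) Osh)) ≫ X.fromSpecStalk x ≫ f
  have hh : η' ≫ (U.ι ≫ f) = h := by
    rw [← Category.assoc, hη']
    exact Category.assoc _ _ _
  let ψ : V →+* Osh := (Spec.preimage h).hom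
  have hψ : Spec.map (CommRingCat.ofHom ψ) = h := Spec.map_preimage _
  letI : Algebra V Osh := ψ.toAlgebra
  haveI : IsLocalHom (algebraMap V Osh) := by
    refine ((IsLocalRing.local_hom_TFAE ψ).out 0 4).2 ?_
    have h1 : (Spec.map (CommRingCat.ofHom ψ)) (closedPoint Osh) = closedPoint V := by
      rw [hψ, ← hh, ← Category.assoc, hη', Scheme.Hom.comp_apply, hη]
      exact hx
    exact congrArg PrimeSpectrum.asIdeal h1
  let L : Set ℕ := {ℓ | ℓ.Prime ∧ (ℓ : ResidueField V) ≠ 0}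
  have hy : ∀ ℓ ∈ L, ℓ.Prime → ∀ y : Spec (CommRingCat.of V), (ℓ : (Spec (CommRingCat.of V)).residueField y) ≠ 0 := by
    intro ℓ hℓ _ y h0
    have hu : IsUnit (ℓ : V) := (residue_ne_zero_iff_isUnit _).1 (by rw [map_natCast]; exact hℓ.2)
    have h1 := (hu.map (evalPt V y)).ne_zero
    rw [map_natCast] at h1
    exact h1 h0
  have hU : ∀ n, EtAcyc.IsULocAcyclicN h L n := fun n => by
    rw [← hh]
    exact ULA.isULocAcyclicN_weaklyEtale η' (isULocAcyclicN_smooth _ L hy n)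
  have hA : ∀ n, EtAcyc.IsAcyclicN h L n := fun n => by
    rw [← hψ]
    haveI : WeaklyEtale (𝟙 (Spec (CommRingCat.of V))) := inferInstance
    have hl := hU n
    refine XV.acyclic_of_loc (U.ι ≫ f) L n ?_ V Osh (𝟙 _) η' ?_
    · exact isULocAcyclicN_smooth _ L hy n (U.ι ≫ f) (𝟙 _) (𝟙 _) (IsPullback.of_horiz_isIso ⟨(Category.id_comp _).trans (Category.comp_id _).symm⟩)
    · rw [Category.comp_id, hh]
      exact hψ.symm
  obtain ⟨p, hp, hpn⟩ : ∃ p : ℕ, p.Prime ∧ (p : ResidueField V) ≠ 0 := by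
    rcases eq_or_ne (2 : ResidueField V) 0 with h2 | h2
    · exact ⟨3, Nat.prime_three, fun h3 => one_ne_zero (α := ResidueField V) (by
        push_cast at h3; linear_combination h3 - h2)⟩
    · exact ⟨2, Nat.prime_two, by exact_mod_cast h2⟩
  have hacy : ∀ n, EtAcyc.IsAcyclicSchemeN L n (SGA7.nearbyFibre f x Osh Ω) := fun n =>
    ULA.isAcyclicScheme_fibre h (hU n) (hA n) Ω ⟨p, ⟨hp, hpn⟩, hp⟩
  have hm0 : m ≠ 0 := fun h => hm (by rw [h, Nat.cast_zero])
  haveI : NeZero m := ⟨hm0⟩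
  refine ⟨(hacy 0).2.1, fun i hi => ?_⟩
  obtain ⟨-, -, hv⟩ := hacy i
  refine XV.subsingleton_H_K_finite (L := L) (fun ℓ h1 h2 => hv ℓ h1 h2 i hi le_rfl) m
    (AddCommGrpCat.of (ULift.{u + 1} (ZMod m))) (by simp) fun a => ?_
  refine ⟨m, ⟨Nat.pos_of_ne_zero hm0, fun r hr hd => ⟨hr, fun h => hm ?_⟩⟩, ?_⟩
  · obtain ⟨c, rfl⟩ := hd
    rw [Nat.cast_mul, h, zero_mul]
  · exact ULift.ext _ _ (by
      show m • a.down = 0
      rw [nsmul_eq_mul, ZMod.natCast_self, zero_mul])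

end Groth.L27.SmoothLA
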