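import Groth.Agent.L27.SmoothLA.Closed
import Groth.Agent.L27.FinBC.LAPoint
import Groth.Agent.L05.Hensel.IntegralDomain
import Mathlib.RingTheory.Algebraic.Integral
import Mathlib.FieldTheory.IsAlgClosed.Basic

/-! # Degree one vanishing for the line over an arbitrary strictly henselian base -/

set_option autoImplicit false
set_option linter.style.haveILetI false
set_option linter.unusedSectionVars false
set_option backward.isDefEq.respectTransparency.types false

universe u

open CategoryTheory CategoryTheory.Limits AlgebraicGeometry Opposite IsLocalRing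
open scoped TensorProduct

noncomputable section

namespace Groth.L27.SmoothLA

/-- Precomposition with an isomorphism. -/
theorem weaklyEtale_comp_equiv {R R₁ A : Type u} [CommRing R] [CommRing R₁] [CommRing A] [Algebra R A] [Algebra R₁ A]
    [Algebra.WeaklyEtale R₁ A] (σ : R →+* R₁) (hσ : Function.Bijective σ)
    (h : algebraMap R A = (algebraMap R₁ A).comp σ) : Algebra.WeaklyEtale R A := by
  letI : Algebra R R₁ := σ.toAlgebra
  haveI : IsScalarTower R R₁ A := IsScalarTower.of_algebraMap_eq' h
  haveI : Algebra.Etale R R₁ := RingHom.etale_algebraMap.mp (RingHom.Etale.of_bijective hσ)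
  exact Algebra.WeaklyEtale.trans R R₁ A

section Residue

variable {O : Type u} [CommRing O] [HenselianLocalRing O] {S : Type u} [CommRing S] [HenselianLocalRing S]
  [IsSepClosed (ResidueField S)] [Algebra (Polynomial O) S] [Algebra.WeaklyEtale (Polynomial O) S]
  [Algebra O S] [IsScalarTower O (Polynomial O) S]

theorem algebraMap_O (r : O) : algebraMap O S r = algebraMap (Polynomial O) S (Polynomial.C r) :=
  IsScalarTower.algebraMap_apply O (Polynomial O) S r

theorem isLocalHom_O (hp : (ctr (Polynomial O) S).comap Polynomial.C = maximalIdeal O) :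
    IsLocalHom (algebraMap O S) := ⟨fun r hr => by
  refine notMem_maximalIdeal.1 fun h => ?_
  rw [← hp, Ideal.mem_comap, Ideal.mem_comap, ← algebraMap_O] at h
  exact (mem_maximalIdeal _).1 h hr⟩

/-- At a closed point of the special fibre the residue field is algebraic over the base. -/
theorem isIntegral_residue [IsLocalHom (algebraMap O S)] (hmax : (ctr (Polynomial O) S).IsMaximal)
    (z : ResidueField S) : ((ResidueField.map (algebraMap O S))).IsIntegralElem z := by
  letI : Algebra (ResidueField O) (ResidueField S) := (ResidueField.map (algebraMap O S)).toAlgebra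
  show IsIntegral (ResidueField O) z
  let p := ctr (Polynomial O) S
  let π : Polynomial O →+* ResidueField S := (residue S).comp (algebraMap (Polynomial O) S)
  have hπC : ∀ r, π (Polynomial.C r) = algebraMap (ResidueField O) (ResidueField S) (residue O r) := fun r => by
    show residue S _ = _
    rw [← algebraMap_O]
    exact (ResidueField.map_residue _ r).symm
  have hXint : IsIntegral (ResidueField O) (π Polynomial.X) := by
    obtain ⟨f, hf, hfp⟩ : ∃ f : Polynomial O, f ∈ p ∧ f.map (residue O) ≠ 0 := by
      by_contra h
      push Not at h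
      have hX : (Polynomial.X : Polynomial O) ∉ p := fun hX => by simpa using h _ hX
      obtain ⟨y, i, hi, hyi⟩ := hmax.exists_inv hX
      have h1 := congrArg (fun q => (Polynomial.map (residue O) q).coeff 0) hyi
      simp [h i hi] at h1
    have hroot : Polynomial.aeval (π Polynomial.X) (f.map (residue O)) = 0 := by
      rw [Polynomial.aeval_def, Polynomial.eval₂_map]
      have h2 : Polynomial.eval₂RingHom ((algebraMap (ResidueField O) (ResidueField S)).comp (residue O))
          (π Polynomial.X) = π :=
        Polynomial.ringHom_ext (fun r => by simp [hπC]) (by simp)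
      refine (RingHom.congr_fun h2 f).trans ?_
      exact (residue_eq_zero_iff _).2 hf
    exact (show IsAlgebraic (ResidueField O) (π Polynomial.X) from ⟨_, hfp, hroot⟩).isIntegral
  let E := integralClosure (ResidueField O) (ResidueField S)
  have hE : ∀ q, π q ∈ E := fun q => by
    induction q using Polynomial.induction_on with
    | C r => rw [hπC]; exact E.algebraMap_mem _
    | add a b ha hb => rw [map_add]; exact E.add_mem ha hb
    | monomial k r ih => rw [pow_succ, ← mul_assoc, map_mul]; exact E.mul_mem ih hXint
  letI := locAlgebra (B := Polynomial O) (S := S)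
  haveI hS := isStrict_loc (B := Polynomial O) (S := S)
  let L := Localization.AtPrime p
  haveI : Algebra.IsSeparable (ResidueField L) (ResidueField S) := hS.isSepClosure.separable
  obtain ⟨P, hP, hPz⟩ := (Algebra.IsSeparable.isSeparable (ResidueField L) z).isIntegral
  have hcoef : ∀ w : ResidueField L, algebraMap (ResidueField L) (ResidueField S) w ∈ E := fun w => by
    obtain ⟨w, rfl⟩ := residue_surjective w
    obtain ⟨a, s, rfl⟩ := IsLocalization.exists_mk'_eq p.primeCompl w
    have h1 := congrArg (fun w => residue S (algebraMap L S w)) (IsLocalization.mk'_spec L a s)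
    simp only [map_mul, ← IsScalarTower.algebraMap_apply] at h1
    have hs : π s ≠ 0 := fun h0 => (residue_ne_zero_iff_isUnit _).2 (isUnit_algebraMap s) h0
    show residue S (algebraMap L S _) ∈ E
    rw [eq_div_of_mul_eq hs h1, div_eq_mul_inv]
    exact E.mul_mem (hE a) (IsIntegral.inv (hE s))
  let ψ : ResidueField L →+* E := (algebraMap (ResidueField L) (ResidueField S)).codRestrict E hcoef
  have hz : IsIntegral E z := ⟨P.map ψ, hP.map ψ, by rw [Polynomial.eval₂_map]; exact hPz⟩
  exact isIntegral_trans z hz

end Residue

section Integral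

variable {O : Type u} [CommRing O] [HenselianLocalRing O] {K : Type u} [Field K] [IsAlgClosed K] [Algebra O K]

theorem exists_multiple (hK : ∀ x : K, ∃ p : Polynomial O, p.map (algebraMap O K) ≠ 0 ∧ Polynomial.aeval x p = 0)
    (x : K) : ∃ b : integralClosure O K, b ≠ 0 ∧ IsIntegral O ((b : K) * x) := by
  obtain ⟨p, hp, hpx⟩ := hK x
  let R' := integralClosure O K
  have halg : IsAlgebraic R' x := ⟨p.map (algebraMap O R'), fun h => hp (by
      rw [IsScalarTower.algebraMap_eq O R' K, ← Polynomial.map_map, h, Polynomial.map_zero]),
    by rw [Polynomial.aeval_map_algebraMap]; exact hpx⟩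
  obtain ⟨b, hb, hbx⟩ := halg.exists_integral_multiple
  exact ⟨b, hb, isIntegral_trans _ hbx⟩

theorem isIntegrallyClosed_closure (hK : ∀ x : K, ∃ p : Polynomial O, p.map (algebraMap O K) ≠ 0 ∧ Polynomial.aeval x p = 0) :
    IsIntegrallyClosed (integralClosure O K) := by
  let R' := integralClosure O K
  haveI : IsFractionRing R' K := by
    refine (isLocalization_iff _ _).2 ⟨fun y => ?_, fun x => ?_, fun {a b} h => ⟨1, by simpa using Subtype.ext h⟩⟩
    · exact isUnit_iff_ne_zero.2 fun h => nonZeroDivisors.ne_zero y.2 (Subtype.ext h)
    · obtain ⟨b, hb, hbx⟩ := exists_multiple hK x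
      exact ⟨(⟨_, hbx⟩, ⟨b, mem_nonZeroDivisors_of_ne_zero hb⟩), mul_comm _ _⟩
  exact (isIntegrallyClosed_iff K).2 fun {x} hx => ⟨⟨x, isIntegral_trans x hx⟩, rfl⟩

theorem isAlgClosed_residue [IsLocalRing (integralClosure O K)] :
    IsAlgClosed (ResidueField (integralClosure O K)) := by
  let R' := integralClosure O K
  refine IsAlgClosed.of_exists_root _ fun p hp hirr => ?_
  obtain ⟨P, hP, hdeg, hPm⟩ := Polynomial.lifts_and_degree_eq_and_monic
    (Polynomial.map_surjective _ residue_surjective p) hp
  have hd : (P.map (algebraMap R' K)).degree ≠ 0 := by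
    rw [hPm.degree_map, hdeg]
    exact fun h => hirr.not_isUnit ((Polynomial.isUnit_iff_degree_eq_zero).2 h)
  obtain ⟨x, hx⟩ := IsAlgClosed.exists_root _ hd
  rw [Polynomial.IsRoot, Polynomial.eval_map] at hx
  have hx' : IsIntegral O x := isIntegral_trans x (show IsIntegral R' x from ⟨P, hPm, hx⟩)
  have h0 : P.eval (⟨x, hx'⟩ : R') = 0 := (show Function.Injective (algebraMap R' K) from Subtype.val_injective) (by
    rw [map_zero, ← Polynomial.eval₂_at_apply]; exact hx)
  exact ⟨residue R' ⟨x, hx'⟩, by rw [← hP, Polynomial.eval_map, Polynomial.eval₂_at_apply, h0, map_zero]⟩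

end Integral

section Main

variable {O : Type u} [CommRing O] [HenselianLocalRing O] [IsSepClosed (ResidueField O)]
  {S : Type u} [CommRing S] [HenselianLocalRing S] [IsSepClosed (ResidueField S)] [Algebra (Polynomial O) S]
  [Algebra.WeaklyEtale (Polynomial O) S] [Algebra O S] [IsScalarTower O (Polynomial O) S]
  {K : Type u} [Field K] [IsAlgClosed K] [Algebra O K]

/-- Degree one vanishing at closed points of the special fibre of the line. -/
theorem subsingleton_H1_line (hmax : (ctr (Polynomial O) S).IsMaximal)
    (hp : (ctr (Polynomial O) S).comap Polynomial.C = maximalIdeal O)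
    (hK : ∀ x : K, ∃ p : Polynomial O, p.map (algebraMap O K) ≠ 0 ∧ Polynomial.aeval x p = 0)
    {ℓ : ℕ} (hℓ : ℓ.Prime) (hu : IsUnit (ℓ : O)) :
    Subsingleton (EtCoh.H (Spec (CommRingCat.of (S ⊗[O] K))) (EtCoh.const _ (ZMod ℓ)) 1) := by
  classical
  let R' := integralClosure O K
  haveI : Algebra.IsIntegral O R' := ⟨fun x => integralClosure.isIntegral x⟩
  haveI : IsLocalRing R' := Groth.L05.isLocalRing_of_integral_domain (A := O) R'
  haveI : HenselianLocalRing R' := Groth.L05.henselianLocalRing_of_integral (A := O) R'
  haveI := isIntegrallyClosed_closure (O := O) hK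
  haveI := isAlgClosed_residue (O := O) (K := K)
  haveI := isLocalHom_O (S := S) hp
  haveI := Groth.L27.FinBC.isLocalHom_of_integral O R'
  let A' := S ⊗[O] R'
  haveI : IsLocalRing A' := Groth.L27.FinBC.isLocalRing_tensor O S R'
  haveI : HenselianLocalRing A' := Groth.L05.henselianLocalRing_of_integral (A := S) A'
  let incS : S →+* A' := Algebra.TensorProduct.includeLeftRingHom
  let incR : R' →+* A' := (Algebra.TensorProduct.includeRight (R := O) (A := S) (B := R')).toRingHom
  haveI : IsLocalHom incS := Groth.L27.FinBC.isLocalHom_of_integral S A'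
  have hcompat : incR.comp (algebraMap O R') = incS.comp (algebraMap O S) :=
    (Algebra.TensorProduct.includeLeftRingHom_comp_algebraMap (R := O) (A := S) (B := R')).symm
  haveI : IsLocalHom incR := ⟨fun r hr => notMem_maximalIdeal.1 fun hm => by
    let P : Ideal R' := (maximalIdeal A').comap incR
    haveI : P.IsPrime := Ideal.IsPrime.comap _
    have hPmax : P.IsMaximal := by
      refine Ideal.isMaximal_of_isIntegral_of_isMaximal_comap (R := O) P ?_
      have h : P.comap (algebraMap O R') = maximalIdeal O := by
        rw [Ideal.comap_comap, hcompat, ← Ideal.comap_comap,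
          show (maximalIdeal A').comap incS = maximalIdeal S from (local_hom_TFAE incS).out 0 4 rfl rfl |>.mp ‹_›]
        exact (local_hom_TFAE (algebraMap O S)).out 0 4 rfl rfl |>.mp ‹_›
      rw [h]; exact maximalIdeal.isMaximal O
    rw [← IsLocalRing.eq_maximalIdeal hPmax] at hm
    exact (mem_maximalIdeal _).1 hm hr⟩
  let τres := ResidueField.map incR
  -- the residue field is that of the base
  have hres : Function.Surjective τres := by
    letI : Algebra (ResidueField R') (ResidueField A') := τres.toAlgebra
    have hint : ∀ z : ResidueField A', IsIntegral (ResidueField R') z := by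
      have hS : ∀ z : ResidueField S, IsIntegral (ResidueField R') (ResidueField.map incS z) := fun z => by
        obtain ⟨P, hP, hPz⟩ := isIntegral_residue hmax z
        refine ⟨P.map (ResidueField.map (algebraMap O R')), hP.map _, ?_⟩
        have hsq : (algebraMap (ResidueField R') (ResidueField A')).comp (ResidueField.map (algebraMap O R')) =
            (ResidueField.map incS).comp (ResidueField.map (algebraMap O S)) := by
          refine RingHom.ext fun w => ?_
          obtain ⟨w, rfl⟩ := residue_surjective w
          show ResidueField.map incR (ResidueField.map (algebraMap O R') (residue O w)) = _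
          simp only [RingHom.comp_apply, ResidueField.map_residue]
          exact congrArg (residue A') (RingHom.congr_fun hcompat w)
        rw [Polynomial.eval₂_map, hsq, ← Polynomial.hom_eval₂, hPz, map_zero]
      intro z
      obtain ⟨z, rfl⟩ := residue_surjective z
      induction z using TensorProduct.induction_on with
      | zero => rw [map_zero]; exact isIntegral_zero
      | add a b ha hb => rw [map_add]; exact ha.add hb
      | tmul s r =>
        have h : residue A' (s ⊗ₜ[O] r) = ResidueField.map incS (residue S s) *
            algebraMap (ResidueField R') (ResidueField A') (residue R' r) := by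
          rw [show algebraMap (ResidueField R') (ResidueField A') (residue R' r) = residue A' (incR r) from
            ResidueField.map_residue _ _, ResidueField.map_residue, ← map_mul]
          congr 1
          show s ⊗ₜ[O] r = (s ⊗ₜ[O] (1 : R')) * ((1 : S) ⊗ₜ[O] r)
          rw [Algebra.TensorProduct.tmul_mul_tmul, mul_one, one_mul]
        rw [h]
        exact (hS _).mul isIntegral_algebraMap
    haveI : Algebra.IsIntegral (ResidueField R') (ResidueField A') := ⟨hint⟩
    exact IsAlgClosed.algebraMap_bijective_of_isIntegral.2
  haveI : IsSepClosed (ResidueField A') := by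
    haveI : IsAlgClosed (ResidueField A') := IsAlgClosed.of_ringEquiv _ _
      (RingEquiv.ofBijective τres ⟨τres.injective, hres⟩)
    infer_instance
  -- the translated structure map
  let xA : A' := incS (algebraMap (Polynomial O) S Polynomial.X)
  obtain ⟨t, ht⟩ := hres (residue A' xA)
  obtain ⟨t, rfl⟩ := residue_surjective t
  let φ : Polynomial R' →+* A' := Polynomial.eval₂RingHom incR xA
  let φ' : Polynomial R' →+* A' := Polynomial.eval₂RingHom incR (xA - incR t)
  have hWE : letI := φ.toAlgebra; Algebra.WeaklyEtale (Polynomial R') A' := by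
    letI algOR : Algebra (Polynomial O) (Polynomial R') := (Polynomial.mapRingHom (algebraMap O R')).toAlgebra
    letI := φ.toAlgebra
    haveI : IsScalarTower (Polynomial O) (Polynomial R') A' := by
      refine IsScalarTower.of_algebraMap_eq' ?_
      refine Polynomial.ringHom_ext (fun r => ?_) ?_
      · show incS (algebraMap _ S (Polynomial.C r)) = φ ((Polynomial.C r).map (algebraMap O R'))
        rw [Polynomial.map_C, ← algebraMap_O (S := S), Polynomial.coe_eval₂RingHom, Polynomial.eval₂_C]
        exact (RingHom.congr_fun hcompat r).symm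
      · show xA = φ ((Polynomial.X : Polynomial O).map (algebraMap O R'))
        rw [Polynomial.map_X, Polynomial.coe_eval₂RingHom, Polynomial.eval₂_X]
    let iS : S →ₐ[Polynomial O] A' := { incS with commutes' := fun p => rfl }
    let e : (Polynomial R') ⊗[Polynomial O] S →ₐ[Polynomial R'] A' :=
      Algebra.TensorProduct.lift (Algebra.ofId _ _) iS fun _ _ => Commute.all _ _
    let P' := (Polynomial R') ⊗[Polynomial O] S
    have hC : ∀ r : O, ((Polynomial.C (algebraMap O R' r)) ⊗ₜ[Polynomial O] (1 : S) : P') =
        (1 : Polynomial R') ⊗ₜ[Polynomial O] algebraMap O S r := fun r => by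
      rw [algebraMap_O (S := S), Algebra.algebraMap_eq_smul_one (A := S), ← TensorProduct.smul_tmul, Algebra.smul_def, mul_one]
      show _ = ((Polynomial.C r).map (algebraMap O R')) ⊗ₜ[Polynomial O] (1 : S)
      rw [Polynomial.map_C]
    let gS : S →ₐ[O] P' :=
      { (Algebra.TensorProduct.includeRight : S →ₐ[Polynomial O] P').toRingHom with commutes' := fun r => (hC r).symm }
    let gR : R' →ₐ[O] P' :=
      { (algebraMap (Polynomial R') P').comp Polynomial.C with commutes' := fun r => rfl }
    let inv : A' →ₐ[O] P' := Algebra.TensorProduct.lift gS gR fun a b => (Commute.all (gS a : P') (gR b) :)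
    have h1 : ∀ a, e (inv a) = a := fun a => by
      induction a using TensorProduct.induction_on with
      | zero => simp
      | add a b ha hb => rw [map_add, map_add, ha, hb]
      | tmul s r =>
        rw [Algebra.TensorProduct.lift_tmul, map_mul]
        show e ((1 : Polynomial R') ⊗ₜ[Polynomial O] s) * e (Polynomial.C r ⊗ₜ[Polynomial O] (1 : S)) = _
        simp only [e, Algebra.TensorProduct.lift_tmul, map_one, one_mul, mul_one]
        show incS s * φ (Polynomial.C r) = _
        rw [Polynomial.coe_eval₂RingHom, Polynomial.eval₂_C]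
        show (s ⊗ₜ[O] (1 : R')) * ((1 : S) ⊗ₜ[O] r) = s ⊗ₜ[O] r
        rw [Algebra.TensorProduct.tmul_mul_tmul, mul_one, one_mul]
    have hinv : ∀ (s : S) (r : R'), inv (s ⊗ₜ[O] r) = gS s * gR r := fun s r =>
      Algebra.TensorProduct.lift_tmul (A := S) (B := R') gS gR _ s r
    have h2 : ∀ a, inv (e a) = a := fun a => by
      induction a using TensorProduct.induction_on with
      | zero => simp
      | add a b ha hb => rw [map_add, map_add, ha, hb]
      | tmul q s =>
        have hq : inv (φ q) = algebraMap (Polynomial R') P' q := by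
          refine RingHom.congr_fun (f := inv.toRingHom.comp φ) (g := algebraMap (Polynomial R') P')
            (Polynomial.ringHom_ext (fun r => ?_) ?_) q
          · show inv (φ (Polynomial.C r)) = _
            rw [Polynomial.coe_eval₂RingHom, Polynomial.eval₂_C]
            exact (hinv 1 r).trans (by rw [map_one, one_mul]; rfl)
          · show inv (φ Polynomial.X) = _
            rw [Polynomial.coe_eval₂RingHom, Polynomial.eval₂_X]
            refine (hinv _ 1).trans ?_
            rw [map_one, mul_one]
            show (1 : Polynomial R') ⊗ₜ[Polynomial O] algebraMap (Polynomial O) S Polynomial.X = Polynomial.X ⊗ₜ 1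
            rw [Algebra.algebraMap_eq_smul_one (A := S), ← TensorProduct.smul_tmul, Algebra.smul_def, mul_one]
            show (Polynomial.X : Polynomial O).map (algebraMap O R') ⊗ₜ[Polynomial O] (1 : S) = _
            rw [Polynomial.map_X]
        simp only [e, Algebra.TensorProduct.lift_tmul]
        rw [map_mul]
        show inv (φ q) * inv (incS s) = _
        rw [hq]
        refine (congrArg (algebraMap (Polynomial R') P' q * ·) ((hinv s 1).trans (by rw [map_one, mul_one]))).trans ?_
        show (q ⊗ₜ[Polynomial O] (1 : S)) * ((1 : Polynomial R') ⊗ₜ[Polynomial O] s) = _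
        rw [Algebra.TensorProduct.tmul_mul_tmul, mul_one, one_mul]
    exact Groth.L27.Acyclic0.weaklyEtale_of_equiv (AlgEquiv.ofBijective e
      ⟨fun a b h => by rw [← h2 a, h, h2], fun a => ⟨inv a, h1 a⟩⟩)
  letI algA : Algebra (Polynomial R') A' := φ'.toAlgebra
  haveI : Algebra.WeaklyEtale (Polynomial R') A' := by
    let σ : Polynomial R' →+* Polynomial R' := Polynomial.eval₂RingHom Polynomial.C (Polynomial.X - Polynomial.C t)
    let σ' : Polynomial R' →+* Polynomial R' := Polynomial.eval₂RingHom Polynomial.C (Polynomial.X + Polynomial.C t)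
    have hσ : Function.Bijective σ := by
      refine Function.bijective_iff_has_inverse.2 ⟨σ', fun q => ?_, fun q => ?_⟩
      · refine RingHom.congr_fun (f := σ'.comp σ) (g := RingHom.id _) (Polynomial.ringHom_ext (fun r => ?_) ?_) q <;>
          simp [σ, σ']
      · refine RingHom.congr_fun (f := σ.comp σ') (g := RingHom.id _) (Polynomial.ringHom_ext (fun r => ?_) ?_) q <;>
          simp [σ, σ']
    have hφ' : φ' = φ.comp σ := Polynomial.ringHom_ext (fun r => by simp [φ, φ', σ]) (by simp [φ, φ', σ])
    exact @weaklyEtale_comp_equiv _ _ A' _ _ _ φ'.toAlgebra φ.toAlgebra hWE σ hσ hφ'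
  have hcst : cst (R := R') (A := A') = incR := RingHom.ext fun r => Polynomial.eval₂_C _ _
  haveI : IsLocalHom (cst (R := R') (A := A')) := by rw [hcst]; infer_instance
  have hX : algebraMap (Polynomial R') A' Polynomial.X ∈ maximalIdeal A' := by
    rw [← residue_eq_zero_iff, show algebraMap (Polynomial R') A' Polynomial.X = xA - incR t from
      Polynomial.eval₂_X _ _, map_sub, ← ht, sub_eq_zero]
    exact ResidueField.map_residue _ _
  have hres' : Function.Surjective ((residue A').comp (cst (R := R') (A := A'))) := fun z => by
    obtain ⟨w, rfl⟩ := hres z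
    obtain ⟨w, rfl⟩ := residue_surjective w
    exact ⟨w, by rw [RingHom.comp_apply, hcst]; exact (ResidueField.map_residue _ _).symm⟩
  -- the generic fibre
  let valK : R' →ₐ[O] K := R'.val
  let j : A' →+* S ⊗[O] K := (Algebra.TensorProduct.map (AlgHom.id O S) valK).toRingHom
  haveI : Module.Flat O S := Module.Flat.trans O (Polynomial O) S
  have hj : Function.Injective j :=
    Module.Flat.lTensor_preserves_injective_linearMap valK.toLinearMap Subtype.val_injective
  have hjt : ∀ (s : S) (r : R'), j (s ⊗ₜ[O] r) = s ⊗ₜ[O] (r : K) := fun s r =>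
    Algebra.TensorProduct.map_tmul (AlgHom.id O S) valK s r
  have hjR : ∀ r : R', j (incR r) = (1 : S) ⊗ₜ[O] (r : K) := fun r => hjt 1 r
  have huR : ∀ r : R', r ≠ 0 → IsUnit (j (cst (R := R') (A := A') r)) := fun r hr => by
    rw [hcst, hjR]
    exact (isUnit_iff_ne_zero.2 fun h => hr (Subtype.ext h)).map
      (Algebra.TensorProduct.includeRight (R := O) (A := S) (B := K))
  have hu' : IsUnit (ℓ : R') := by simpa using hu.map (algebraMap O R')
  refine subsingleton_H1 hX hres' j hj (fun z => ?_) huR hℓ hu' (fun b hb => ?_)
  · induction z using TensorProduct.induction_on with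
    | zero => exact ⟨1, 0, one_ne_zero, by simp⟩
    | add z w hz hw =>
      obtain ⟨b, a, hb, h⟩ := hz
      obtain ⟨b', a', hb', h'⟩ := hw
      refine ⟨b * b', cst b' * a + cst b * a', mul_ne_zero hb hb', ?_⟩
      rw [map_mul, map_mul, map_add, map_mul, map_mul, ← h, ← h']
      ring
    | tmul s x =>
      obtain ⟨b, hb, hbx⟩ := exists_multiple hK x
      refine ⟨b, s ⊗ₜ[O] ⟨_, hbx⟩, hb, ?_⟩
      rw [hcst, hjR, Algebra.TensorProduct.tmul_mul_tmul, one_mul]
      exact (hjt s ⟨_, hbx⟩).symm
  · obtain ⟨x, hx⟩ := IsAlgClosed.exists_pow_nat_eq (b : K) hℓ.pos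
    have hx0 : x ≠ 0 := fun h => hb (Subtype.ext (by rw [← hx, h, zero_pow hℓ.ne_zero]; rfl))
    refine ⟨Units.map (Algebra.TensorProduct.includeRight (R := O) (A := S) (B := K)).toRingHom.toMonoidHom
      (Units.mk0 x hx0), ?_⟩
    rw [hcst, hjR, ← hx]
    simp [Algebra.TensorProduct.tmul_pow]

end Main

end Groth.L27.SmoothLA
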