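import Groth.Agent.L27.SmoothLA.Core
import Mathlib.RingTheory.Ideal.MinimalPrime.Noetherian

/-! # Descent of roots from formal series -/

set_option autoImplicit false
set_option linter.style.haveILetI false
set_option linter.unusedSectionVars false
set_option backward.isDefEq.respectTransparency.types false

universe u

open IsLocalRing

noncomputable section

namespace Groth.L27.SmoothLA

open Polynomial (coeToPowerSeries.ringHom)

variable {R : Type u} [CommRing R] [IsDomain R] [IsNoetherianRing R] [IsIntegrallyClosed R] [IsLocalRing R]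
  {A : Type u} [CommRing A] [IsDomain A] [IsIntegrallyClosed A] [IsNoetherianRing A]
  [HenselianLocalRing A] [IsSepClosed (ResidueField A)]
  [Algebra (Polynomial R) A] [Algebra.WeaklyEtale (Polynomial R) A]

/-- A uniformiser avoiding finitely many other height one primes. -/
theorem exists_uni_avoid {P : Ideal A} [P.IsPrime] (hP : P.height = 1) (S : Finset (Ideal A))
    (hS : ∀ Q ∈ S, Q.IsPrime ∧ ¬ P ≤ Q) : ∃ t : A, Uni P t ∧ ∀ Q ∈ S, t ∉ Q := by
  classical
  haveI := Groth.S7125aux.isDVR_of_height_eq_one P hP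
  obtain ⟨u, hu⟩ := exists_uni hP
  let D := Localization.AtPrime P
  let Q₂ : Ideal A := ((maximalIdeal D) ^ 2).comap (algebraMap A D)
  have hnot : ¬ P ≤ Q₂ := fun h => by
    have h1 := h hu.mem
    rw [Ideal.mem_comap, hu.maximalIdeal_eq, Ideal.span_singleton_pow, Ideal.mem_span_singleton] at h1
    have h2 : ¬ IsUnit (algebraMap A D u) := hu.not_isUnit
    obtain ⟨e, he⟩ := h1
    rw [pow_two, mul_assoc] at he
    exact h2 (IsUnit.of_mul_eq_one e (mul_left_cancel₀ hu.ne_zero ((mul_one _).trans he)).symm)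
  have havoid : ¬ ((P : Set A) ⊆ ⋃ i ∈ (↑(insert Q₂ S) : Set (Ideal A)), (id i : Ideal A)) := by
    rw [Ideal.subset_union_prime (f := id) Q₂ Q₂ (fun i hi hne _ =>
      (hS i ((Finset.mem_insert.1 hi).resolve_left hne)).1)]
    rintro ⟨i, hi, hle⟩
    rcases Finset.mem_insert.1 hi with rfl | hi
    · exact hnot hle
    · exact (hS i hi).2 hle
  obtain ⟨t, htP, ht⟩ := Set.not_subset.1 havoid
  simp only [Finset.coe_insert, Set.mem_insert_iff, Finset.mem_coe, Set.iUnion_iUnion_eq_or_left, Set.mem_union,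
    Set.mem_iUnion, id, SetLike.mem_coe, not_or, not_exists] at ht
  refine ⟨t, ?_, fun Q hQ => ht.2 Q hQ⟩
  show Irreducible (algebraMap A D t)
  have ht0 : algebraMap A D t ≠ 0 := fun h => ht.1 (by
    rw [Ideal.mem_comap, h]; exact zero_mem _)
  obtain ⟨m, v, hm⟩ := IsDiscreteValuationRing.eq_unit_mul_pow_irreducible ht0 hu
  match m with
  | 0 =>
    exact absurd ((IsLocalization.AtPrime.isUnit_to_map_iff D P t).1 (by rw [hm, pow_zero, mul_one]; exact v.isUnit))
      (not_not.2 htP)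
  | 1 => rw [hm, pow_one]; exact (irreducible_units_mul v).2 hu
  | m + 2 =>
    refine absurd ?_ ht.1
    rw [Ideal.mem_comap, hm, pow_add, hu.maximalIdeal_eq, Ideal.span_singleton_pow, Ideal.mem_span_singleton]
    exact (dvd_mul_left _ _).mul_left _

variable (ι : A →+* PowerSeries R) [IsLocalHom ι] (hι : ∀ p : Polynomial R, ι (algebraMap (Polynomial R) A p) = p)
  {ℓ : ℕ} (hℓ : ℓ.Prime) (hu : IsUnit (ℓ : R)) (ζ : R) (hζ : IsPrimitiveRoot ζ ℓ)

include hι hℓ hu hζ in
/-- A function which is a unit times a power in codimension one away from `g` becomes a power after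
multiplication by a constant. -/
theorem exists_mul_pow_eq {c : A} (hc : c ≠ 0) {g : R} (hg : g ≠ 0) (H : LocPow ℓ c g) :
    ∃ (α : R) (x : A), α ≠ 0 ∧ c * cst α ^ (ℓ - 1) = x ^ ℓ := by
  classical
  obtain ⟨α, z, hα, hz⟩ := exists_series_root ι hι hℓ hu ζ hζ hc hg H
  let c₁ := c * cst α ^ (ℓ - 1)
  have hinj := injective_ι ι hι
  have hcα : cst (A := A) α ≠ 0 := fun h => hα (by
    have := congrArg ι h
    rw [ι_cst ι hι, map_zero] at this
    exact PowerSeries.C_injective (this.trans (map_zero _).symm))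
  have hc₁ : c₁ ≠ 0 := mul_ne_zero hc (pow_ne_zero _ hcα)
  have H₁ : LocPow ℓ c₁ (g * α) := fun P hP hgP hh => by
    rw [map_mul] at hgP
    obtain ⟨a, b, r, s, ha, hb, hr, hs, h⟩ := H P hP (fun h => hgP (P.mul_mem_right _ h)) hh
    refine ⟨a * cst α ^ (ℓ - 1), b, r, s, fun h' => ?_, hb, hr, hs, ?_⟩
    · rcases hP.mem_or_mem h' with h'' | h''
      · exact ha h''
      · exact hgP (P.mul_mem_left _ (hP.mem_of_pow_mem _ h''))
    · calc c * cst α ^ (ℓ - 1) * b * s ^ ℓ = c * b * s ^ ℓ * cst α ^ (ℓ - 1) := by ring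
        _ = _ := by rw [h]; ring
  have hz0 : z ≠ 0 := fun h => hc₁ (hinj (by rw [hz, h, map_zero, zero_pow hℓ.ne_zero]))
  -- the divisor of `c₁`
  let M := Ideal.finite_minimalPrimes_of_isNoetherianRing A (Ideal.span {c₁})
  let S : Finset (Ideal A) := M.toFinset
  have hS : ∀ P ∈ S, P.IsPrime ∧ P.height = 1 := fun P hP => by
    have hP' : P ∈ (Ideal.span {c₁}).minimalPrimes := M.mem_toFinset.1 hP
    haveI := hP'.1.1
    exact ⟨hP'.1.1, height_eq_one (fun h => hc₁ (by
      have h1 := hP'.1.2 (Ideal.mem_span_singleton_self c₁)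
      rwa [h, Ideal.mem_bot] at h1)) (Ideal.height_le_one_of_isPrincipal_of_mem_minimalPrimes _ P hP')⟩
  have hmem : ∀ (P : Ideal A), P.IsPrime → c₁ ∈ P → P.height ≤ 1 → P ∈ S := fun P hP hcP hh => by
    refine M.mem_toFinset.2 ⟨⟨hP, (Ideal.span_singleton_le_iff_mem _).2 hcP⟩, fun Q ⟨hQ, hQc⟩ hQP => ?_⟩
    haveI := hP
    haveI := hQ
    refine (eq_of_le_of_height_le_one (fun h => hc₁ ?_) hQP hh).ge
    have h1 := hQc (Ideal.mem_span_singleton_self c₁)
    rwa [h, Ideal.mem_bot] at h1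
  have hne : ∀ P ∈ S, ∀ Q ∈ S.erase P, Q.IsPrime ∧ ¬ P ≤ Q := fun P hP Q hQ => by
    obtain ⟨hQne, hQS⟩ := Finset.mem_erase.1 hQ
    haveI := (hS Q hQS).1
    haveI := (hS P hP).1
    refine ⟨(hS Q hQS).1, fun h => hQne ?_⟩
    exact (eq_of_le_of_height_le_one (Ideal.ne_bot_of_height_eq_one (hS P hP).2) h (hS Q hQS).2.le).symm
  have hex : ∀ P : S, ∃ t : A, (haveI := (hS P.1 P.2).1; Uni P.1 t) ∧ ∀ Q ∈ S.erase P.1, t ∉ Q := fun P => by
    haveI := (hS P.1 P.2).1
    exact exists_uni_avoid (hS P.1 P.2).2 (S.erase P.1) (hne P.1 P.2)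
  choose t ht htQ using hex
  let e : S → ℕ := fun P => haveI := (hS P.1 P.2).1; (ℓ - 1) * (val P.1 (t P) c₁ / ℓ)
  let b := ∏ P ∈ S.attach, t P ^ e P
  have ht0 : ∀ P : S, t P ≠ 0 := fun P h => by
    haveI := (hS P.1 P.2).1
    exact (ht P).ne_zero (by rw [h, map_zero])
  have hb : b ≠ 0 := Finset.prod_ne_zero_iff.2 fun P _ => pow_ne_zero _ (ht0 P)
  -- multiplicities upstairs
  have key : ∀ (T : Type u) [CommRing T] [IsDomain T] [IsNoetherianRing T] [UniqueFactorizationMonoid T]
      (j : PowerSeries R →+* T), (j.comp coeToPowerSeries.ringHom).Flat → Function.Injective j →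
      (∀ q : T, Prime q → q ∣ j z → multiplicity q (j (ι b)) = (ℓ - 1) * multiplicity q (j z)) := by
    intro T _ _ _ _ j hj hjinj q hq hqz
    let f := j.comp ι
    have hf : Function.Injective f := hjinj.comp hinj
    haveI : (Ideal.span {q}).IsPrime := (Ideal.span_singleton_prime hq.ne_zero).2 hq
    let P₀ := (Ideal.span {q}).comap f
    haveI : P₀.IsPrime := Ideal.IsPrime.comap f
    have hP₀ : P₀ ∈ S := hmem P₀ ‹_› (by
      rw [Ideal.mem_comap, Ideal.mem_span_singleton, RingHom.comp_apply, hz, map_pow]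
      exact dvd_pow hqz hℓ.ne_zero) (height_comap_span_le f (flat_comp ι hι j hj) hq)
    let P : S := ⟨P₀, hP₀⟩
    have hval : val P₀ (t P) b = e P := by
      have hrest : ∏ Q ∈ S.attach.erase P, t Q ^ e Q ∉ P₀ := by
        refine fun h => ?_
        obtain ⟨Q, hQ, hQ'⟩ := (Ideal.IsPrime.prod_mem_iff (hp := ‹P₀.IsPrime›)).1 h
        refine htQ Q P₀ (Finset.mem_erase.2 ⟨fun h' => (Finset.mem_erase.1 hQ).1 (Subtype.ext h'.symm), hP₀⟩)
          (Ideal.IsPrime.mem_of_pow_mem ‹_› _ hQ')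
      show val P₀ (t P) (∏ Q ∈ S.attach, t Q ^ e Q) = e P
      rw [← Finset.mul_prod_erase _ _ (Finset.mem_attach S P),
        val_mul (hS P₀ hP₀).2 (ht P) (pow_ne_zero _ (ht0 P))
          (Finset.prod_ne_zero_iff.2 fun Q _ => pow_ne_zero _ (ht0 Q)),
        val_eq_zero (hS P₀ hP₀).2 (ht P) hrest, add_zero, val_pow (hS P₀ hP₀).2 (ht P) (ht0 P),
        show val P₀ (t P) (t P) = 1 by
          haveI := Groth.S7125aux.isDVR_of_height_eq_one P₀ (hS P₀ hP₀).2
          exact (congrArg (multiplicity _) (pow_one _).symm).trans (multiplicity_pow_self_of_prime (ht P).prime 1),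
        mul_one]
    obtain ⟨k, hk⟩ := dvd_val ι hι hℓ.ne_zero hc₁ hz (mul_ne_zero hg hα) H₁ (hS P₀ hP₀).2 (ht P)
    have h1 : multiplicity q (f c₁) = val P₀ (t P) c₁ * multiplicity q (f (t P)) :=
      multiplicity_map (hS P₀ hP₀).2 (ht P) f hf hq rfl hc₁
    have h2 : multiplicity q (f b) = val P₀ (t P) b * multiplicity q (f (t P)) :=
      multiplicity_map (hS P₀ hP₀).2 (ht P) f hf hq rfl hb
    have hjz : j z ≠ 0 := fun h => hz0 (hjinj (h.trans (map_zero j).symm))
    rw [RingHom.comp_apply, hz, map_pow, mult_pow hq hjz, hk] at h1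
    have h3 : multiplicity q (j z) = k * multiplicity q (f (t P)) :=
      Nat.eq_of_mul_eq_mul_left hℓ.pos (h1.trans (mul_assoc _ _ _))
    have he : e P = (ℓ - 1) * k := by
      show (ℓ - 1) * (val P₀ (t P) c₁ / ℓ) = _
      rw [hk, Nat.mul_div_cancel_left _ hℓ.pos]
    show multiplicity q (f b) = _
    rw [h2, hval, he, h3, mul_assoc]
  let K := FractionRing R
  have hflatK := flat_map_coe (R := R) K (nonZeroDivisors R)
  have hinjK : Function.Injective (PowerSeries.map (algebraMap R K)) :=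
    PowerSeries.map_injective _ (IsFractionRing.injective R K)
  have hinjD : ∀ (p : Ideal R) [p.IsPrime],
      Function.Injective (PowerSeries.map (algebraMap R (Localization.AtPrime p))) := fun p _ =>
    PowerSeries.map_injective _ (IsLocalization.injective _ (Ideal.primeCompl_le_nonZeroDivisors p))
  obtain ⟨n, rfl⟩ : ∃ n, ℓ = n + 1 := ⟨ℓ - 1, by have := hℓ.pos; omega⟩
  simp only [Nat.add_sub_cancel] at key ⊢
  have hιb : ι b ≠ 0 := fun h => hb (hinj (h.trans (map_zero ι).symm))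
  obtain ⟨b', hb'⟩ : z ^ n ∣ ι b := by
    refine dvd_of_forall (pow_ne_zero _ hz0) ?_ fun p _ hp => ?_
    · refine dvd_of_mult_le (fun h => pow_ne_zero _ hz0 (hinjK (h.trans (map_zero _).symm))) fun q hq hqz => ?_
      rw [map_pow, mult_pow hq (fun h => hz0 (hinjK (h.trans (map_zero _).symm)))]
      exact (key _ _ hflatK hinjK q hq (hq.dvd_of_dvd_pow (map_pow (PowerSeries.map (algebraMap R K)) z n ▸ hqz))).ge
    · haveI := Groth.S7125aux.isDVR_of_height_eq_one p hp
      refine dvd_of_mult_le (fun h => pow_ne_zero _ hz0 (hinjD p (h.trans (map_zero _).symm))) fun q hq hqz => ?_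
      rw [map_pow, mult_pow hq (fun h => hz0 (hinjD p (h.trans (map_zero _).symm)))]
      exact (key _ _ (flat_map_coe _ p.primeCompl) (hinjD p) q hq (hq.dvd_of_dvd_pow
        (map_pow (PowerSeries.map (algebraMap R (Localization.AtPrime p))) z n ▸ hqz))).ge
  have hcop : ∀ a : A, c₁ ∣ a * b → z ∣ ι a := fun a hab => by
    have h1 : z ^ (n + 1) ∣ ι a * ι b := by rw [← hz, ← map_mul]; exact map_dvd ι hab
    refine dvd_of_forall hz0 ?_ fun p _ hp => ?_
    · refine dvd_of_exact (fun h => hz0 (hinjK (h.trans (map_zero _).symm)))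
        (fun h => hιb (hinjK (h.trans (map_zero _).symm))) (key _ _ hflatK hinjK) ?_
      rw [← map_pow, ← map_mul]
      exact map_dvd _ h1
    · haveI := Groth.S7125aux.isDVR_of_height_eq_one p hp
      refine dvd_of_exact (fun h => hz0 (hinjD p (h.trans (map_zero _).symm)))
        (fun h => hιb (hinjD p (h.trans (map_zero _).symm))) (key _ _ (flat_map_coe _ p.primeCompl) (hinjD p)) ?_
      rw [← map_pow, ← map_mul]
      exact map_dvd _ h1
  -- `z` is a combination of elements of the ideal `(c₁ : b)`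
  letI := ι.toAlgebra
  haveI : Module.Flat A (PowerSeries R) := flat_ι ι hι
  obtain ⟨m, a, y, hy, hrel⟩ := Module.Flat.isTrivialRelation_of_sum_smul_eq_zero
    (R := A) (M := PowerSeries R) (f := ![b, -c₁]) (x := ![z, b']) (by
      rw [Fin.sum_univ_two]
      show ι b * z + ι (-c₁) * b' = 0
      rw [hb', map_neg, hz]
      ring)
  have ha : ∀ i, c₁ ∣ a 0 i * b := fun i => by
    have h := hrel i
    rw [Fin.sum_univ_two] at h
    exact ⟨a 1 i, by
      simp only [Matrix.cons_val_zero, Matrix.cons_val_one] at h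
      linear_combination h⟩
  choose d hd using fun i => hcop (a 0 i) (ha i)
  have hsum : (1 : PowerSeries R) = ∑ i, d i * y i := by
    refine mul_left_cancel₀ hz0 ?_
    rw [mul_one, Finset.mul_sum]
    refine (show z = ![z, b'] 0 from rfl).trans ((hy 0).trans (Finset.sum_congr rfl fun i _ => ?_))
    show ι (a 0 i) * y i = _
    rw [hd i, mul_assoc]
  obtain ⟨i, hi⟩ : ∃ i, IsUnit (d i * y i) := by
    by_contra hno
    push Not at hno
    have h1 : (1 : PowerSeries R) ∈ maximalIdeal (PowerSeries R) :=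
      hsum ▸ Ideal.sum_mem _ fun i _ => (mem_maximalIdeal _).2 (hno i)
    exact (mem_maximalIdeal _).1 h1 isUnit_one
  have hdu : IsUnit (d i) := isUnit_of_mul_isUnit_left hi
  let x := a 0 i
  obtain ⟨δ₀, hδ₀⟩ : c₁ ∣ x ^ (n + 1) := dvd_of_ι ι hι (by
    rw [map_pow, show ι x = z * d i from hd i, mul_pow, ← hz]
    exact dvd_mul_right _ _)
  have hδu : IsUnit δ₀ := by
    refine isUnit_of_map_unit ι δ₀ ?_
    have h1 : ι c₁ * ι δ₀ = ι c₁ * d i ^ (n + 1) := by
      rw [← map_mul, ← hδ₀, map_pow, show ι x = z * d i from hd i, mul_pow, ← hz]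
    rw [mul_left_cancel₀ (fun h => hc₁ (hinj (h.trans (map_zero ι).symm))) h1]
    exact hdu.pow _
  have huA : IsUnit ((n + 1 : ℕ) : A) := by simpa using hu.map (cst (R := R) (A := A))
  obtain ⟨δ, hδ⟩ : ∃ δ : A, δ ^ (n + 1) = δ₀ := by
    have hne : (residue A δ₀) ≠ 0 := (residue_ne_zero_iff_isUnit δ₀).2 hδu
    have hnk : ((n + 1 : ℕ) : ResidueField A) ≠ 0 := by
      rw [← map_natCast (residue A)]; exact (huA.map (residue A)).ne_zero
    obtain ⟨r, hr⟩ := IsSepClosed.exists_root (Polynomial.X ^ (n + 1) - Polynomial.C (residue A δ₀))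
      (by rw [Polynomial.degree_X_pow_sub_C (Nat.succ_pos n)]; exact_mod_cast Nat.succ_ne_zero n)
      (Polynomial.separable_X_pow_sub_C _ hnk hne)
    obtain ⟨r, rfl⟩ := residue_surjective r
    have hr' : residue A r ^ (n + 1) = residue A δ₀ := by simpa [Polynomial.IsRoot, sub_eq_zero] using hr
    obtain ⟨δ, hδ, -⟩ := HenselianLocalRing.is_henselian (Polynomial.X ^ (n + 1) - Polynomial.C δ₀)
      (Polynomial.monic_X_pow_sub_C δ₀ (Nat.succ_ne_zero n)) r (by
        rw [← residue_eq_zero_iff]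
        simp [hr']) (by
        rw [Polynomial.derivative_sub, Polynomial.derivative_C, sub_zero, Polynomial.derivative_X_pow,
          Polynomial.eval_mul, Polynomial.eval_C, Polynomial.eval_pow, Polynomial.eval_X]
        refine huA.mul (IsUnit.pow _ ((residue_ne_zero_iff_isUnit r).1 fun h => hne ?_))
        rw [← hr', h, zero_pow (Nat.succ_ne_zero n)])
    exact ⟨δ, by simpa [Polynomial.IsRoot, sub_eq_zero] using hδ⟩
  obtain ⟨δu, rfl⟩ := (isUnit_pow_iff (Nat.succ_ne_zero n)).1 (hδ.symm ▸ hδu)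
  refine ⟨α, x * ↑δu⁻¹, hα, ?_⟩
  show c₁ = _
  rw [mul_pow, hδ₀, ← hδ, mul_assoc, ← mul_pow, Units.mul_inv, one_pow, mul_one]

end Groth.L27.SmoothLA
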