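import Mathlib.RingTheory.PowerSeries.Order
import Mathlib.RingTheory.PowerSeries.Inverse
import Mathlib.RingTheory.PowerSeries.Ideal
import Mathlib.RingTheory.AdicCompletion.AsTensorProduct
import Mathlib.RingTheory.MvPowerSeries.Equiv
import Mathlib.RingTheory.UniqueFactorizationDomain.Multiplicity
import Mathlib.RingTheory.IntegralClosure.IntegrallyClosed
import Mathlib.RingTheory.Henselian
import Groth.Agent.L01.NagataComplete
import Groth.Agent.S2111

/-! # Roots of power series -/

set_option autoImplicit false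
set_option linter.style.haveILetI false
set_option linter.unusedSectionVars false

universe u

open PowerSeries

noncomputable section

namespace Groth.L27.SmoothLA

variable {S : Type u} [CommRing S]

/-- The lowest coefficient, as a monoid homomorphism. -/
def lc [IsDomain S] : S⟦X⟧ →* S :=
  (constantCoeff (R := S)).toMonoidHom.comp PowerSeries.divXPowOrderHom

theorem lc_apply [IsDomain S] (f : S⟦X⟧) : lc f = constantCoeff (divXPowOrder f) := rfl

theorem lc_ne_zero [IsDomain S] {f : S⟦X⟧} (hf : f ≠ 0) : lc f ≠ 0 := fun h =>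
  hf (constantCoeff_divXPowOrder_eq_zero_iff.1 h)

theorem lc_of_constantCoeff [IsDomain S] {f : S⟦X⟧} (hf : constantCoeff f ≠ 0) : lc f = constantCoeff f := by
  have h : f.order = 0 := by
    rw [← nonpos_iff_eq_zero]
    exact order_le 0 (by rwa [coeff_zero_eq_constantCoeff])
  rw [lc_apply, constantCoeff_divXPowOrder, h]
  simp

theorem lc_C [IsDomain S] (a : S) : lc (C a : S⟦X⟧) = a := by
  rcases eq_or_ne a 0 with rfl | ha
  · simp [lc_apply]
  · rw [lc_of_constantCoeff (by simpa using ha), constantCoeff_C]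

theorem lc_map {T : Type u} [CommRing T] [IsDomain S] [IsDomain T] (φ : S →+* T) (hφ : Function.Injective φ)
    (f : S⟦X⟧) : lc (PowerSeries.map φ f) = φ (lc f) := by
  rcases eq_or_ne f 0 with rfl | hf
  · simp [lc_apply]
  have h : (PowerSeries.map φ f).order = f.order := by
    refine order_eq.2 ⟨fun i hi => ?_, fun i hi => ?_⟩
    · rw [PowerSeries.coeff_map]
      intro h0
      obtain ⟨h1, -⟩ := order_eq.1 (rfl : f.order = f.order)
      exact h1 i hi (hφ (h0.trans (map_zero φ).symm))
    · rw [PowerSeries.coeff_map]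
      obtain ⟨-, h2⟩ := order_eq.1 (rfl : f.order = f.order)
      rw [h2 i hi, map_zero]
  rw [lc_apply, lc_apply, constantCoeff_divXPowOrder, constantCoeff_divXPowOrder, h, PowerSeries.coeff_map]

/-- Series with constant term a power of a unit are powers. -/
theorem exists_root_of_constantCoeff {n : ℕ} (hn : n ≠ 0) (hu : IsUnit (n : S)) (f : S⟦X⟧) (β : S)
    (hβ : IsUnit β) (hf : constantCoeff f = β ^ n) : ∃ v : S⟦X⟧, v ^ n = f ∧ constantCoeff v = β := by
  haveI := Groth.L01.NagataComplete.isAdicComplete_span_X S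
  haveI : HenselianRing S⟦X⟧ (Ideal.span {(X : S⟦X⟧)}) := IsAdicComplete.henselianRing _ _
  have hmem : ∀ h : S⟦X⟧, h ∈ Ideal.span {(X : S⟦X⟧)} ↔ constantCoeff h = 0 := fun h => by
    rw [Ideal.mem_span_singleton, X_dvd_iff]
  obtain ⟨v, hv, hv'⟩ := HenselianRing.is_henselian (R := S⟦X⟧) (I := Ideal.span {(X : S⟦X⟧)})
    (Polynomial.X ^ n - Polynomial.C f) (Polynomial.monic_X_pow_sub_C f hn) (C β)
    (by rw [hmem]; simp [hf])
    (by
      refine IsUnit.map _ ?_
      rw [Polynomial.derivative_sub, Polynomial.derivative_C, sub_zero, Polynomial.derivative_X_pow,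
        Polynomial.eval_mul, Polynomial.eval_C, Polynomial.eval_pow, Polynomial.eval_X]
      exact (by simpa using hu.map (C (R := S)) : IsUnit (n : S⟦X⟧)).mul ((hβ.map C).pow _))
  refine ⟨v, ?_, ?_⟩
  · simpa [Polynomial.IsRoot, sub_eq_zero] using hv
  · rw [hmem, map_sub, constantCoeff_C, sub_eq_zero] at hv'
    exact hv'

/-- A unit times an `n`-th power whose lowest coefficient is an `n`-th power is an `n`-th power. -/
theorem exists_root_of_lc [IsDomain S] [IsIntegrallyClosed S] {n : ℕ} (hn : n ≠ 0) (hu : IsUnit (n : S))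
    {f u w : S⟦X⟧} (hu' : IsUnit u) (hf : f = u * w ^ n) {α : S} (hα : α ≠ 0) (hlc : lc f = α ^ n) :
    ∃ z : S⟦X⟧, z ^ n = f := by
  have hc : IsUnit (constantCoeff u) := hu'.map _
  have h1 : constantCoeff u * lc w ^ n = α ^ n := by
    rw [← hlc, hf, map_mul, map_pow, lc_of_constantCoeff hc.ne_zero]
  obtain ⟨β, hβ⟩ := (IsIntegrallyClosed.pow_dvd_pow_iff hn).1 ⟨constantCoeff u, h1.symm.trans (mul_comm _ _)⟩
  have hw : lc w ≠ 0 := fun h => hα (by rw [hβ, h, zero_mul])
  have h2 : constantCoeff u = β ^ n := by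
    refine mul_right_cancel₀ (pow_ne_zero n hw) ?_
    rw [h1, hβ, mul_pow, mul_comm]
  obtain ⟨v, hv, -⟩ := exists_root_of_constantCoeff hn hu u β ((isUnit_pow_iff hn).1 (h2 ▸ hc)) h2
  exact ⟨v * w, by rw [mul_pow, hv, hf]⟩

theorem flat_powerSeries (R : Type u) [CommRing R] [IsNoetherianRing R] :
    ((Polynomial.coeToPowerSeries.ringHom : Polynomial R →+* PowerSeries R)).Flat := by
  let P := MvPolynomial Unit R
  let C₀ := AdicCompletion (MvPolynomial.idealOfVars Unit R) P
  haveI : Module.Flat P C₀ := inferInstance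
  haveI : Module.Flat P (MvPowerSeries Unit R) :=
    Module.Flat.of_linearEquiv (MvPowerSeries.toAdicCompletionAlgEquiv Unit R).toLinearEquiv
  have h1 : (algebraMap P (MvPowerSeries Unit R)).Flat := RingHom.flat_algebraMap_iff.2 inferInstance
  let e : Polynomial R ≃+* P := (MvPolynomial.uniqueAlgEquiv R Unit).symm.toRingEquiv
  have h : (Polynomial.coeToPowerSeries.ringHom : Polynomial R →+* PowerSeries R) =
      (algebraMap P (MvPowerSeries Unit R)).comp e.toRingHom := by
    refine Polynomial.ringHom_ext (fun a => ?_) ?_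
    · simp [e, P, PowerSeries.C, MvPowerSeries.algebraMap_apply']
    · simp [e, P, PowerSeries.X, MvPowerSeries.algebraMap_apply']
  rw [h]
  exact RingHom.Flat.comp (RingHom.Flat.of_bijective e.bijective) h1

section UFD

variable {T : Type u} [CommRing T] [IsDomain T] [UniqueFactorizationMonoid T]

theorem finite_of_prime {q x : T} (hq : Prime q) (hx : x ≠ 0) : FiniteMultiplicity q x :=
  FiniteMultiplicity.of_prime_left hq hx

theorem mult_mul {q a b : T} (hq : Prime q) (ha : a ≠ 0) (hb : b ≠ 0) :
    multiplicity q (a * b) = multiplicity q a + multiplicity q b :=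
  multiplicity_mul hq (finite_of_prime hq (mul_ne_zero ha hb))

theorem mult_pow {q a : T} (hq : Prime q) (ha : a ≠ 0) (k : ℕ) :
    multiplicity q (a ^ k) = k * multiplicity q a :=
  (finite_of_prime hq ha).multiplicity_pow hq

theorem mult_prime {p q : T} (hp : Prime p) (hq : Prime q) [Decidable (Associated q p)] :
    multiplicity q p = if Associated q p then 1 else 0 := by
  split_ifs with h
  · obtain ⟨v, rfl⟩ := h
    rw [mult_mul hq hq.ne_zero v.ne_zero, multiplicity_eq_zero.2 (fun h => hq.not_isUnit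
      (isUnit_of_dvd_unit h v.isUnit)), add_zero]
    simpa using multiplicity_pow_self_of_prime hq 1
  · exact multiplicity_eq_zero.2 fun h' => h (hq.associated_of_dvd hp h')

/-- An element all of whose multiplicities away from `π` are divisible by `n`. -/
theorem exists_unit_mul_pow {n : ℕ} (hn : n ≠ 0) (π : T) (hπ : Prime π) {c : T} (hc : c ≠ 0)
    (H : ∀ q : T, Prime q → ¬ Associated q π → n ∣ multiplicity q c) :
    ∃ (v w : T) (a : ℕ), IsUnit v ∧ c = v * π ^ a * w ^ n := by
  classical
  suffices h : ∀ c : T, c ≠ 0 → (∀ q : T, Prime q → ¬ Associated q π → n ∣ multiplicity q c) →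
      ∃ (v w : T) (a : ℕ), IsUnit v ∧ c = v * π ^ a * w ^ n from h c hc H
  intro c
  induction c using (wellFounded_dvdNotUnit (α := T)).induction with
  | _ c ih =>
    intro hc H
    by_cases hu : IsUnit c
    · exact ⟨c, 1, 0, hu, by rw [pow_zero, one_pow, mul_one, mul_one]⟩
    obtain ⟨q, hq, hqc⟩ := WfDvdMonoid.exists_irreducible_factor hu hc
    replace hq : Prime q := UniqueFactorizationMonoid.irreducible_iff_prime.1 hq
    by_cases hqπ : Associated q π
    · obtain ⟨c', rfl⟩ := hqπ.dvd_iff_dvd_left.1 hqc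
      have hc' : c' ≠ 0 := right_ne_zero_of_mul hc
      obtain ⟨v, w, a, hv, rfl⟩ := ih c' ⟨hc', π, hπ.not_isUnit, mul_comm _ _⟩ hc' fun r hr hrπ => by
        have h := H r hr hrπ
        rwa [mult_mul hr hπ.ne_zero hc', mult_prime hπ hr, if_neg hrπ, zero_add] at h
      exact ⟨v, w, a + 1, hv, by ring⟩
    · have hpos : n ≤ multiplicity q c :=
        Nat.le_of_dvd (Nat.pos_of_ne_zero fun h => (multiplicity_eq_zero.1 h) hqc) (H q hq hqπ)
      obtain ⟨c', rfl⟩ := (pow_dvd_pow q hpos).trans (pow_multiplicity_dvd q c)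
      have hc' : c' ≠ 0 := right_ne_zero_of_mul hc
      have hnu : ¬ IsUnit (q ^ n) := fun h => hq.not_isUnit ((isUnit_pow_iff hn).1 h)
      obtain ⟨v, w, a, hv, rfl⟩ := ih c' ⟨hc', q ^ n, hnu, mul_comm _ _⟩ hc' fun r hr hrπ => by
        have h := H r hr hrπ
        rw [mult_mul hr (pow_ne_zero n hq.ne_zero) hc', mult_pow hr hq.ne_zero] at h
        exact (Nat.dvd_add_right (Nat.dvd_mul_right n _)).1 h
      exact ⟨v, q * w, a, hv, by ring⟩

theorem dvd_of_mult_le {z b : T} (hz : z ≠ 0)
    (H : ∀ q : T, Prime q → q ∣ z → multiplicity q z ≤ multiplicity q b) : z ∣ b := by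
  classical
  rcases eq_or_ne b 0 with rfl | hb
  · exact dvd_zero z
  revert b
  induction z using UniqueFactorizationMonoid.induction_on_prime with
  | h₁ => exact (hz rfl).elim
  | h₂ x hx => exact fun _ _ => hx.dvd
  | h₃ a p ha hp ih =>
    intro b H hb
    have h1 := H p hp (dvd_mul_right p a)
    rw [mult_mul hp hp.ne_zero ha, mult_prime hp hp, if_pos (Associated.refl p)] at h1
    obtain ⟨b', rfl⟩ : p ∣ b := dvd_of_multiplicity_pos (by omega)
    have hb' : b' ≠ 0 := right_ne_zero_of_mul hb
    refine mul_dvd_mul_left p (ih ha (b := b') (fun q hq hqa => ?_) hb')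
    have h2 := H q hq (hqa.mul_left p)
    rw [mult_mul hq hp.ne_zero ha, mult_mul hq hp.ne_zero hb'] at h2
    omega

/-- The key divisibility: `a·b ∈ (z^(n+1))` forces `z ∣ a` when `b` is exactly `z^n` at the divisors of `z`. -/
theorem dvd_of_exact {n : ℕ} {z a b : T} (hz : z ≠ 0) (hb : b ≠ 0)
    (H : ∀ q : T, Prime q → q ∣ z → multiplicity q b = n * multiplicity q z) (h : z ^ (n + 1) ∣ a * b) :
    z ∣ a := by
  rcases eq_or_ne a 0 with rfl | ha
  · exact dvd_zero z
  refine dvd_of_mult_le hz fun q hq hqz => ?_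
  obtain ⟨d, hd⟩ := h
  have hd0 : d ≠ 0 := fun h0 => mul_ne_zero ha hb (by rw [hd, h0, mul_zero])
  have h' := congrArg (multiplicity q) hd
  rw [mult_mul hq ha hb, mult_mul hq (pow_ne_zero _ hz) hd0, mult_pow hq hz, H q hq hqz, add_one_mul] at h'
  omega

end UFD

section Normal

variable {R : Type u} [CommRing R] [IsDomain R] [IsNoetherianRing R] [IsIntegrallyClosed R]

/-- A series over the fraction field with coefficients in all height one localisations. -/
theorem mem_range_map (z : (FractionRing R)⟦X⟧)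
    (h : ∀ (p : Ideal R) [p.IsPrime], p.height = 1 →
      z ∈ Set.range (PowerSeries.map (algebraMap (Localization.AtPrime p) (FractionRing R)))) :
    z ∈ Set.range (PowerSeries.map (algebraMap R (FractionRing R))) := by
  have hc : ∀ d, coeff d z ∈ Set.range (algebraMap R (FractionRing R)) := fun d =>
    Groth.Agent.S2111.result _ fun p _ hp => by
      obtain ⟨w, rfl⟩ := h p hp
      exact ⟨coeff d w, (PowerSeries.coeff_map _ _ _).symm⟩
  choose r hr using hc
  exact ⟨PowerSeries.mk r, PowerSeries.ext fun d => by rw [PowerSeries.coeff_map, coeff_mk, hr]⟩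

end Normal

end Groth.L27.SmoothLA
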